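import Cfsg.Agent.H940.MCAssemble_m3
import Cfsg.Agent.H715.Fpr.Row4_m3
import Cfsg.Agent.H973.SepHN.ChkB_m3
import Cfsg.Agent.LieExceptional.SingerCentralizer
import Cfsg.Agent.S0270
import Cfsg.Agent.S2142
import Cfsg.Agent.H946.ExcNum_m3
import Cfsg.Agent.S1008
import Cfsg.Agent.S5940
import Cfsg.Agent.S0494
import Cfsg.Agent.S0243
import Cfsg.Agent.S0249
import Mathlib
import Cfsg.Agent.H937.Even
import Cfsg.Agent.H940.MaxCls
import Cfsg.Agent.S0811
import Cfsg.Agent.S0812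
import Cfsg.Agent.S5943
import Cfsg.Agent.SporadicA.PermTab
import Cfsg.Agent.Lib.FastPerm
import Cfsg.Agent.H136.TwF.Peel
import Cfsg.Agent.H248.TwF4Dich
import Cfsg.Agent.TitsThree.RankTwoIdx
import Cfsg.Agent.H392.TwFFour.Bound
import Cfsg.Agent.KFacts.TwF4.Layers
import Cfsg.Agent.H187.TwF4SQ
import Cfsg.Agent.ClassicalGeometry.AutPSL.Root
import Cfsg.Agent.LieClassical.SLGen
import Cfsg.Agent.KFacts.TwF4.TorEx
import Cfsg.Agent.KFacts.TwF4.TorFix
import Cfsg.Agent.H876.NondegMax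
import Cfsg.Agent.H918.UBase
import Cfsg.Agent.ClassicalGeometry.PSUAutBasic
import Cfsg.Agent.LieClassical.SUBasic
import Cfsg.Agent.FooteOdd.SporMEleven
import Cfsg.Agent.H940.EngData
import Cfsg.Agent.FooteOdd.SporMTwelve
import Cfsg.Agent.SporadicA.GolayFast
import Cfsg.Agent.Lib.NodupNat
import Cfsg.Agent.FastGrp
import Cfsg.Agent.Prune
set_option linter.all false

section
prune_inst 0x7ffce8f9abb805dfdfff7e7fa698cdfc38901fffa6dff94bffe061cf03df030801c56b8d09e000fe0ec2e01410a87803f97eceffe26bd87ffffd1ff41ffbee0fa5e7b508119488340f3c0ff703f0778e7f3fffffffffffffffffffffffffffbeffbdffffffff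

-- part: H973/SepHN/ChkF
section
set_option linter.all false

set_option autoImplicit false

namespace Cfsg.Agent.H973.SepHN

open Cfsg.Agent.H940.Eng Cfsg.Agent.H940.Eng.D

/-- a numerical check -/
theorem chkH : chk l_hn n_hn 177408000 177408000 [(2, 3), (3, 4), (5, 3), (19, 1)] [n_hn / 177408000] [] 60 loc o_hn =
    true :=
  H940.EngF.chk_fast (by decide +kernel)

end Cfsg.Agent.H973.SepHN
end

-- part: H999/McPSpB
section
prune_inst 0x313065045700000000000590512000303c00049000000000c8a303c2020860e20942284009000503502000010005002813000090420000000a000000000505010000100431400000220080000000000000000000000000000000000000000000200000000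
set_option linter.all false
open scoped Cfsg.Agent.FastGrp

/-!
# Maximal subgroups of `PSp_{2m}(q)`, rows (helper999, for S5906, S5907)
-/

set_option autoImplicit false
set_option linter.unusedSectionVars false

namespace Cfsg.Agent.H999.McPSp

open Matrix Cfsg Cfsg.Agent.ClassicalGeometry.SympBasic Cfsg.Agent.ClassicalGeometry.SympSiegel
open Cfsg.Agent.H940 Cfsg.Agent.H940.MaxCls Cfsg.Agent.H436

variable {F : Type*} [Field F]

/-- an orthogonal decomposition -/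
theorem exists_dec {a b m : ℕ} (h : a + b = m) :
    ∃ e : ((Fin a ⊕ Fin a → F) × (Fin b ⊕ Fin b → F)) ≃ₗ[F] (Fin m ⊕ Fin m → F),
      ∀ x y, sympForm m F (e x) (e y) = sympForm a F x.1 y.1 + sympForm b F x.2 y.2 := by
  obtain ⟨B, hB⟩ : ∃ B : LinearMap.BilinForm F ((Fin a ⊕ Fin a → F) × (Fin b ⊕ Fin b → F)),
      ∀ u v, B u v = sympForm a F u.1 v.1 + sympForm b F u.2 v.2 :=
    ⟨(sympBilin a F).compl₁₂ (LinearMap.fst F _ _) (LinearMap.fst F _ _) +
      (sympBilin b F).compl₁₂ (LinearMap.snd F _ _) (LinearMap.snd F _ _), fun u v => rfl⟩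
  obtain ⟨e, he⟩ := ClassicalGeometry.SympIso.exists_linearEquiv_sympForm B
    (fun x => by rw [hB, sympForm_self, sympForm_self, add_zero])
    (fun u hu => by
      apply Prod.ext
      · refine eq_zero_of_forall_sympForm_right fun v => ?_
        have := hu (v, 0)
        rw [hB, sympForm_zero_right, add_zero] at this
        exact this
      · refine eq_zero_of_forall_sympForm_right fun v => ?_
        have := hu (0, v)
        rw [hB, sympForm_zero_right, zero_add] at this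
        exact this) (k := m) (by simp; omega)
  refine ⟨e.symm, fun x y => ?_⟩
  rw [← he, e.apply_symm_apply, e.apply_symm_apply, hB]

section Fin

variable {m : ℕ} [Fintype F]

local notation "V" => (Fin m ⊕ Fin m → F)
local notation "G" => Matrix.symplecticGroup (Fin m) F

/-- the product of the orders of the tori in `|Sp|` -/
def tor (q m : ℕ) : ℕ := ∏ i ∈ Finset.range m, (q ^ (2 * (i + 1)) - 1)

theorem card_sp (m : ℕ) : Nat.card (Matrix.symplecticGroup (Fin m) F) =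
    Fintype.card F ^ (m ^ 2) * tor (Fintype.card F) m :=
  LieClassical.SympCount.card_symplecticGroup m

theorem coprime_tor {q : ℕ} (hq : 1 ≤ q) (m : ℕ) : Nat.Coprime q (tor q m) := by
  refine Nat.Coprime.prod_right fun i _ => ?_
  have h1 : 1 ≤ q ^ (2 * (i + 1)) := Nat.one_le_pow _ _ hq
  have h2 : Nat.Coprime (q ^ (2 * (i + 1))) (q ^ (2 * (i + 1)) - 1) := by
    rw [Nat.coprime_self_sub_right h1]
    exact Nat.coprime_one_right _
  exact Nat.Coprime.coprime_dvd_left (dvd_pow_self q (by omega)) h2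

/-- **the index of `D e` is divisible by `p`** -/
theorem dvd_index_D {k p : ℕ} (hk : 1 ≤ k) (hm : 1 + k = m) [hp : Fact p.Prime] [CharP F p]
    (e : ((Fin 1 ⊕ Fin 1 → F) × (Fin k ⊕ Fin k → F)) ≃ₗ[F] (Fin m ⊕ Fin m → F))
    (he : ∀ x y, sympForm m F (e x) (e y) = sympForm 1 F x.1 y.1 + sympForm k F x.2 y.2) :
    p ∣ (D e).index := by
  have hq : 1 < Fintype.card F := Fintype.one_lt_card
  have h1 : Fintype.card F ^ (m ^ 2) ∣ 2 * (Nat.card (Matrix.symplecticGroup (Fin 1) F) *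
      Nat.card (Matrix.symplecticGroup (Fin k) F)) * (D e).index := by
    refine dvd_trans ?_ (mul_dvd_mul_right (card_D_dvd e he le_rfl) _)
    rw [Subgroup.card_mul_index, card_sp]
    exact dvd_mul_right _ _
  rw [card_sp, card_sp] at h1
  have h2 : 2 * (Fintype.card F ^ 1 ^ 2 * tor (Fintype.card F) 1 * (Fintype.card F ^ k ^ 2 * tor (Fintype.card F) k)) *
      (D e).index = (tor (Fintype.card F) 1 * tor (Fintype.card F) k) *
        (Fintype.card F ^ (1 + k ^ 2) * (2 * (D e).index)) := by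
    rw [pow_add, one_pow]; ring
  rw [h2] at h1
  have h3 : Nat.Coprime (Fintype.card F ^ (m ^ 2)) (tor (Fintype.card F) 1 * tor (Fintype.card F) k) :=
    Nat.Coprime.pow_left _ (Nat.Coprime.mul_right (coprime_tor hq.le 1) (coprime_tor hq.le k))
  have h4 := h3.dvd_of_dvd_mul_left h1
  have h5 : m ^ 2 = (1 + k ^ 2) + 2 * k := by rw [← hm]; ring
  rw [h5, pow_add] at h4
  have h6 := Nat.dvd_of_mul_dvd_mul_left (Nat.pow_pos (by omega)) h4
  have h7 : p ^ 2 ∣ 2 * (D e).index := by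
    refine dvd_trans ?_ h6
    obtain ⟨n, -, hn⟩ := FiniteField.card F p
    rw [hn, ← pow_mul]
    exact pow_dvd_pow _ (by have := n.pos; nlinarith)
  rcases Nat.Prime.eq_two_or_odd' hp.out with h8 | h8
  · subst h8
    obtain ⟨c, hc⟩ := h7
    exact ⟨c, by omega⟩
  · refine Nat.Coprime.dvd_of_dvd_mul_left ?_ (dvd_trans (dvd_pow_self p two_ne_zero) h7)
    exact (Nat.coprime_primes hp.out Nat.prime_two).2 (by rintro rfl; revert h8; decide)

/-- the projection -/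
def pr (m : ℕ) (F : Type*) [Field F] : Matrix.symplecticGroup (Fin m) F →* PSp m F :=
  QuotientGroup.mk' (Subgroup.center (Matrix.symplecticGroup (Fin m) F))

omit [Fintype F] in
theorem pr_surjective : Function.Surjective (pr m F) := QuotientGroup.mk'_surjective _

omit [Fintype F] in
theorem ker_pr : (pr m F).ker = Subgroup.center G := QuotientGroup.ker_mk' _

/-- **`N` : the stabilizer of `{U, U^⊥}`, `dim U = 2`, in `PSp`** -/
theorem psp_coatom {m : ℕ} (hm : 2 ≤ m) {p : ℕ} [Fact p.Prime] [CharP F p] :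
    ∃ A : Subgroup (PSp m F), IsCoatom A ∧ p ∣ A.index ∧
      Nat.card A ∣ 2 * (Nat.card (Matrix.symplecticGroup (Fin 1) F) *
        Nat.card (Matrix.symplecticGroup (Fin (m - 1)) F)) := by
  obtain ⟨e, he⟩ := exists_dec (F := F) (a := 1) (b := m - 1) (m := m) (by omega)
  refine ⟨(D e).map (pr m F), ?_, ?_, ?_⟩
  · exact isCoatom_map _ pr_surjective (isCoatom_D e he le_rfl (by omega)) (by rw [ker_pr]; exact center_le_D e)
  · rw [index_map _ pr_surjective (by rw [ker_pr]; exact center_le_D e)]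
    exact dvd_index_D (by omega) (by omega) e he
  · exact dvd_trans (Subgroup.card_map_dvd _ _) (card_D_dvd e he le_rfl)

theorem psp_five_ge4 {m : ℕ} (hm : 4 ≤ m) : MaxCls.Sep 5 (PSp m F) := by
  obtain ⟨p, hp⟩ := CharP.exists F
  have : Fact p.Prime := ⟨CharP.char_is_prime F p⟩
  obtain ⟨A, hA, hi, -⟩ := psp_coatom (F := F) (m := m) (p := p) (by omega)
  have h1 := SepTyp.sep_typ_coatoms (Omega.ML.Ex.Typ.typ_PSp (F := F) (m := m) (p := p) (by omega)) (k := 1)
    (fun _ => A) (fun _ => hA) (fun i j hij => absurd hij (by rw [Subsingleton.elim i j]; exact lt_irrefl _))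
    (fun _ => hi)
  exact h1.mono (by omega)

/-! ### subgroups containing a Sylow `p`-subgroup -/

omit [Fintype F] in
theorem K_scale {H : Subgroup G} {v : V} (hv : v ∈ K H) (c : F) : c • v ∈ K H := by
  intro d
  rw [transv_smul_vec]
  exact hv _

omit [Fintype F] in
/-- a subgroup containing the unipotent radical of the stabilizer of `⟨e⟩` and moving `⟨e⟩` off `e^⊥` -/
theorem eq_top_of_Q {H : Subgroup G} {e : V} (hQ : Q e ≤ H) {h : G} (hh : h ∈ H)
    (hne : sympForm m F e (h • e) ≠ 0) : H = ⊤ := by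
  have he : e ≠ 0 := by
    rintro rfl
    exact hne (sympForm_zero_left _)
  have heK : e ∈ K H := fun c => hQ (transv_mem_Q e c)
  obtain ⟨w, hw⟩ : ∃ w, w = h • e := ⟨_, rfl⟩
  have hwK : w ∈ K H := by rw [hw]; exact K_smul hh heK
  rw [← hw] at hne
  have h1 : ∀ v : V, sympForm m F e v ≠ 0 → v ∈ K H := by
    intro v hv
    obtain ⟨v', hv'⟩ : ∃ v' : V, v' = (sympForm m F e w * (sympForm m F e v)⁻¹) • v := ⟨_, rfl⟩
    have h2 : sympForm m F e v' = sympForm m F e w := by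
      rw [hv', sympForm_smul_right, mul_assoc, inv_mul_cancel₀ hv, mul_one]
    have h3 : v' ∈ K H := by
      obtain ⟨u, hu⟩ : ∃ u : V, u = (sympForm m F e w)⁻¹ • (v' - w) := ⟨_, rfl⟩
      have h4 : sympForm m F e u = 0 := by
        rw [hu, sympForm_smul_right, sympForm_sub_right, h2, sub_self, mul_zero]
      have h5 : siegel e u (-(sympForm m F u w) * (sympForm m F e w)⁻¹) • w = v' := by
        rw [siegel_smul h4, smul_add]
        have h6 : sympForm m F e w • u = v' - w := by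
          rw [hu, smul_smul, mul_inv_cancel₀ hne, one_smul]
        rw [h6, smul_smul]
        have h7 : sympForm m F e w * (-sympForm m F u w * (sympForm m F e w)⁻¹) = - sympForm m F u w := by
          field_simp
        rw [h7]
        module
      rw [← h5]
      exact K_smul (hQ (siegel_mem_Q h4 _)) hwK
    have h8 : v = (sympForm m F e v * (sympForm m F e w)⁻¹) • v' := by
      rw [hv', smul_smul]
      have : sympForm m F e v * (sympForm m F e w)⁻¹ * (sympForm m F e w * (sympForm m F e v)⁻¹) = 1 := by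
        field_simp
      rw [this, one_smul]
    rw [h8]
    exact K_scale h3 _
  apply eq_top_of_K
  intro x
  by_cases hx : sympForm m F e x = 0
  · by_cases hx0 : x = 0
    · subst hx0
      intro c
      have : transv (0 : V) c = 1 := by
        apply ext_smul
        intro y
        rw [transv_smul, smul_zero, add_zero, one_smul]
      rw [this]
      exact H.one_mem
    obtain ⟨y, hy1, hy2⟩ := exists_both_ne_zero hx0 he
    have h2 : x + y ∈ K H := h1 _ (by rw [sympForm_add_right, hx, zero_add]; exact hy2)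
    have h3 : transv y (-(sympForm m F x y)⁻¹) • (x + y) = x := by
      rw [transv_smul, sympForm_add_left, sympForm_self, add_zero, neg_mul, inv_mul_cancel₀ hy1]
      module
    rw [← h3]
    exact K_smul (h1 y hy2 _) h2
  · exact h1 x hx

/-- a subgroup of index prime to `p` contains some `Q e` -/
theorem exists_Q_le (hm : 1 ≤ m) {p : ℕ} [Fact p.Prime] [CharP F p] {H : Subgroup G} (hi : ¬ p ∣ H.index) :
    ∃ e : V, e ≠ 0 ∧ Q e ≤ H := by
  obtain ⟨v0, hv0⟩ : ∃ v : V, v ≠ 0 := ⟨Pi.single (Sum.inl ⟨0, hm⟩) 1, by simp⟩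
  have hP := isPGroup_Q p v0
  have h1 : ¬ p ∣ Nat.card (G ⧸ H) := by rwa [← Subgroup.index_eq_card]
  obtain ⟨x, hx⟩ := hP.nonempty_fixed_point_of_prime_not_dvd_card (G ⧸ H) h1
  obtain ⟨g, rfl⟩ := QuotientGroup.mk_surjective x
  refine ⟨g⁻¹ • v0, smul_ne_zero' _ hv0, fun y hy => ?_⟩
  have h2 : g * y * g⁻¹ ∈ Q v0 := by
    have h3 := (smul_mem_Q_iff g (g⁻¹ • v0) y).2 hy
    rwa [smul_inv_smul] at h3
  have h4 := hx ⟨_, h2⟩
  have h5 : (QuotientGroup.mk (g * y * g⁻¹ * g) : G ⧸ H) = QuotientGroup.mk g := h4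
  rw [eq_comm, QuotientGroup.eq] at h5
  have h6 : g⁻¹ * (g * y * g⁻¹ * g) = y := by group
  rwa [h6] at h5

/-- an element of order `r`, a primitive prime divisor of `q ^ (2m) - 1` -/
theorem exists_pow_form {r : ℕ} (hr : Prim (Fintype.card F) (2 * m) r) {y : G} (hy : orderOf y = r) {e : V}
    (he : e ≠ 0) : ∃ i : ℕ, sympForm m F e (y ^ i • e) ≠ 0 := by
  by_contra hc
  push Not at hc
  obtain ⟨g, hg⟩ : ∃ g : Module.End F V, ∀ v, g v = y • v :=
    ⟨Matrix.toLin' (y : Matrix (Fin m ⊕ Fin m) (Fin m ⊕ Fin m) F), fun v => rfl⟩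
  have hpow : ∀ (n : ℕ) (v : V), (g ^ n) v = y ^ n • v := by
    intro n
    induction n with
    | zero => intro v; simp
    | succ n ih => intro v; rw [pow_succ, pow_succ, Module.End.mul_apply, hg, ih, mul_smul]
  have hgr : g ^ r = 1 := by
    refine LinearMap.ext fun v => ?_
    rw [hpow, ← hy, pow_orderOf_eq_one, one_smul]
    rfl
  have hg1 : g ≠ 1 := by
    intro h
    have h1 : y = 1 := by
      apply ext_smul
      intro v
      rw [← hg, h, one_smul]
      rfl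
    rw [h1, orderOf_one] at hy
    exact hr.prime.one_lt.ne hy
  have hfin : Module.finrank F V = 2 * m := by
    rw [Module.finrank_fintype_fun_eq_card]
    simp
    omega
  let W : Submodule F V := Submodule.span F (Set.range fun i : ℕ => y ^ i • e)
  have hW : ∀ w ∈ W, g w ∈ W := by
    intro w hw
    have h1 : W ≤ W.comap g := by
      rw [Submodule.span_le]
      rintro _ ⟨i, rfl⟩
      change g (y ^ i • e) ∈ W
      rw [hg, ← mul_smul, ← pow_succ']
      exact Submodule.subset_span ⟨i + 1, rfl⟩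
    exact h1 hw
  have heW : e ∈ W := Submodule.subset_span ⟨0, by simp⟩
  rcases LieExceptional.SingerCentralizer.invariant_eq_bot_or_top hr.prime hgr hg1
    (by rw [hfin, Nat.card_eq_fintype_card]; exact hr.dvd dvd_rfl)
    (fun d hd hd2 => by
      rw [hfin] at hd2
      rw [Nat.card_eq_fintype_card]
      exact hr.not_dvd_sub fun h => absurd (Nat.le_of_dvd hd h) (by omega)) W hW with h | h
  · rw [h, Submodule.mem_bot] at heW
    exact he heW
  · obtain ⟨v, hv⟩ := exists_form_eq_one he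
    have h1 : W ≤ LinearMap.ker (sympBilin m F e) := by
      rw [Submodule.span_le]
      rintro _ ⟨i, rfl⟩
      exact hc i
    have h2 : v ∈ W := by rw [h]; trivial
    have h3 : sympForm m F e v = 0 := h1 h2
    rw [hv] at h3
    exact one_ne_zero h3

/-- **irreducible cyclic subgroups are apart from the Borel subgroup** -/
theorem apart_prim (hm : 1 ≤ m) {p : ℕ} [Fact p.Prime] [CharP F p] (S : Sylow p (PSp m F)) {r : ℕ}
    (hr : Prim (Fintype.card F) (2 * m) r) {x : G} (hx : orderOf x = r) :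
    Apart (Subgroup.normalizer ((S : Subgroup (PSp m F)) : Set (PSp m F))) (Subgroup.zpowers (pr m F x)) := by
  intro g K h1 h2
  obtain ⟨g', rfl⟩ := pr_surjective g
  have hi : ¬ p ∣ (K.comap (pr m F)).index := by
    rw [Subgroup.index_comap_of_surjective _ pr_surjective]
    intro hd
    exact S.not_dvd_index (hd.trans (Subgroup.index_dvd_of_le (Subgroup.le_normalizer.trans h1)))
  obtain ⟨e, he, hQ⟩ := exists_Q_le hm hi
  have hy : g' * x * g'⁻¹ ∈ K.comap (pr m F) := by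
    rw [Subgroup.mem_comap, map_mul, map_mul, map_inv]
    exact h2 _ (Subgroup.mem_zpowers _)
  obtain ⟨i, hi⟩ := exists_pow_form hr (y := g' * x * g'⁻¹) (by
    rw [← hx]; exact orderOf_injective (MulAut.conj g').toMonoidHom (MulAut.conj g').injective x) he
  have h3 := eq_top_of_Q hQ (pow_mem hy i) hi
  rw [← Subgroup.map_comap_eq_self_of_surjective (pr_surjective (F := F) (m := m)) K, h3]
  exact Subgroup.map_top_of_surjective _ pr_surjective

theorem orderOf_pr {m : ℕ} (hm : 1 ≤ m) {r : ℕ} (hr : r.Prime) (hr2 : r ≠ 2) {x : Matrix.symplecticGroup (Fin m) F}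
    (hx : orderOf x = r) : orderOf (pr m F x) = r := by
  have : Fact r.Prime := ⟨hr⟩
  apply orderOf_eq_prime
  · rw [← map_pow, ← hx, pow_orderOf_eq_one, map_one]
  · intro h
    have h1 : x ∈ Subgroup.center (Matrix.symplecticGroup (Fin m) F) := by
      rw [← ker_pr]; exact h
    have h2 : orderOf x ∣ Nat.gcd 2 (Fintype.card F - 1) := by
      rw [← LieClassical.SympCenter.card_center hm]
      exact Subgroup.orderOf_dvd_natCard _ h1
    rw [hx] at h2
    exact hr2 ((Nat.prime_dvd_prime_iff_eq hr Nat.prime_two).1 (h2.trans (Nat.gcd_dvd_left _ _)))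

/-- **rank `m`, the stabilizer of a nondegenerate 2-space and an irreducible cyclic group** -/
theorem psp_succ {m : ℕ} (hm : 2 ≤ m) (h6 : ¬ (Fintype.card F = 2 ∧ 2 * m = 6)) : MaxCls.Sep (m + 2) (PSp m F) := by
  obtain ⟨p, hp⟩ := CharP.exists F
  have : Fact p.Prime := ⟨CharP.char_is_prime F p⟩
  obtain ⟨A, hA, hi, hc⟩ := psp_coatom (F := F) (m := m) (p := p) hm
  have hq : 1 < Fintype.card F := Fintype.one_lt_card
  obtain ⟨r, hr⟩ := exists_prim (q := Fintype.card F) (e := 2 * m) hq (by omega) h6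
  have hr2 : r ≠ 2 := by
    have := hr.odd (by omega)
    rintro rfl
    omega
  have : Fact r.Prime := ⟨hr.prime⟩
  have hrd : r ∣ Nat.card (Matrix.symplecticGroup (Fin m) F) := by
    rw [card_sp, tor]
    refine Dvd.dvd.mul_left ?_ _
    refine dvd_trans ?_ (Finset.dvd_prod_of_mem _ (Finset.mem_range.2 (show m - 1 < m by omega)))
    rw [show m - 1 + 1 = m by omega]
    exact hr.dvd dvd_rfl
  obtain ⟨x, hx⟩ := exists_prime_orderOf_dvd_card' r hrd
  have hx' := orderOf_pr (F := F) (m := m) (by omega) hr.prime hr2 hx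
  have hrA : ¬ r ∣ Nat.card A := by
    intro h
    have h1 := h.trans hc
    rw [card_sp, card_sp] at h1
    have h2 : ∀ k, k < m → ¬ r ∣ tor (Fintype.card F) k := by
      intro k hk hd
      rw [tor, Prime.dvd_finsetProd_iff hr.prime.prime] at hd
      obtain ⟨i, hi, hd⟩ := hd
      rw [Finset.mem_range] at hi
      exact hr.not_dvd_sub (fun h => absurd (Nat.le_of_dvd (by omega) h) (by omega)) hd
    rcases hr.prime.dvd_mul.1 h1 with h3 | h3
    · exact hr2 ((Nat.prime_dvd_prime_iff_eq hr.prime Nat.prime_two).1 h3)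
    rcases hr.prime.dvd_mul.1 h3 with h3 | h3 <;> rcases hr.prime.dvd_mul.1 h3 with h3 | h3
    · exact hr.not_dvd_pow _ h3
    · exact h2 1 (by omega) h3
    · exact hr.not_dvd_pow _ h3
    · exact h2 (m - 1) (by omega) h3
  obtain ⟨S⟩ : Nonempty (Sylow p (PSp m F)) := inferInstance
  have hcard : Nat.card (Subgroup.zpowers (pr m F x)) = r := by rw [Nat.card_zpowers, hx']
  have h1 := SepTyp.sep_typ_coatoms_succ (Omega.ML.Ex.Typ.typ_PSp (F := F) (m := m) (p := p) (by omega)) S (k := 1)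
    (fun _ => A) (fun _ => hA) (fun i j hij => absurd hij (by rw [Subsingleton.elim i j]; exact lt_irrefl _))
    (fun _ => hi) (E := Subgroup.zpowers (pr m F x)) ?_ ?_ (apart_prim (by omega) S hr hx)
  · exact h1
  · intro h
    have h2 : Nat.card (PSp m F) = r := by rw [← hcard, h, Subgroup.card_top]
    have h3 : p ∣ r := by
      rw [← h2]
      exact hi.trans A.index_dvd_card
    have h4 : p = r := (Nat.prime_dvd_prime_iff_eq Fact.out hr.prime).1 h3
    apply hr.not_dvd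
    rw [← h4]
    obtain ⟨n, -, hn⟩ := FiniteField.card F p
    rw [hn]
    exact dvd_pow_self p n.ne_zero
  · intro _ g
    refine ⟨pr m F x, Subgroup.mem_zpowers _, fun h => hrA ?_⟩
    have h2 : orderOf (g * pr m F x * g⁻¹) = r := by
      rw [← hx']; exact orderOf_injective (MulAut.conj g).toMonoidHom (MulAut.conj g).injective _
    have h3 := Subgroup.orderOf_dvd_natCard A h
    rwa [h2] at h3

/-- `PSp₆(q)`, `q ≥ 3` -/
theorem psp_five_3 (h : 3 ≤ Fintype.card F) : MaxCls.Sep 5 (PSp 3 F) :=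
  psp_succ (by norm_num) (by omega)

/-- `Sp₆(2)` -/
theorem psp_3_2 (h2 : Fintype.card F = 2) : MaxCls.Sep 5 (PSp 3 F) := by
  obtain ⟨p, hp⟩ := CharP.exists F
  have : Fact p.Prime := ⟨CharP.char_is_prime F p⟩
  have hp2 : p = 2 := by
    obtain ⟨n, hpp, hn⟩ := FiniteField.card F p
    rw [h2] at hn
    exact ((Nat.prime_dvd_prime_iff_eq hpp Nat.prime_two).1 (by rw [hn]; exact dvd_pow_self p n.ne_zero))
  subst hp2
  obtain ⟨A, hA, hi, hc⟩ := psp_coatom (F := F) (m := 3) (p := 2) (by norm_num)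
  obtain ⟨E, hE⟩ := (S2142.result h2 3 le_rfl).2
  norm_num at hE
  have hsimple : IsSimpleGroup (PSp 3 F) := S0270.result 3 (by norm_num) (by norm_num)
  have hcard : Nat.card (PSp 3 F) = 1451520 := by
    have h3 : Nat.card (Matrix.symplecticGroup (Fin 3) F) = Nat.card (PSp 3 F) *
        Nat.card (Subgroup.center (Matrix.symplecticGroup (Fin 3) F)) :=
      Subgroup.card_eq_card_quotient_mul_card_subgroup _
    rw [LieClassical.SympCenter.card_center (by norm_num), card_sp, h2, tor] at h3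
    rw [Finset.prod_range_succ, Finset.prod_range_succ, Finset.prod_range_succ, Finset.prod_range_zero] at h3
    norm_num at h3
    exact h3.symm
  have hcE : Nat.card E = 51840 := by
    have h3 := Subgroup.card_mul_index E
    rw [hE, hcard] at h3
    omega
  obtain ⟨S⟩ : Nonempty (Sylow 2 (PSp 3 F)) := inferInstance
  have hEtop : E ≠ ⊤ := by
    rintro rfl
    rw [Subgroup.index_top] at hE
    omega
  refine SepTyp.sep_typ_coatoms_succ (Omega.ML.Ex.Typ.typ_PSp (F := F) (m := 3) (p := 2) (by norm_num)) S (k := 1)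
    (fun _ => A) (fun _ => hA) (fun i j hij => absurd hij (by rw [Subsingleton.elim i j]; exact lt_irrefl _))
    (fun _ => hi) (E := E) hEtop ?_ ?_
  · intro _ g
    by_contra hc2
    push Not at hc2
    have h3 : 51840 ∣ Nat.card A := by
      rw [← hcE, ← card_map_conj g]
      exact Subgroup.card_dvd_of_le (map_conj_le hc2)
    have h4 := h3.trans hc
    rw [card_sp, card_sp, h2, tor, tor] at h4
    rw [Finset.prod_range_succ, Finset.prod_range_zero, Finset.prod_range_succ, Finset.prod_range_succ,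
      Finset.prod_range_zero] at h4
    norm_num at h4
  · intro g K h3 h4
    by_contra hK
    have h5 : ¬ 2 ∣ K.index := fun hd =>
      S.not_dvd_index (hd.trans (Subgroup.index_dvd_of_le (Subgroup.le_normalizer.trans h3)))
    have h6 : 51840 ∣ Nat.card K := by
      rw [← hcE, ← card_map_conj g]
      exact Subgroup.card_dvd_of_le (map_conj_le h4)
    have h7 := Subgroup.card_mul_index K
    rw [hcard] at h7
    obtain ⟨c, hc3⟩ := h6
    have h8 : c * K.index = 28 := by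
      rw [hc3] at h7
      have : 51840 * (c * K.index) = 51840 * 28 := by rw [← mul_assoc, h7]
      omega
    have h9 : K.index ∣ 28 := ⟨c, by rw [← h8, mul_comm]⟩
    have h10 : K.index ≤ 28 := Nat.le_of_dvd (by norm_num) h9
    have h11 := card_dvd_factorial hK
    rw [hcard] at h11
    obtain ⟨n, hn⟩ : ∃ n, n = K.index := ⟨_, rfl⟩
    rw [← hn] at h5 h9 h10 h11
    have h12 : n = 1 ∨ n = 7 := by
      interval_cases n <;> revert h5 h9 <;> decide
    rcases h12 with rfl | rfl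
    · revert h11; decide
    · revert h11; decide

/-- **all `m ≥ 3`** -/
theorem psp_five {m : ℕ} (hm : 3 ≤ m) : MaxCls.Sep 5 (PSp m F) := by
  have hq : 1 < Fintype.card F := Fintype.one_lt_card
  rcases Nat.lt_or_ge 3 m with h | h
  · exact psp_five_ge4 h
  · obtain rfl : m = 3 := le_antisymm h hm
    rcases Nat.lt_or_ge 2 (Fintype.card F) with h2 | h2
    · exact psp_five_3 h2
    · exact psp_3_2 (by omega)

end Fin

end Cfsg.Agent.H999.McPSp

private theorem dce_7abab67abb7c : _root_.True := by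
  try have : _root_.True := by simp only [_root_.Cfsg.Agent.H999.McPSp.tor.eq_1]
  exact _root_.True.intro
end

-- part: H940/RowsA_mg
section
prune_inst 0x317021440f80020000000596112020146c00059000200001c9a20ec0020063a2090229400d801502002a220100050008130000d0004000000400040000050521808014043100010c260089801004000000000000000000000000000000000004200000000
set_option linter.all false
open scoped Cfsg.Agent.FastGrp

-- part: H807/MaxPSL/Five
section
/-!
# `PSL₂(q)`, `q` odd: at least five classes of maximal subgroups (task of helper940, S5906, S5907)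
-/

set_option autoImplicit false
set_option linter.style.haveILetI false

namespace Cfsg.Agent.H807.MaxPSL

open Matrix Cfsg.Agent.H937 Cfsg.Agent.H940.MaxCls
open Cfsg.Agent.ClassicalGeometry.PSL2Basic
open Cfsg.Agent.ClassicalGeometry.KleinCount

variable {F : Type*} [Field F]

/-- five maximal subgroups, two of them conjugate in `PGL` -/
theorem sep_split [Fintype F] (hodd : Odd (Fintype.card F)) {B D E A : Subgroup (PSL F)}
    (hB : IsCoatom B) (hD : IsCoatom D) (hE : IsCoatom E) (hA : IsCoatom A)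
    (hn : ∀ x : PGL F, cj x (A.map (ta : PSL F →* PGL F)) = A.map ta → x ∈ LL F)
    (hBD : Apart B D) (hBE : Apart B E) (hDE : Apart D E)
    (hBA : ¬ Nonempty (B ≃* A)) (hDA : ¬ Nonempty (D ≃* A)) (hEA : ¬ Nonempty (E ≃* A)) :
    Sep 5 (PSL F) := by
  obtain ⟨A', hA', ⟨e⟩, hne, -⟩ := exists_split hodd hA hn
  have key : ∀ {X : Subgroup (PSL F)}, ¬ Nonempty (X ≃* A) → ¬ Nonempty (X ≃* A') := fun h ⟨e'⟩ =>
    h ⟨e'.trans e.symm⟩
  exact sep_five hB.1 hD.1 hE.1 hA.1 hA'.1 hBD hBE (apart_of_not_iso hB hA hBA)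
    (apart_of_not_iso hB hA' (key hBA)) hDE (apart_of_not_iso hD hA hDA) (apart_of_not_iso hD hA' (key hDA))
    (apart_of_not_iso hE hA hEA) (apart_of_not_iso hE hA' (key hEA)) (apart_of_not_conj hA hA' hne)

theorem not_iso_of_card {G : Type*} [Group G] {A B : Subgroup G} (h : Nat.card A ≠ Nat.card B) :
    ¬ Nonempty (A ≃* B) := fun ⟨e⟩ => h (Nat.card_congr e.toEquiv)

/-- the numbers `x ^ 3 - x` -/
theorem cube_sub_lt {x y : ℕ} (hx : 1 ≤ x) (h : x < y) : x ^ 3 + y < y ^ 3 + x := by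
  obtain ⟨s, rfl⟩ := Nat.exists_eq_add_of_lt h
  have h4 : (x + s + 1) ^ 3 = x ^ 3 + (s + 1) * (3 * x ^ 2 + 3 * x * (s + 1) + (s + 1) ^ 2) := by ring
  have h5 : 2 ≤ 3 * x ^ 2 + 3 * x * (s + 1) + (s + 1) ^ 2 := by nlinarith
  nlinarith

private def Qd (p : ℕ) : Prop := ¬ (p % 40 = 3 ∨ p % 40 = 37 ∨ p % 40 = 13 ∨ p % 40 = 27)

set_option synthInstance.maxSize 2000 in
private theorem qd_ten {p : ℕ} (h : Qd p) (h2 : p % 2 = 1) (h5 : p % 5 ≠ 0) (h8 : ¬ (p % 8 = 1 ∨ p % 8 = 7)) :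
    p % 10 = 1 ∨ p % 10 = 9 := by
  have key : ∀ x < 40, ¬ (x = 3 ∨ x = 37 ∨ x = 13 ∨ x = 27) → x % 2 = 1 → x % 5 ≠ 0 → ¬ (x % 8 = 1 ∨ x % 8 = 7) →
      x % 10 = 1 ∨ x % 10 = 9 := by decide +kernel
  have h0 := key (p % 40) (Nat.mod_lt _ (by decide)) h
  rw [Nat.mod_mod_of_dvd p (by decide : 2 ∣ 40), Nat.mod_mod_of_dvd p (by decide : 5 ∣ 40),
    Nat.mod_mod_of_dvd p (by decide : 8 ∣ 40), Nat.mod_mod_of_dvd p (by decide : 10 ∣ 40)] at h0
  exact h0 h2 h5 h8

theorem odd_five {p f : ℕ} [Fintype F] (hp : p.Prime) (h2 : p ≠ 2) (hf : 1 ≤ f) (hF : Fintype.card F = p ^ f)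
    (h5 : 5 < p ^ f) (h7 : p ^ f ≠ 7) (h11 : p ^ f ≠ 11)
    (h1 : f = 1 → ¬ (p % 40 = 3 ∨ p % 40 = 37 ∨ p % 40 = 13 ∨ p % 40 = 27))
    (h : ¬ ∃ r m : ℕ, r.Prime ∧ r ≠ 2 ∧ 1 ≤ m ∧ f = r ^ m) :
    Sep 5 (Matrix.ProjectiveSpecialLinearGroup (Fin 2) F) := by
  replace h1 : f = 1 → Qd p := h1
  haveI : Fact p.Prime := ⟨hp⟩
  have hpodd : Odd p := hp.odd_of_ne_two h2
  have hodd : Odd (Fintype.card F) := by rw [hF]; exact hpodd.pow
  haveI : CharP F p := charP_of_card_eq_prime_pow hF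
  have hq5 : 5 ≤ Fintype.card F := by omega
  obtain ⟨B, hB, -, hBc⟩ := exists_borel hodd (by omega)
  have hpodd' := Nat.odd_iff.1 hpodd
  have hodd' := Nat.odd_iff.1 hodd
  -- the order of the Borel subgroup
  have hBlt : ∀ c, 2 * c < Fintype.card F * (Fintype.card F - 1) → Nat.card B ≠ c := by
    intro c hc h
    rw [h] at hBc
    omega
  have hmul : 6 * (Fintype.card F - 1) ≤ Fintype.card F * (Fintype.card F - 1) :=
    Nat.mul_le_mul_right _ (by omega)
  rcases Nat.even_or_odd f with he | ho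
  · -- `f` even
    obtain ⟨g, hg⟩ := he
    have hg0 : g ≠ 0 := by omega
    have hFg : Nat.card F = (p ^ g) ^ 2 := by
      rw [Nat.card_eq_fintype_card, hF, hg, ← pow_mul]
      congr 1
      omega
    obtain ⟨k, hk⟩ := exists_subfield_card (F := F) (p := p) hg0 hFg
    have hFk : Nat.card F = Nat.card k ^ 2 := by rw [hk, hFg]
    have hFk' : Fintype.card F = Nat.card k ^ 2 := by rw [← Nat.card_eq_fintype_card, hFk]
    obtain ⟨A, hA, hAc⟩ := exists_PG hodd hFk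
    have hAn := norm_PG p hodd hq5 hA hFk hAc
    have hk3 : 3 ≤ Nat.card k := by
      have h3 : 1 < Nat.card k := Finite.one_lt_card
      have h4 : Nat.card k ≠ 2 := by
        intro h4
        rw [hFk', h4] at hq5
        omega
      omega
    have hA2 : Nat.card A = Nat.card k * (Fintype.card F - 1) := by
      rw [hFk', Nat.mul_sub, mul_one]
      have h3 : Nat.card k * Nat.card k ^ 2 = Nat.card k ^ 3 := by ring
      omega
    have hkF : 3 * Nat.card k ≤ Fintype.card F := by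
      rw [hFk', pow_two]
      exact Nat.mul_le_mul_right _ hk3
    have h3A : 3 * (Fintype.card F - 1) ≤ Nat.card A := by
      rw [hA2]
      exact Nat.mul_le_mul_right _ hk3
    have hBA : Nat.card B ≠ Nat.card A := by
      apply hBlt
      rw [hA2, ← mul_assoc]
      apply Nat.mul_lt_mul_of_pos_right
      · omega
      · omega
    by_cases h9 : Fintype.card F = 9
    · -- `q = 9`
      have hpf : p ^ f = 3 ^ 2 := by rw [← hF, h9]; norm_num
      have hp3 : p = 3 := by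
        have h3 : p ∣ 3 ^ 2 := by rw [← hpf]; exact dvd_pow_self p (by omega)
        exact (Nat.prime_dvd_prime_iff_eq hp Nat.prime_three).1 (hp.dvd_of_dvd_pow h3)
      subst hp3
      obtain ⟨S, hS, hSe⟩ := Cfsg.Agent.S5939.result (F := F) 3 (Or.inr ⟨by rw [h9]; norm_num, Or.inl (by norm_num)⟩)
      have hSn := norm_A5 3 (by norm_num) hodd hq5 hS hSe
      have hSc : Nat.card S = 60 := by
        obtain ⟨e⟩ := hSe
        rw [Nat.card_congr e.toEquiv, card_A5]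
      have hk3' : Nat.card k = 3 := by
        rw [h9] at hkF
        omega
      have hA24 : Nat.card A = 24 := by rw [hA2, hk3', h9]
      have hB36 : Nat.card B = 36 := by rw [h9] at hBc; omega
      obtain ⟨A', hA', ⟨e⟩, hne, -⟩ := exists_split hodd hA hAn
      obtain ⟨S', hS', ⟨e'⟩, hne', -⟩ := exists_split hodd hS hSn
      have hA24' : Nat.card A' = 24 := by rw [← Nat.card_congr e.toEquiv, hA24]
      have hSc' : Nat.card S' = 60 := by rw [← Nat.card_congr e'.toEquiv, hSc]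
      have h1 : Nat.card B ≠ Nat.card A' := by clear * - hA24 hB36 hSc hA24' hSc'; omega
      have h2 : Nat.card B ≠ Nat.card S := by clear * - hA24 hB36 hSc hA24' hSc'; omega
      have h3 : Nat.card B ≠ Nat.card S' := by clear * - hA24 hB36 hSc hA24' hSc'; omega
      have h4 : Nat.card A ≠ Nat.card S := by clear * - hA24 hB36 hSc hA24' hSc'; omega
      have h5 : Nat.card A ≠ Nat.card S' := by clear * - hA24 hB36 hSc hA24' hSc'; omega
      have h6 : Nat.card A' ≠ Nat.card S := by clear * - hA24 hB36 hSc hA24' hSc'; omega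
      have h7 : Nat.card A' ≠ Nat.card S' := by clear * - hA24 hB36 hSc hA24' hSc'; omega
      exact sep_five hB.1 hA.1 hA'.1 hS.1 hS'.1
        (apart_of_coatoms hB hA hBA) (apart_of_coatoms hB hA' h1)
        (apart_of_coatoms hB hS h2) (apart_of_coatoms hB hS' h3)
        (apart_of_not_conj hA hA' hne)
        (apart_of_coatoms hA hS h4) (apart_of_coatoms hA hS' h5)
        (apart_of_coatoms hA' hS h6) (apart_of_coatoms hA' hS' h7)
        (apart_of_not_conj hS hS' hne')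
    · have hk4 : 4 ≤ Nat.card k := by
        by_contra hlt
        have h3 : Nat.card k = 3 := by omega
        rw [h3] at hFk'
        exact h9 (by rw [hFk']; norm_num)
      have h16 : 4 * 4 ≤ Fintype.card F := by
        rw [hFk', pow_two]
        exact Nat.mul_le_mul hk4 hk4
      obtain ⟨D, hD, hDc, -⟩ := exists_Dp (F := F) hodd (by omega) (by omega)
      obtain ⟨E, hE, hEc, -⟩ := exists_Dm (F := F) hodd (by omega)
      have h1 : Nat.card B ≠ Nat.card D := by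
        rw [hDc]
        exact hBlt _ (by clear * - hmul hq5; omega)
      have h2 : Nat.card B ≠ Nat.card E := by
        rw [hEc]
        exact hBlt _ (by clear * - hmul hq5; omega)
      have h3 : Nat.card D ≠ Nat.card E := by clear * - hDc hEc h3A h16; omega
      have h4 : Nat.card D ≠ Nat.card A := by clear * - hDc hEc h3A h16; omega
      have h5 : Nat.card E ≠ Nat.card A := by clear * - hDc hEc h3A h16; omega
      exact sep_split hodd hB hD hE hA hAn (apart_of_coatoms hB hD h1)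
        (apart_of_coatoms hB hE h2) (apart_of_coatoms hD hE h3)
        (not_iso_of_card hBA) (not_iso_of_card h4) (not_iso_of_card h5)
  · by_cases hf1 : f = 1
    · subst hf1
      rw [pow_one] at *
      have h1' := h1 rfl
      have hp5 : p % 5 ≠ 0 := by
        intro h0
        have h3 := (Nat.prime_dvd_prime_iff_eq Nat.prime_five hp).1 (Nat.dvd_of_mod_eq_zero h0)
        omega
      have hp9 : p ≠ 9 := by
        rintro rfl
        exact absurd hp (by norm_num)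
      have h17 : 17 ≤ p := by
        have h15 : p ≠ 15 := by
          rintro rfl
          exact hp5 (by norm_num)
        by_contra hlt
        have : p = 13 := by omega
        rw [this] at h1'
        exact h1' (by decide)
      obtain ⟨D, hD, hDc, hDe⟩ := exists_Dp (F := F) hodd (by omega) (by omega)
      obtain ⟨E, hE, hEc, hEe⟩ := exists_Dm (F := F) hodd (by omega)
      have hmul' : 16 * (Fintype.card F - 1) ≤ Fintype.card F * (Fintype.card F - 1) :=
        Nat.mul_le_mul_right _ (by omega)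
      have hBD : Nat.card B ≠ Nat.card D := by
        rw [hDc]
        exact hBlt _ (by clear * - hmul hq5; omega)
      have hBE : Nat.card B ≠ Nat.card E := by
        rw [hEc]
        exact hBlt _ (by clear * - hmul hq5; omega)
      have hDE : Nat.card D ≠ Nat.card E := by omega
      by_cases h8 : p % 8 = 1 ∨ p % 8 = 7
      · obtain ⟨A, hA, hAe⟩ := Cfsg.Agent.S5938.result (F := F) p hF h8
        have hAc : Nat.card A = 24 := by
          obtain ⟨e⟩ := hAe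
          rw [Nat.card_congr e.toEquiv, card_S4]
        have h3 : Nat.card B ≠ Nat.card A := by
          rw [hAc]
          exact hBlt _ (by omega)
        exact sep_split hodd hB hD hE hA (norm_S4 p hodd hq5 hA hAe)
          (apart_of_coatoms hB hD hBD) (apart_of_coatoms hB hE hBE) (apart_of_coatoms hD hE hDE)
          (not_iso_of_card h3) (not_iso_dihedral' (has3_S4 hAe) ⟨_, hDe⟩)
          (not_iso_dihedral' (has3_S4 hAe) ⟨_, hEe⟩)
      · have h10 : p % 10 = 1 ∨ p % 10 = 9 := qd_ten h1' hpodd' hp5 h8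
        obtain ⟨A, hA, hAe⟩ := Cfsg.Agent.S5939.result (F := F) p (Or.inl ⟨hF, h10⟩)
        have hAc : Nat.card A = 60 := by
          obtain ⟨e⟩ := hAe
          rw [Nat.card_congr e.toEquiv, card_A5]
        have h3 : Nat.card B ≠ Nat.card A := by
          rw [hAc]
          exact hBlt _ (by omega)
        exact sep_split hodd hB hD hE hA (norm_A5 p (by omega) hodd hq5 hA hAe)
          (apart_of_coatoms hB hD hBD) (apart_of_coatoms hB hE hBE) (apart_of_coatoms hD hE hDE)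
          (not_iso_of_card h3) (not_iso_dihedral' (has3_A5 hAe) ⟨_, hDe⟩)
          (not_iso_dihedral' (has3_A5 hAe) ⟨_, hEe⟩)
    · -- `f` is odd and has two prime divisors
      obtain ⟨r, hr, hrf⟩ := Nat.exists_prime_and_dvd hf1
      have hr2 : r ≠ 2 := by
        rintro rfl
        exact absurd ho (Nat.not_odd_iff_even.2 (even_iff_two_dvd.2 hrf))
      obtain ⟨s, hs, hsf, hsr⟩ : ∃ s : ℕ, s.Prime ∧ s ∣ f ∧ s ≠ r := by
        by_contra hcon
        push Not at hcon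
        apply h
        have h3 : f = r ^ f.primeFactorsList.length :=
          Nat.eq_prime_pow_of_unique_prime_dvd (by omega) fun {d} hd hdf => hcon d hd hdf
        refine ⟨r, f.primeFactorsList.length, hr, hr2, ?_, h3⟩
        by_contra hlt
        have h4 : f.primeFactorsList.length = 0 := by omega
        rw [h4, pow_zero] at h3
        exact hf1 h3
      have hs2 : s ≠ 2 := by
        rintro rfl
        exact absurd ho (Nat.not_odd_iff_even.2 (even_iff_two_dvd.2 hsf))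
      have hsub : ∀ r : ℕ, r.Prime → r ≠ 2 → r ∣ f → ∃ (k : Subfield F) (A : Subgroup (PSL F)),
          Nat.card F = Nat.card k ^ r ∧ IsCoatom A ∧ 2 * Nat.card A + Nat.card k = Nat.card k ^ 3 ∧
          2 * Nat.card A < Fintype.card F := by
        intro r hr hr2 hrf
        obtain ⟨g, hg⟩ := hrf
        have hg0 : g ≠ 0 := by
          rintro rfl
          omega
        have hFg : Nat.card F = (p ^ g) ^ r := by
          rw [Nat.card_eq_fintype_card, hF, hg, ← pow_mul, mul_comm]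
        obtain ⟨k, hk⟩ := exists_subfield_card (F := F) (p := p) hg0 hFg
        have hFk : Nat.card F = Nat.card k ^ r := by rw [hk, hFg]
        obtain ⟨A, hA, hAc⟩ := exists_PS hodd hr hr2 hFk
        refine ⟨k, A, hFk, hA, hAc, ?_⟩
        have h3 : Nat.card k ^ 3 ≤ Nat.card k ^ r := by
          apply Nat.pow_le_pow_right Nat.card_pos
          have := hr.two_le
          omega
        rw [← hFk, Nat.card_eq_fintype_card (α := F)] at h3
        have h4 : 0 < Nat.card k := Nat.card_pos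
        omega
      obtain ⟨k, A, hFk, hA, hAc, hAlt⟩ := hsub r hr hr2 hrf
      obtain ⟨k', A', hFk', hA', hAc', hAlt'⟩ := hsub s hs hs2 hsf
      have hkk : Nat.card k ≠ Nat.card k' := by
        intro h3
        rw [hFk, h3] at hFk'
        have h4 : 1 < Nat.card k' := Finite.one_lt_card
        exact hsr (Nat.pow_right_injective h4 hFk').symm
      have hAA : Nat.card A ≠ Nat.card A' := by
        intro h3
        rw [h3] at hAc
        have h4 : 1 ≤ Nat.card k := Nat.card_pos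
        have h5 : 1 ≤ Nat.card k' := Nat.card_pos
        rcases lt_or_gt_of_ne hkk with h6 | h6
        · have := cube_sub_lt h4 h6
          omega
        · have := cube_sub_lt h5 h6
          omega
      have h27 : 27 ≤ Fintype.card F := by
        rw [hF]
        have hp3 : 3 ≤ p := by
          have := hp.two_le
          omega
        have hf3 : 3 ≤ f := by
          obtain ⟨j, hj⟩ := ho
          omega
        calc 27 = 3 ^ 3 := by norm_num
          _ ≤ p ^ 3 := Nat.pow_le_pow_left hp3 3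
          _ ≤ p ^ f := Nat.pow_le_pow_right (by omega) hf3
      obtain ⟨D, hD, hDc, -⟩ := exists_Dp (F := F) hodd (by omega) (by omega)
      obtain ⟨E, hE, hEc, -⟩ := exists_Dm (F := F) hodd (by omega)
      have h1 : Nat.card B ≠ Nat.card D := by
        rw [hDc]
        exact hBlt _ (by clear * - hmul hq5; omega)
      have h2 : Nat.card B ≠ Nat.card E := by
        rw [hEc]
        exact hBlt _ (by clear * - hmul hq5; omega)
      have h3 : Nat.card B ≠ Nat.card A := hBlt _ (by clear * - hAlt hAlt' h27 hmul; omega)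
      have h4 : Nat.card B ≠ Nat.card A' := hBlt _ (by clear * - hAlt hAlt' h27 hmul; omega)
      have h5 : Nat.card D ≠ Nat.card E := by clear * - hDc hEc hAlt hAlt' h27; omega
      have h6 : Nat.card D ≠ Nat.card A := by clear * - hDc hEc hAlt hAlt' h27; omega
      have h7 : Nat.card D ≠ Nat.card A' := by clear * - hDc hEc hAlt hAlt' h27; omega
      have h8 : Nat.card E ≠ Nat.card A := by clear * - hDc hEc hAlt hAlt' h27; omega
      have h9 : Nat.card E ≠ Nat.card A' := by clear * - hDc hEc hAlt hAlt' h27; omega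
      exact sep_five hB.1 hD.1 hE.1 hA.1 hA'.1 (apart_of_coatoms hB hD h1)
        (apart_of_coatoms hB hE h2) (apart_of_coatoms hB hA h3) (apart_of_coatoms hB hA' h4)
        (apart_of_coatoms hD hE h5) (apart_of_coatoms hD hA h6) (apart_of_coatoms hD hA' h7)
        (apart_of_coatoms hE hA h8) (apart_of_coatoms hE hA' h9) (apart_of_coatoms hA hA' hAA)

end Cfsg.Agent.H807.MaxPSL
end

-- part: H807/MaxPSL/Small
section
/-!
# Classes of maximal subgroups of simple groups of order 60 and 168 (for S5906, S5907)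
-/

set_option autoImplicit false
set_option linter.style.haveILetI false

namespace Cfsg.Agent.H807.MaxPSL

open Matrix Cfsg.Agent.H937 Cfsg.Agent.H940.MaxCls
open Cfsg.Agent.ClassicalGeometry.PSL2Basic
open Cfsg.Agent.ClassicalGeometry.KleinCount

/-! ### General -/

section general

variable {G : Type*} [Group G]

theorem iso_of_map_eq {A B : Subgroup G} {g : G} (h : Subgroup.map (MulAut.conj g).toMonoidHom A = B) :
    Nonempty (A ≃* B) :=
  ⟨(Subgroup.equivMapOfInjective A _ (MulAut.conj g).injective).trans (MulEquiv.subgroupCongr h)⟩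

theorem card_of_map_eq {A B : Subgroup G} {g : G} (h : Subgroup.map (MulAut.conj g).toMonoidHom A = B) :
    Nat.card A = Nat.card B := by
  obtain ⟨e⟩ := iso_of_map_eq h
  exact Nat.card_congr e.toEquiv

/-- three classes -/
theorem cls_three {A B C : Subgroup G} (hA : IsCoatom A) (hB : IsCoatom B) (hC : IsCoatom C)
    (hAB : ∀ g : G, Subgroup.map (MulAut.conj g).toMonoidHom A ≠ B)
    (hAC : ∀ g : G, Subgroup.map (MulAut.conj g).toMonoidHom A ≠ C)
    (hBC : ∀ g : G, Subgroup.map (MulAut.conj g).toMonoidHom B ≠ C)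
    (h : ∀ K : Subgroup G, IsCoatom K → ∃ g : G, Subgroup.map (MulAut.conj g).toMonoidHom A = K ∨
      Subgroup.map (MulAut.conj g).toMonoidHom B = K ∨ Subgroup.map (MulAut.conj g).toMonoidHom C = K) :
    Cls 3 G := by
  refine Cls.of_mem ![A, B, C] ?_ ?_ ?_
  · intro i
    fin_cases i
    · exact hA
    · exact hB
    · exact hC
  · intro i j hij
    fin_cases i <;> fin_cases j <;> first | exact absurd hij (by decide) | exact hAB | exact hAC | exact hBC
  · intro K hK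
    obtain ⟨g, h | h | h⟩ := h K hK
    · exact ⟨0, g, h⟩
    · exact ⟨1, g, h⟩
    · exact ⟨2, g, h⟩

/-- four classes -/
theorem cls_four {A B C D : Subgroup G} (hA : IsCoatom A) (hB : IsCoatom B) (hC : IsCoatom C) (hD : IsCoatom D)
    (hAB : ∀ g : G, Subgroup.map (MulAut.conj g).toMonoidHom A ≠ B)
    (hAC : ∀ g : G, Subgroup.map (MulAut.conj g).toMonoidHom A ≠ C)
    (hAD : ∀ g : G, Subgroup.map (MulAut.conj g).toMonoidHom A ≠ D)
    (hBC : ∀ g : G, Subgroup.map (MulAut.conj g).toMonoidHom B ≠ C)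
    (hBD : ∀ g : G, Subgroup.map (MulAut.conj g).toMonoidHom B ≠ D)
    (hCD : ∀ g : G, Subgroup.map (MulAut.conj g).toMonoidHom C ≠ D)
    (h : ∀ K : Subgroup G, IsCoatom K → ∃ g : G, Subgroup.map (MulAut.conj g).toMonoidHom A = K ∨
      Subgroup.map (MulAut.conj g).toMonoidHom B = K ∨ Subgroup.map (MulAut.conj g).toMonoidHom C = K ∨
      Subgroup.map (MulAut.conj g).toMonoidHom D = K) :
    Cls 4 G := by
  refine Cls.of_mem ![A, B, C, D] ?_ ?_ ?_
  · intro i
    fin_cases i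
    · exact hA
    · exact hB
    · exact hC
    · exact hD
  · intro i j hij
    fin_cases i <;> fin_cases j <;>
      [(exact absurd hij (by decide)); exact hAB; exact hAC; exact hAD; (exact absurd hij (by decide)); (exact absurd hij (by decide)); exact hBC; exact hBD;
       (exact absurd hij (by decide)); (exact absurd hij (by decide)); (exact absurd hij (by decide)); exact hCD; (exact absurd hij (by decide));
       (exact absurd hij (by decide)); (exact absurd hij (by decide)); (exact absurd hij (by decide))]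
  · intro K hK
    obtain ⟨g, h | h | h | h⟩ := h K hK
    · exact ⟨0, g, h⟩
    · exact ⟨1, g, h⟩
    · exact ⟨2, g, h⟩
    · exact ⟨3, g, h⟩

/-- simple groups of order 168 -/
theorem cls_168 [Finite G] [IsSimpleGroup G] (h : Nat.card G = 168) : Cls 3 G := by
  obtain ⟨h1, h2, M₁, M₂, hM₁, hM₂, e₁, e₂, hne, h3⟩ := Cfsg.Agent.S1008.result h
  have hc : ∀ {M : Subgroup G}, Nonempty (M ≃* Equiv.Perm (Fin 4)) → Nat.card M = 24 := by
    rintro M ⟨e⟩
    rw [Nat.card_congr e.toEquiv, card_S4]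
  obtain ⟨M, hM, hMc⟩ : ∃ M : Subgroup G, IsCoatom M ∧ Nat.card M = 21 := by
    haveI : Fact (Nat.Prime 7) := ⟨by norm_num⟩
    obtain ⟨x, hx⟩ := exists_prime_orderOf_dvd_card' (G := G) 7 (by rw [h]; norm_num)
    have hxt : Subgroup.zpowers x ≠ ⊤ := by
      intro hxt
      have h4 := Nat.card_zpowers x
      rw [hxt, hx, Subgroup.card_top, h] at h4
      omega
    obtain ⟨M, hM, hxM⟩ := exists_coatom_ge hxt
    refine ⟨M, hM, ?_⟩
    rcases h1 M hM with e | h4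
    · have h5 := Subgroup.card_dvd_of_le hxM
      rw [Nat.card_zpowers, hx, hc e] at h5
      omega
    · exact h4.1
  refine cls_three hM hM₁ hM₂ (fun g hg => ?_) (fun g hg => ?_) (fun g hg => hne g hg.symm) fun K hK => ?_
  · have := card_of_map_eq hg
    rw [hMc, hc e₁] at this
    omega
  · have := card_of_map_eq hg
    rw [hMc, hc e₂] at this
    omega
  · rcases h1 K hK with e | h4
    · obtain ⟨g, h5 | h5⟩ := h3 K hK e
      · exact ⟨g, Or.inr (Or.inl h5.symm)⟩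
      · exact ⟨g, Or.inr (Or.inr h5.symm)⟩
    · obtain ⟨g, h5⟩ := h2 M K hM hK hMc h4.1
      exact ⟨g, Or.inl h5.symm⟩

end general

variable {F : Type*} [Field F]

/-- `PSL₂(7)` -/
theorem odd_three_seven [Fintype F] (hF : Fintype.card F = 7) :
    Cls 3 (Matrix.ProjectiveSpecialLinearGroup (Fin 2) F) := by
  haveI : IsSimpleGroup (Matrix.ProjectiveSpecialLinearGroup (Fin 2) F) :=
    Matrix.ProjectiveSpecialLinearGroup.rank_two_simple (by rw [Nat.card_eq_fintype_card]; omega)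
  apply cls_168
  have h1 := Cfsg.Agent.S0243.result hF 2 le_rfl
  rw [Fin.prod_univ_two] at h1
  norm_num at h1
  omega

/-- `PSL₃(2)` -/
theorem psl3_two (F : Type*) [Field F] [Fintype F] (hF : Fintype.card F = 2) :
    Cls 3 (Matrix.ProjectiveSpecialLinearGroup (Fin 3) F) := by
  haveI : IsSimpleGroup (Matrix.ProjectiveSpecialLinearGroup (Fin 3) F) := Cfsg.Agent.S0249.result 3 le_rfl
  apply cls_168
  have h1 := Cfsg.Agent.S0243.result hF 3 (by norm_num)
  rw [Fin.prod_univ_three] at h1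
  norm_num at h1
  omega

/-- `PSL₂(5)` -/
theorem odd_three_five' [Fintype F] (hF : Fintype.card F = 5) : Cls 3 (PSL F) := by
  have hodd : Odd (Fintype.card F) := by rw [hF]; decide
  haveI : Fact (Nat.Prime 5) := ⟨by norm_num⟩
  haveI : CharP F 5 := charP_of_card_eq_prime_pow (f := 1) (by rw [hF, pow_one])
  obtain ⟨B, hB, hBt, hBc⟩ := exists_borel hodd (by omega)
  obtain ⟨D, hD, hDc, hDe⟩ := exists_Dp hodd (by omega) (by omega)
  obtain ⟨A, hA, hAe⟩ : ∃ A : Subgroup (PSL F), IsCoatom A ∧ Nonempty (A ≃* alternatingGroup (Fin 4)) :=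
    Cfsg.Agent.S5940.result (F := F) 5 hF (by norm_num) (by norm_num) (by norm_num)
  have hAc : Nat.card A = 12 := by
    obtain ⟨e⟩ := hAe
    rw [Nat.card_congr e.toEquiv, card_A4]
  rw [hF] at hBc hDc
  have hns : ¬ IsSquare (2 : F) := by
    rw [FiniteField.isSquare_two_iff, hF]
    norm_num
  -- the types
  have key : ∀ K : Subgroup (PSL F), IsCoatom K →
      (Nat.card K = 10 ∧ ∃ b, cj b (K.map (ta : PSL F →* PGL F)) = BP F ⊓ LL F) ∨
      (Nat.card K = 6 ∧ ∃ (b : PGL F) (t d : F), d ≠ 0 ∧ t ^ 2 - 4 * d ≠ 0 ∧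
        K.map (ta : PSL F →* PGL F) = cj b (NP t d) ⊓ LL F) ∨
      (Nat.card K = 12 ∧ ∃ V : Subgroup (PSL F), IsKleinFour V ∧ K = nrm V) := by
    intro K hK
    rcases odd_psl_conj 5 hodd (by omega) K hK with h | ⟨h, -, h'⟩ | ⟨k, b, hk, -⟩ | ⟨k, r, b, hr, hr', hk, -⟩ |
      ⟨h, -⟩ | ⟨-, -, -, ⟨e⟩, h⟩ | ⟨-, h, -⟩
    · left
      refine ⟨?_, h⟩
      obtain ⟨b, hb⟩ := h
      have h1 := two_card_B hodd
      rw [← hb, card_cj, card_map_ta, hF] at h1
      omega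
    · right; left
      refine ⟨?_, h'⟩
      rw [hF] at h
      omega
    · exfalso
      rw [Nat.card_eq_fintype_card, hF] at hk
      generalize Nat.card k = z at hk
      have : z < 3 := by
        by_contra hz
        have h9 : 3 ^ 2 ≤ z ^ 2 := Nat.pow_le_pow_left (by omega) 2
        omega
      interval_cases z <;> omega
    · exfalso
      rw [Nat.card_eq_fintype_card, hF] at hk
      have h1 := (Nat.Prime.eq_one_of_pow (n := r) (x := Nat.card k) (by rw [← hk]; norm_num))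
      exact hr.one_lt.ne' h1
    · exfalso
      rw [hF] at h
      omega
    · right; right
      exact ⟨by rw [Nat.card_congr e.toEquiv, card_A4], h⟩
    · exfalso
      omega
  have conj : ∀ K K' : Subgroup (PSL F), IsCoatom K → IsCoatom K' → Nat.card K = Nat.card K' →
      ∃ g : PSL F, Subgroup.map (MulAut.conj g).toMonoidHom K = K' := by
    intro K K' hK hK' hc
    rcases key K hK with ⟨h1, b, hb⟩ | ⟨h1, h⟩ | ⟨h1, V, hV, h⟩ <;>
    rcases key K' hK' with ⟨h1', b', hb'⟩ | ⟨h1', h'⟩ | ⟨h1', V', hV', h'⟩ <;> first | omega | skip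
    · exact conj_of_LC (LC_borel hodd hb hb')
    · exact conj_of_LC (LC_tor hodd (by omega) h h' (by rw [card_map_ta, card_map_ta, hc]))
    · obtain ⟨a, ha⟩ := exists_cj_eq_of_not_square hodd hns hV hV'
      refine ⟨a, ?_⟩
      rw [h, h', ← ha, ← cj_nrm]
      rfl
  refine cls_three hB hD hA (fun g hg => ?_) (fun g hg => ?_) (fun g hg => ?_) fun K hK => ?_
  · have := card_of_map_eq hg
    omega
  · have := card_of_map_eq hg
    omega
  · have := card_of_map_eq hg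
    omega
  · rcases key K hK with ⟨h1, -⟩ | ⟨h1, -⟩ | ⟨h1, -⟩
    · obtain ⟨g, hg⟩ := conj B K hB hK (by omega)
      exact ⟨g, Or.inl hg⟩
    · obtain ⟨g, hg⟩ := conj D K hD hK (by omega)
      exact ⟨g, Or.inr (Or.inl hg)⟩
    · obtain ⟨g, hg⟩ := conj A K hA hK (by omega)
      exact ⟨g, Or.inr (Or.inr hg)⟩

/-- `PSL₂(5)` -/
theorem odd_three_five [Fintype F] (hF : Fintype.card F = 5) :
    Cls 3 (Matrix.ProjectiveSpecialLinearGroup (Fin 2) F) := odd_three_five' hF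

/-- `A₅` -/
theorem alt5 : Cls 3 (alternatingGroup (Fin 5)) := by
  haveI : Fact (Nat.Prime 5) := ⟨by norm_num⟩
  haveI : IsSimpleGroup (Matrix.ProjectiveSpecialLinearGroup (Fin 2) (ZMod 5)) :=
    Matrix.ProjectiveSpecialLinearGroup.rank_two_simple (by rw [Nat.card_eq_fintype_card, ZMod.card]; omega)
  have h1 := Cfsg.Agent.S0243.result (F := ZMod 5) (ZMod.card 5) 2 le_rfl
  rw [Fin.prod_univ_two] at h1
  norm_num at h1
  have h2 : Nat.card (Matrix.ProjectiveSpecialLinearGroup (Fin 2) (ZMod 5)) = 60 := by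
    rw [Nat.card_eq_fintype_card]
    omega
  obtain ⟨e⟩ := Cfsg.Agent.S0494.result (G := Matrix.ProjectiveSpecialLinearGroup (Fin 2) (ZMod 5)) h2
  exact (odd_three_five (F := ZMod 5) (ZMod.card 5)).of_mulEquiv e

end Cfsg.Agent.H807.MaxPSL
end

-- part: H807/MaxPSL/Count
section
/-!
# `PSL₂(q)`, `q` odd: four classes of maximal subgroups (task of helper940, S5906, S5907)
-/

set_option autoImplicit false
set_option linter.style.haveILetI false

namespace Cfsg.Agent.H807.MaxPSL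

open Matrix Cfsg.Agent.H937 Cfsg.Agent.H940.MaxCls
open Cfsg.Agent.ClassicalGeometry.PSL2Basic
open Cfsg.Agent.ClassicalGeometry.KleinCount

theorem has3_A4 {G : Type*} [Group G] {M : Subgroup G} (e : Nonempty (M ≃* alternatingGroup (Fin 4))) : Has3 M := by
  obtain ⟨e⟩ := e
  have py_mem : py ∈ alternatingGroup (Fin 4) := by
    rw [Equiv.Perm.mem_alternatingGroup]; decide
  refine Has3.of_equiv e.symm (x := ⟨px, px_mem⟩) (y := ⟨py, py_mem⟩) (Subtype.ext px_cube)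
    (Subtype.ext py_cube) ?_
  intro h
  exact absurd (congrArg Subtype.val h) pxy_ne

variable {F : Type*} [Field F]

/-- the torus type -/
def Tor (K : Subgroup (PSL F)) : Prop :=
  ∃ (b : PGL F) (t d : F), d ≠ 0 ∧ t ^ 2 - 4 * d ≠ 0 ∧ K.map (ta : PSL F →* PGL F) = cj b (NP t d) ⊓ LL F

theorem Tor.conj [Fintype F] (hodd : Odd (Fintype.card F)) (h3 : 3 < Fintype.card F) {K K' : Subgroup (PSL F)}
    (h : Tor K) (h' : Tor K') (hc : Nat.card K = Nat.card K') :
    ∃ g : PSL F, Subgroup.map (MulAut.conj g).toMonoidHom K = K' :=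
  conj_of_LC (LC_tor hodd h3 h h' (by rw [card_map_ta, card_map_ta, hc]))

/-- the Borel type -/
def Bor (K : Subgroup (PSL F)) : Prop := ∃ b, cj b (K.map (ta : PSL F →* PGL F)) = BP F ⊓ LL F

theorem Bor.conj [Fintype F] (hodd : Odd (Fintype.card F)) {K K' : Subgroup (PSL F)}
    (h : Bor K) (h' : Bor K') : ∃ g : PSL F, Subgroup.map (MulAut.conj g).toMonoidHom K = K' := by
  obtain ⟨b, hb⟩ := h
  obtain ⟨b', hb'⟩ := h'
  exact conj_of_LC (LC_borel hodd hb hb')

theorem Bor.card [Fintype F] (hodd : Odd (Fintype.card F)) {K : Subgroup (PSL F)}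
    (h : Bor K) : 2 * Nat.card K = Fintype.card F * (Fintype.card F - 1) := by
  obtain ⟨b, hb⟩ := h
  have h1 := two_card_B hodd
  rwa [← hb, card_cj, card_map_ta] at h1

/-! ### Prime powers -/

theorem odd_four_pow' {p r m : ℕ} [Fintype F] (hp : p.Prime) (h2 : p ≠ 2) (hr : r.Prime) (hr2 : r ≠ 2)
    (hm : 1 ≤ m) (hF : Fintype.card F = p ^ (r ^ m)) : Cls 4 (PSL F) := by
  haveI : Fact p.Prime := ⟨hp⟩
  have hpodd : Odd p := hp.odd_of_ne_two h2
  have hodd : Odd (Fintype.card F) := by rw [hF]; exact hpodd.pow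
  haveI : CharP F p := charP_of_card_eq_prime_pow hF
  have hrodd : Odd r := hr.odd_of_ne_two hr2
  have hp3 : 3 ≤ p := by
    have := hp.two_le
    omega
  have hr3 : 3 ≤ r := by
    have := hr.two_le
    omega
  have hf3 : 3 ≤ r ^ m := by
    calc 3 ≤ r ^ 1 := by rw [pow_one]; exact hr3
      _ ≤ r ^ m := Nat.pow_le_pow_right (by omega) hm
  have hfodd : Odd (r ^ m) := hrodd.pow
  have h27 : 27 ≤ Fintype.card F := by
    rw [hF]
    calc 27 = 3 ^ 3 := by norm_num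
      _ ≤ p ^ 3 := Nat.pow_le_pow_left hp3 3
      _ ≤ p ^ (r ^ m) := Nat.pow_le_pow_right (by omega) hf3
  have hmul : 27 * (Fintype.card F - 1) ≤ Fintype.card F * (Fintype.card F - 1) :=
    Nat.mul_le_mul_right _ h27
  have hFg : Nat.card F = (p ^ (r ^ (m - 1))) ^ r := by
    rw [Nat.card_eq_fintype_card, hF, ← pow_mul]
    congr 1
    rw [← pow_succ]
    congr 1
    omega
  obtain ⟨k₀, hk₀⟩ := exists_subfield_card (F := F) (p := p) (n := r ^ (m - 1))
    (pow_ne_zero _ (by omega)) hFg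
  have hFk₀ : Nat.card F = Nat.card k₀ ^ r := by rw [hk₀, hFg]
  have hk₀pos : 0 < Nat.card k₀ := Nat.card_pos
  have hle : Nat.card k₀ ^ 3 ≤ Fintype.card F := by
    rw [← Nat.card_eq_fintype_card, hFk₀]
    exact Nat.pow_le_pow_right hk₀pos hr3
  obtain ⟨B, hB, -, hBc⟩ := exists_borel hodd (by omega)
  obtain ⟨D, hD, hDc, -⟩ := exists_Dp hodd (by omega) (by omega)
  obtain ⟨E, hE, hEc, -⟩ := exists_Dm hodd (by omega)
  obtain ⟨A, hA, hAc⟩ := exists_PS hodd hr hr2 hFk₀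
  -- the orders of subfields
  have hsub : ∀ k : Subfield F, ∃ a : ℕ, Nat.card k = p ^ a := by
    intro k
    letI : Fintype k := Fintype.ofFinite k
    obtain ⟨a, -, ha⟩ := FiniteField.card k p
    exact ⟨a, by rw [Nat.card_eq_fintype_card, ha]⟩
  have hpow : ∀ (k : Subfield F) (s : ℕ), Nat.card F = Nat.card k ^ s → s ∣ r ^ m := by
    intro k s hk
    obtain ⟨a, ha⟩ := hsub k
    rw [Nat.card_eq_fintype_card, hF, ha, ← pow_mul] at hk
    rw [Nat.pow_right_injective (by omega : 2 ≤ p) hk]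
    exact dvd_mul_left s a
  -- the types
  have key : ∀ K : Subgroup (PSL F), IsCoatom K →
      (2 * Nat.card K = Fintype.card F * (Fintype.card F - 1) ∧ Bor K) ∨
      (Nat.card K = Fintype.card F - 1 ∧ Tor K) ∨ (Nat.card K = Fintype.card F + 1 ∧ Tor K) ∨
      (2 * Nat.card K + Nat.card k₀ = Nat.card k₀ ^ 3 ∧ ∃ (k : Subfield F) (b : PGL F),
        Nat.card F = Nat.card k ^ r ∧ cj b (K.map (ta : PSL F →* PGL F)) = PS k) := by
    intro K hK
    rcases odd_psl_conj p hodd (by omega) K hK with h | ⟨h, -, h'⟩ | ⟨k, b, hk, -⟩ | ⟨k, s, b, hs, hs', hk, hb⟩ |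
      ⟨-, h, -⟩ | ⟨h, -⟩ | ⟨h, -⟩
    · exact Or.inl ⟨Bor.card hodd h, h⟩
    · rcases h with ⟨-, h⟩ | ⟨-, -, h⟩
      · exact Or.inr (Or.inl ⟨h, h'⟩)
      · exact Or.inr (Or.inr (Or.inl ⟨h, h'⟩))
    · exfalso
      have h1 := hpow k 2 hk
      exact absurd hfodd (Nat.not_odd_iff_even.2 (even_iff_two_dvd.2 h1))
    · have h1 : s = r := (Nat.prime_dvd_prime_iff_eq hs hr).1 (hs.dvd_of_dvd_pow (hpow k s hk))
      subst h1
      have h3 : Nat.card k = Nat.card k₀ := Nat.pow_left_injective hr.ne_zero (hk.symm.trans hFk₀)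
      refine Or.inr (Or.inr (Or.inr ⟨?_, k, b, hk, hb⟩))
      letI : Fintype k := Fintype.ofFinite k
      have hoddk := odd_subfield hodd k
      rw [Nat.card_eq_fintype_card] at hoddk
      have h4 := two_card_PSL (F := k) hoddk
      have h5 := card_cj b (K.map (ta : PSL F →* PGL F))
      rw [hb, card_map_ta, card_PS] at h5
      rw [h5, ← Nat.card_eq_fintype_card, h3] at h4
      exact h4
    · exfalso
      rcases h with h | ⟨h, -⟩
      · rw [hF] at h
        have h1 : r ^ m = 1 := Nat.pow_right_injective (by omega : 2 ≤ p) (h.trans (pow_one p).symm)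
        omega
      · rw [hF] at h
        have h1 : r ^ m = 2 := Nat.pow_right_injective (by omega : 2 ≤ p) h
        omega
    · exfalso
      rw [hF] at h
      have h1 : r ^ m = 1 := Nat.pow_right_injective (by omega : 2 ≤ p) (h.trans (pow_one p).symm)
      omega
    · exfalso
      rw [hF] at h
      have h1 : r ^ m = 1 := Nat.pow_right_injective (by omega : 2 ≤ p) (h.trans (pow_one p).symm)
      omega
  have conj : ∀ K K' : Subgroup (PSL F), IsCoatom K → IsCoatom K' → Nat.card K = Nat.card K' →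
      ∃ g : PSL F, Subgroup.map (MulAut.conj g).toMonoidHom K = K' := by
    intro K K' hK hK' hc
    rcases key K hK with ⟨h1, h⟩ | ⟨h1, h⟩ | ⟨h1, h⟩ | ⟨h1, k, b, hk, h⟩ <;>
    rcases key K' hK' with ⟨h1', h'⟩ | ⟨h1', h'⟩ | ⟨h1', h'⟩ | ⟨h1', k', b', hk', h'⟩ <;>
      first | omega | skip
    · exact h.conj hodd h'
    · exact h.conj hodd (by omega) h' hc
    · exact h.conj hodd (by omega) h' hc
    · exact conj_of_LC (LC_PS hodd hrodd hk hk' h h')
  refine cls_four hB hD hE hA (fun g hg => ?_) (fun g hg => ?_) (fun g hg => ?_) (fun g hg => ?_)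
    (fun g hg => ?_) (fun g hg => ?_) fun K hK => ?_
  · have := card_of_map_eq hg
    omega
  · have := card_of_map_eq hg
    omega
  · have := card_of_map_eq hg
    omega
  · have := card_of_map_eq hg
    omega
  · have := card_of_map_eq hg
    omega
  · have := card_of_map_eq hg
    omega
  · rcases key K hK with ⟨h1, -⟩ | ⟨h1, -⟩ | ⟨h1, -⟩ | ⟨h1, -⟩
    · obtain ⟨g, hg⟩ := conj B K hB hK (by omega)
      exact ⟨g, Or.inl hg⟩
    · obtain ⟨g, hg⟩ := conj E K hE hK (by omega)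
      exact ⟨g, Or.inr (Or.inr (Or.inl hg))⟩
    · obtain ⟨g, hg⟩ := conj D K hD hK (by omega)
      exact ⟨g, Or.inr (Or.inl hg)⟩
    · obtain ⟨g, hg⟩ := conj A K hA hK (by omega)
      exact ⟨g, Or.inr (Or.inr (Or.inr hg))⟩

/-- `PSL₂(p ^ (r ^ m))`, `r` an odd prime -/
theorem odd_four_pow {p r m : ℕ} [Fintype F] (hp : p.Prime) (h2 : p ≠ 2) (hr : r.Prime) (hr2 : r ≠ 2)
    (hm : 1 ≤ m) (hF : Fintype.card F = p ^ (r ^ m)) :
    Cls 4 (Matrix.ProjectiveSpecialLinearGroup (Fin 2) F) := odd_four_pow' hp h2 hr hr2 hm hF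

/-! ### Primes -/

theorem odd_four_prime' {p : ℕ} [Fintype F] (hp : p.Prime) (h3 : 3 < p)
    (h : p % 40 = 3 ∨ p % 40 = 37 ∨ p % 40 = 13 ∨ p % 40 = 27) (hF : Fintype.card F = p) : Cls 4 (PSL F) := by
  haveI : Fact p.Prime := ⟨hp⟩
  have hpodd : Odd p := hp.odd_of_ne_two (by omega)
  have hodd : Odd (Fintype.card F) := by rw [hF]; exact hpodd
  haveI : CharP F p := charP_of_card_eq_prime_pow (f := 1) (by rw [hF, pow_one])
  have h8 : p % 8 = 3 ∨ p % 8 = 5 := by omega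
  have h10 : p % 10 ≠ 1 ∧ p % 10 ≠ 9 := by omega
  have h13 : 13 ≤ p := by omega
  have hns : ¬ IsSquare (2 : F) := by
    rw [FiniteField.isSquare_two_iff, hF]
    omega
  have hmul : 13 * (Fintype.card F - 1) ≤ Fintype.card F * (Fintype.card F - 1) :=
    Nat.mul_le_mul_right _ (by omega)
  obtain ⟨B, hB, -, hBc⟩ := exists_borel hodd (by omega)
  obtain ⟨D, hD, hDc, hDe⟩ := exists_Dp hodd (by omega) (by omega)
  obtain ⟨E, hE, hEc, hEe⟩ := exists_Dm hodd (by omega)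
  obtain ⟨A, hA, hAe⟩ : ∃ A : Subgroup (PSL F), IsCoatom A ∧ Nonempty (A ≃* alternatingGroup (Fin 4)) :=
    Cfsg.Agent.S5940.result (F := F) p hF (by omega) h8 h10
  have hAc : Nat.card A = 12 := by
    obtain ⟨e⟩ := hAe
    rw [Nat.card_congr e.toEquiv, card_A4]
  -- the types
  have key : ∀ K : Subgroup (PSL F), IsCoatom K →
      (2 * Nat.card K = Fintype.card F * (Fintype.card F - 1) ∧ Bor K) ∨
      (Nat.card K = Fintype.card F - 1 ∧ Tor K ∧ ¬ Has3 K) ∨ (Nat.card K = Fintype.card F + 1 ∧ Tor K) ∨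
      (Nat.card K = 12 ∧ (∃ V : Subgroup (PSL F), IsKleinFour V ∧ K = nrm V) ∧ Has3 K) := by
    intro K hK
    rcases odd_psl_conj p hodd (by omega) K hK with h | ⟨h, ⟨e⟩, h'⟩ | ⟨k, b, hk, -⟩ | ⟨k, s, b, hs, hs', hk, hb⟩ |
      ⟨h, -, -⟩ | ⟨-, -, -, e, h⟩ | ⟨-, h, -⟩
    · exact Or.inl ⟨Bor.card hodd h, h⟩
    · rcases h with ⟨-, h⟩ | ⟨-, -, h⟩
      · refine Or.inr (Or.inl ⟨h, h', ?_⟩)
        rintro ⟨x, hx, y, hy, hx3, hy3, hxy⟩
        exact hxy (dihedral_comm_three e hx hy hx3 hy3)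
      · exact Or.inr (Or.inr (Or.inl ⟨h, h'⟩))
    · exfalso
      rw [Nat.card_eq_fintype_card, hF] at hk
      rw [hk] at hp
      exact absurd (Nat.Prime.eq_one_of_pow hp) (by norm_num)
    · exfalso
      rw [Nat.card_eq_fintype_card, hF] at hk
      rw [hk] at hp
      exact hs.one_lt.ne' (Nat.Prime.eq_one_of_pow hp)
    · exfalso
      rw [hF] at h
      omega
    · refine Or.inr (Or.inr (Or.inr ⟨?_, h, has3_A4 e⟩))
      obtain ⟨e⟩ := e
      rw [Nat.card_congr e.toEquiv, card_A4]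
    · exfalso
      omega
  have conjA : ∀ K K' : Subgroup (PSL F), (∃ V : Subgroup (PSL F), IsKleinFour V ∧ K = nrm V) →
      (∃ V : Subgroup (PSL F), IsKleinFour V ∧ K' = nrm V) →
      ∃ g : PSL F, Subgroup.map (MulAut.conj g).toMonoidHom K = K' := by
    rintro K K' ⟨V, hV, h⟩ ⟨V', hV', h'⟩
    obtain ⟨a, ha⟩ := exists_cj_eq_of_not_square hodd hns hV hV'
    refine ⟨a, ?_⟩
    rw [h, h', ← ha, ← cj_nrm]
    rfl
  have hBt : Bor B := by
    rcases key B hB with ⟨-, h⟩ | ⟨h, -⟩ | ⟨h, -⟩ | ⟨h, -⟩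
    · exact h
    · omega
    · omega
    · omega
  have hDt : Tor D := by
    rcases key D hD with ⟨h, -⟩ | ⟨h, -⟩ | ⟨-, h⟩ | ⟨h, -⟩
    · omega
    · omega
    · exact h
    · omega
  have hEt : Tor E := by
    rcases key E hE with ⟨h, -⟩ | ⟨-, h, -⟩ | ⟨h, -⟩ | ⟨h, -, h'⟩
    · omega
    · exact h
    · omega
    · exfalso
      obtain ⟨x, hx, y, hy, hx3, hy3, hxy⟩ := h'
      obtain ⟨e⟩ := hEe
      exact hxy (dihedral_comm_three e hx hy hx3 hy3)
  have hAt : ∃ V : Subgroup (PSL F), IsKleinFour V ∧ A = nrm V := by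
    rcases key A hA with ⟨h, -⟩ | ⟨-, -, h⟩ | ⟨h, -⟩ | ⟨-, h, -⟩
    · omega
    · exact absurd (has3_A4 hAe) h
    · omega
    · exact h
  refine cls_four hB hD hE hA (fun g hg => ?_) (fun g hg => ?_) (fun g hg => ?_) (fun g hg => ?_)
    (fun g hg => ?_) (fun g hg => ?_) fun K hK => ?_
  · have := card_of_map_eq hg
    omega
  · have := card_of_map_eq hg
    omega
  · have := card_of_map_eq hg
    omega
  · have := card_of_map_eq hg
    omega
  · have := card_of_map_eq hg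
    omega
  · exact not_iso_dihedral' (has3_A4 hAe) ⟨_, hEe⟩ (iso_of_map_eq hg)
  · rcases key K hK with ⟨-, h⟩ | ⟨h1, h, -⟩ | ⟨h1, h⟩ | ⟨-, h, -⟩
    · obtain ⟨g, hg⟩ := hBt.conj hodd h
      exact ⟨g, Or.inl hg⟩
    · obtain ⟨g, hg⟩ := hEt.conj hodd (by omega) h (by omega)
      exact ⟨g, Or.inr (Or.inr (Or.inl hg))⟩
    · obtain ⟨g, hg⟩ := hDt.conj hodd (by omega) h (by omega)
      exact ⟨g, Or.inr (Or.inl hg)⟩
    · obtain ⟨g, hg⟩ := conjA A K hAt h
      exact ⟨g, Or.inr (Or.inr (Or.inr hg))⟩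

theorem odd_four_prime {p : ℕ} [Fintype F] (hp : p.Prime) (h3 : 3 < p)
    (h : p % 40 = 3 ∨ p % 40 = 37 ∨ p % 40 = 13 ∨ p % 40 = 27) (hF : Fintype.card F = p) :
    Cls 4 (Matrix.ProjectiveSpecialLinearGroup (Fin 2) F) := odd_four_prime' hp h3 h hF

end Cfsg.Agent.H807.MaxPSL
end

-- part: H807/MaxPSL/Eleven
section
/-!
# `PSL₂(11)`: four classes of maximal subgroups (task of helper940, S5906, S5907)
-/

set_option autoImplicit false
set_option linter.style.haveILetI false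

namespace Cfsg.Agent.H807.MaxPSL

open Matrix Cfsg.Agent.H937 Cfsg.Agent.H940.MaxCls
open Cfsg.Agent.ClassicalGeometry.PSL2Basic
open Cfsg.Agent.ClassicalGeometry.KleinCount

/-- in `A₅` an element of order three is inverted by an element -/
theorem five_inv : ∀ c : Equiv.Perm (Fin 5), Equiv.Perm.sign c = 1 → c ^ 3 = 1 →
    ∃ t : Equiv.Perm (Fin 5), Equiv.Perm.sign t = 1 ∧ t * c * t⁻¹ = c⁻¹ := by
  (set_option synthInstance.maxSize 9000 in open scoped Cfsg.Agent.Lib.FastPerm in decide +kernel)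

/-- subgroups of prime order dividing the order of the group once -/
theorem conj_zpowers {G : Type*} [Group G] [Finite G] {p m : ℕ} [hp : Fact p.Prime] (hG : Nat.card G = p * m)
    (hm : ¬ p ∣ m) {x y : G} (hx : orderOf x = p) (hy : orderOf y = p) :
    ∃ g : G, cj g (Subgroup.zpowers x) = Subgroup.zpowers y := by
  have hm0 : m ≠ 0 := by
    rintro rfl
    exact hm (dvd_zero p)
  have hf : (Nat.card G).factorization p = 1 := by
    rw [hG, Nat.factorization_mul hp.out.ne_zero hm0, Finsupp.add_apply, hp.out.factorization_self,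
      Nat.factorization_eq_zero_of_not_dvd hm]
  have hc : ∀ {z : G}, orderOf z = p → Nat.card (Subgroup.zpowers z) = p ^ (Nat.card G).factorization p := by
    intro z hz
    rw [hf, pow_one, Nat.card_zpowers, hz]
  obtain ⟨g, hg⟩ := MulAction.exists_smul_eq G (Sylow.ofCard _ (hc hx)) (Sylow.ofCard _ (hc hy))
  refine ⟨g, ?_⟩
  have h1 := congrArg (fun P : Sylow p G => (P : Subgroup G)) hg
  exact h1

variable {F : Type*} [Field F]

theorem eleven_core [Fintype F] (hF : Fintype.card F = 11) : ∃ Q₀ Q₁ : Subgroup (PSL F),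
    ∀ K : Subgroup (PSL F), Nonempty (K ≃* alternatingGroup (Fin 5)) → ∃ g : PSL F, cj g K = Q₀ ∨ cj g K = Q₁ := by
  have hodd : Odd (Fintype.card F) := by rw [hF]; decide
  have h2 : (2 : F) ≠ 0 := (two_ne_zero_iff_odd F).2 hodd
  have hns : ¬ IsSquare (2 : F) := by
    rw [FiniteField.isSquare_two_iff, hF]
    norm_num
  haveI : IsSimpleGroup (PSL F) :=
    Matrix.ProjectiveSpecialLinearGroup.rank_two_simple (by rw [Nat.card_eq_fintype_card]; omega)
  haveI : Fact (Nat.Prime 3) := ⟨by norm_num⟩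
  have hG : Nat.card (PSL F) = 3 * 220 := by
    have := two_card_PSL hodd
    rw [hF] at this
    omega
  obtain ⟨M, hM, hMc, hMe⟩ := exists_Dp hodd (by omega) (by omega)
  rw [hF] at hMe
  obtain ⟨e⟩ : Nonempty (M ≃* DihedralGroup 6) := hMe
  -- the element `c` of order three and the reflections
  obtain ⟨c, hc⟩ : ∃ c : PSL F, c = (e.symm (DihedralGroup.r 2) : M) := ⟨_, rfl⟩
  obtain ⟨s, hs⟩ : ∃ s : ZMod 6 → PSL F, ∀ j, s j = (e.symm (DihedralGroup.sr j) : M) := ⟨_, fun _ => rfl⟩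
  have hcM : c ∈ M := by rw [hc]; exact (e.symm (DihedralGroup.r 2)).2
  have hc3 : c ^ 3 = 1 := by
    rw [hc, ← Subgroup.coe_pow, ← map_pow, show (DihedralGroup.r 2 : DihedralGroup 6) ^ 3 = 1 by decide, map_one,
      Subgroup.coe_one]
  have hc1 : c ≠ 1 := by
    intro h
    rw [hc] at h
    have h1 : e.symm (DihedralGroup.r 2) = 1 := Subtype.ext h
    rw [map_eq_one_iff _ e.symm.injective] at h1
    exact absurd h1 (by decide)
  have hco : orderOf c = 3 := orderOf_eq_prime hc3 hc1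
  have hcc : c * c ≠ 1 := by
    intro h
    apply hc1
    calc c = c ^ 3 * (c * c)⁻¹ := by group
      _ = 1 := by rw [hc3, h, inv_one, mul_one]
  have hsc : ∀ j, s j * c * (s j)⁻¹ = c⁻¹ := by
    intro j
    have h1 : (DihedralGroup.sr j : DihedralGroup 6) * DihedralGroup.r 2 * (DihedralGroup.sr j)⁻¹ =
      (DihedralGroup.r 2)⁻¹ := by revert j; decide
    rw [hs, hc, ← Subgroup.coe_inv, ← Subgroup.coe_inv, ← Subgroup.coe_mul, ← Subgroup.coe_mul, ← map_inv, ← map_inv,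
      ← map_mul, ← map_mul, h1]
  have hss : ∀ j, s j * s j = 1 := by
    intro j
    have h1 : (DihedralGroup.sr j : DihedralGroup 6) * (DihedralGroup.sr j) = 1 := by revert j; decide
    rw [hs, ← Subgroup.coe_mul, ← map_mul, h1, map_one, Subgroup.coe_one]
  have hs2 : ∀ j, s j * c = s (j + 2) := by
    intro j
    have h1 : (DihedralGroup.sr j : DihedralGroup 6) * (DihedralGroup.r 2) = DihedralGroup.sr (j + 2) := by
      revert j; decide
    rw [hs, hc, hs, ← Subgroup.coe_mul, ← map_mul, h1]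
  -- the normalizer of `⟨c⟩`
  have hnM : ∀ t : PSL F, t * c * t⁻¹ = c⁻¹ → ∃ j, t = s j := by
    have hnorm : nrm (Subgroup.zpowers c) = M := by
      have h1 : M ≤ nrm (Subgroup.zpowers c) := by
        intro m hm
        rw [mem_nrm]
        have h3 : m * c * m⁻¹ = c ∨ m * c * m⁻¹ = c⁻¹ := by
          have h4 : ∀ z : DihedralGroup 6, z * DihedralGroup.r 2 * z⁻¹ = DihedralGroup.r 2 ∨
              z * DihedralGroup.r 2 * z⁻¹ = (DihedralGroup.r 2)⁻¹ := by decide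
          rcases h4 (e ⟨m, hm⟩) with h | h
          · left
            have h8 := congrArg (fun z => ((e.symm z : M) : PSL F)) h
            simp only [map_mul, map_inv, e.symm_apply_apply, Subgroup.coe_mul, Subgroup.coe_inv, ← hc] at h8
            exact h8
          · right
            have h8 := congrArg (fun z => ((e.symm z : M) : PSL F)) h
            simp only [map_mul, map_inv, e.symm_apply_apply, Subgroup.coe_mul, Subgroup.coe_inv, ← hc] at h8
            exact h8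
        have h6 : cj m (Subgroup.zpowers c) = Subgroup.zpowers (m * c * m⁻¹) := by
          rw [cj, MonoidHom.map_zpowers]
          rfl
        rw [h6]
        rcases h3 with h | h
        · rw [h]
        · rw [h, Subgroup.zpowers_inv]
      by_contra hne
      have h3 := hM.2 _ (lt_of_le_of_ne h1 (Ne.symm hne))
      rcases (Subgroup.normalizer_eq_top_iff.mp h3).eq_bot_or_eq_top with h | h
      · exact hc1 (Subgroup.zpowers_eq_bot.1 h)
      · have h4 := Nat.card_zpowers c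
        rw [h, hco, Subgroup.card_top, hG] at h4
        omega
    intro t ht
    have htM : t ∈ M := by
      rw [← hnorm, mem_nrm]
      have h6 : cj t (Subgroup.zpowers c) = Subgroup.zpowers (t * c * t⁻¹) := by
        rw [cj, MonoidHom.map_zpowers]
        rfl
      rw [h6, ht, Subgroup.zpowers_inv]
    rcases h7 : e ⟨t, htM⟩ with i | j
    · exfalso
      have h5 : t = (e.symm (DihedralGroup.r i) : M) := by rw [← h7, e.symm_apply_apply]
      have h8 : (DihedralGroup.r i : DihedralGroup 6) * DihedralGroup.r 2 * (DihedralGroup.r i)⁻¹ =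
        DihedralGroup.r 2 := by
        clear h7 h5
        revert i
        decide
      have h9 : t * c * t⁻¹ = c := by
        rw [h5, hc, ← Subgroup.coe_inv, ← Subgroup.coe_mul, ← Subgroup.coe_mul, ← map_inv, ← map_mul, ← map_mul, h8]
      rw [h9] at ht
      apply hcc
      nth_rewrite 1 [ht]
      rw [inv_mul_cancel]
    · exact ⟨j, by rw [hs, ← h7, e.symm_apply_apply]⟩
  -- the Klein four-group
  obtain ⟨V, hV, hcV⟩ : ∃ V : Subgroup (PSL F), IsKleinFour V ∧ c ∈ nrm V := by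
    obtain ⟨V, hV⟩ := Cfsg.Agent.ClassicalGeometry.PSL2KleinConj.exists_isKleinFour (F := F) h2
    have h1 : Nat.card (nrm V) = 12 := by rw [card_nrm_eq, card_nrm_inf_of_not_square hodd hns hV]
    obtain ⟨x, hx⟩ := exists_prime_orderOf_dvd_card' (G := nrm V) 3 (by rw [h1]; norm_num)
    have hx' : orderOf (x : PSL F) = 3 := by rw [Subgroup.orderOf_coe, hx]
    obtain ⟨g, hg⟩ := conj_zpowers hG (by norm_num) hx' hco
    refine ⟨cj g V, ?_, ?_⟩
    · have e1 := cjEquiv g V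
      constructor
      · rw [← Nat.card_congr e1.toEquiv, hV.card_four]
      · rw [← Monoid.exponent_eq_of_mulEquiv e1, hV.exponent_two]
    · rw [← cj_nrm]
      have h3 : c ∈ cj g (Subgroup.zpowers (x : PSL F)) := by
        rw [hg]
        exact Subgroup.mem_zpowers c
      have h4 : Subgroup.zpowers (x : PSL F) ≤ nrm V := by
        rw [Subgroup.zpowers_le]
        exact x.2
      exact cj_mono g h4 h3
  have hT : Nat.card (nrm V) = 12 := by rw [card_nrm_eq, card_nrm_inf_of_not_square hodd hns hV]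
  have hVc : ∀ v ∈ V, v * v = 1 := by
    intro v hv
    have h1 : (⟨v, hv⟩ : V) ^ 2 = 1 := by
      have h3 := Monoid.pow_exponent_eq_one (⟨v, hv⟩ : V)
      rwa [hV.exponent_two] at h3
    have h3 := congrArg Subtype.val h1
    rw [pow_two] at h3
    exact h3
  -- the reflections are not contained in `nrm V`
  have hsT : ∀ j, s j ∉ nrm V := by
    intro j hj
    have hn : ((V.subgroupOf (nrm V)) : Subgroup (nrm V)).Normal := Subgroup.normal_in_normalizer
    have hi : (V.subgroupOf (nrm V)).index = 3 := by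
      have h1 := (V.subgroupOf (nrm V)).card_mul_index
      rw [hT, Nat.card_congr (Subgroup.subgroupOfEquivOfLe (le_nrm V)).toEquiv, hV.card_four] at h1
      omega
    have h1 := Subgroup.pow_index_mem (V.subgroupOf (nrm V)) ⟨s j, hj⟩
    rw [hi, Subgroup.mem_subgroupOf] at h1
    have h3 : s j ∈ V := by
      have h4 : s j ^ 3 = s j := by
        rw [pow_succ, pow_two, hss, one_mul]
      rw [← h4]
      exact h1
    have h4 : s j * c * (s j)⁻¹ * c⁻¹ ∈ V := by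
      have h5 : c * (s j)⁻¹ * c⁻¹ ∈ V := (Subgroup.mem_normalizer_iff.1 hcV _).1 (inv_mem h3)
      have h6 := mul_mem h3 h5
      have h7 : s j * (c * (s j)⁻¹ * c⁻¹) = s j * c * (s j)⁻¹ * c⁻¹ := by group
      rwa [h7] at h6
    rw [hsc] at h4
    have h5 : c⁻¹ * c⁻¹ = c := by
      calc c⁻¹ * c⁻¹ = (c ^ 3)⁻¹ * c := by group
        _ = c := by rw [hc3, inv_one, one_mul]
    rw [h5] at h4
    exact hcc (hVc c h4)
  refine ⟨nrm V ⊔ Subgroup.zpowers (s 0), nrm V ⊔ Subgroup.zpowers (s 1), ?_⟩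
  rintro K ⟨eK⟩
  obtain ⟨W, hW, hWK⟩ := alt5_klein hodd hns eK
  obtain ⟨a, ha⟩ := exists_cj_eq_of_not_square hodd hns hW hV
  have eK' : cj a K ≃* alternatingGroup (Fin 5) := (cjEquiv a K).symm.trans eK
  have hTK : nrm V ≤ cj a K := by
    rw [← ha, ← cj_nrm]
    exact cj_mono a hWK
  have hK60 : Nat.card (cj a K) = 60 := by rw [Nat.card_congr eK'.toEquiv, card_A5]
  have hcK : c ∈ cj a K := hTK hcV
  -- the uniqueness
  have huniq : ∀ j, s j ∈ cj a K → cj a K = nrm V ⊔ Subgroup.zpowers (s j) := by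
    intro j hj
    have h1 : nrm V ⊔ Subgroup.zpowers (s j) ≤ cj a K := sup_le hTK (by rw [Subgroup.zpowers_le]; exact hj)
    have h3 := Subgroup.card_dvd_of_le h1
    have h4 := Subgroup.card_dvd_of_le (le_sup_left : nrm V ≤ nrm V ⊔ Subgroup.zpowers (s j))
    rw [hK60] at h3
    rw [hT] at h4
    have h5 : Nat.card (nrm V ⊔ Subgroup.zpowers (s j) : Subgroup (PSL F)) ≠ 12 := by
      intro h6
      have h7 : nrm V = nrm V ⊔ Subgroup.zpowers (s j) :=
        Subgroup.eq_of_le_of_card_ge le_sup_left (by rw [h6, hT])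
      apply hsT j
      rw [h7]
      exact (le_sup_right : _ ≤ nrm V ⊔ Subgroup.zpowers (s j)) (Subgroup.mem_zpowers _)
    have h6 : Nat.card (nrm V ⊔ Subgroup.zpowers (s j) : Subgroup (PSL F)) = 60 := by
      obtain ⟨u, hu⟩ := h4
      obtain ⟨v, hv⟩ := h3
      rw [hu] at hv h5 ⊢
      have hu1 : u * v = 5 := by
        have : 12 * (u * v) = 12 * 5 := by rw [← mul_assoc, ← hv]
        exact Nat.eq_of_mul_eq_mul_left (by norm_num) this
      have hud : u ∣ 5 := ⟨v, hu1.symm⟩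
      rcases (Nat.dvd_prime Nat.prime_five).1 hud with h | h
      · exact absurd (by rw [h]) h5
      · rw [h]
    exact (Subgroup.eq_of_le_of_card_ge h1 (by rw [h6, hK60])).symm
  -- a reflection in `K`
  obtain ⟨t, htK, ht⟩ : ∃ t ∈ cj a K, t * c * t⁻¹ = c⁻¹ := by
    have h1 : ((eK' ⟨c, hcK⟩ : alternatingGroup (Fin 5)) : Equiv.Perm (Fin 5)) ^ 3 = 1 := by
      rw [← Subgroup.coe_pow, ← map_pow, show (⟨c, hcK⟩ : cj a K) ^ 3 = 1 from Subtype.ext hc3, map_one,
        Subgroup.coe_one]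
    obtain ⟨τ, hτ, hτ'⟩ := five_inv _ (Equiv.Perm.mem_alternatingGroup.1 (eK' ⟨c, hcK⟩).2) h1
    refine ⟨(eK'.symm ⟨τ, Equiv.Perm.mem_alternatingGroup.2 hτ⟩ : cj a K), (eK'.symm ⟨τ, _⟩).2, ?_⟩
    have h3 : (⟨τ, Equiv.Perm.mem_alternatingGroup.2 hτ⟩ : alternatingGroup (Fin 5)) * eK' ⟨c, hcK⟩ *
      (⟨τ, Equiv.Perm.mem_alternatingGroup.2 hτ⟩)⁻¹ = (eK' ⟨c, hcK⟩)⁻¹ := Subtype.ext hτ'
    have h4 := congrArg eK'.symm h3
    rw [map_mul, map_mul, map_inv, map_inv, eK'.symm_apply_apply] at h4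
    exact congrArg Subtype.val h4
  obtain ⟨j, rfl⟩ := hnM t ht
  refine ⟨a, ?_⟩
  have hj2 : s (j + 2) ∈ cj a K := by
    rw [← hs2]
    exact mul_mem htK hcK
  have hj4 : s (j + 2 + 2) ∈ cj a K := by
    rw [← hs2]
    exact mul_mem hj2 hcK
  have h6 : ∀ j : ZMod 6, j = 0 ∨ j = 1 ∨ j + 2 = 0 ∨ j + 2 = 1 ∨ j + 2 + 2 = 0 ∨ j + 2 + 2 = 1 := by decide
  rcases h6 j with h | h | h | h | h | h
  · rw [h] at htK
    exact Or.inl (huniq 0 htK)
  · rw [h] at htK
    exact Or.inr (huniq 1 htK)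
  · rw [h] at hj2
    exact Or.inl (huniq 0 hj2)
  · rw [h] at hj2
    exact Or.inr (huniq 1 hj2)
  · rw [h] at hj4
    exact Or.inl (huniq 0 hj4)
  · rw [h] at hj4
    exact Or.inr (huniq 1 hj4)

theorem odd_four_eleven' [Fintype F] (hF : Fintype.card F = 11) : Cls 4 (PSL F) := by
  have hodd : Odd (Fintype.card F) := by rw [hF]; decide
  haveI : Fact (Nat.Prime 11) := ⟨by norm_num⟩
  haveI : CharP F 11 := charP_of_card_eq_prime_pow (f := 1) (by rw [hF, pow_one])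
  obtain ⟨B, hB, -, hBc⟩ := exists_borel hodd (by omega)
  obtain ⟨D, hD, hDc, hDe⟩ := exists_Dp hodd (by omega) (by omega)
  obtain ⟨A, hA, hAe⟩ : ∃ A : Subgroup (PSL F), IsCoatom A ∧ Nonempty (A ≃* alternatingGroup (Fin 5)) :=
    Cfsg.Agent.S5939.result (F := F) 11 (Or.inl ⟨hF, by norm_num⟩)
  obtain ⟨A', hA', ⟨eA⟩, hne, -⟩ := exists_split hodd hA (norm_A5 11 (by norm_num) hodd (by omega) hA hAe)
  have hAe' : Nonempty (A' ≃* alternatingGroup (Fin 5)) := by
    obtain ⟨e⟩ := hAe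
    exact ⟨eA.symm.trans e⟩
  have hAc : Nat.card A = 60 := by
    obtain ⟨e⟩ := hAe
    rw [Nat.card_congr e.toEquiv, card_A5]
  have hAc' : Nat.card A' = 60 := by
    obtain ⟨e⟩ := hAe'
    rw [Nat.card_congr e.toEquiv, card_A5]
  rw [hF] at hBc hDc
  -- the types
  have key : ∀ K : Subgroup (PSL F), IsCoatom K →
      (Nat.card K = 55 ∧ Bor K) ∨ (Nat.card K = 12 ∧ Tor K) ∨
      (Nat.card K = 60 ∧ Nonempty (K ≃* alternatingGroup (Fin 5))) := by
    intro K hK
    rcases odd_psl_conj 11 hodd (by omega) K hK with h | ⟨h, -, h'⟩ | ⟨k, b, hk, -⟩ | ⟨k, s, b, hs, hs', hk, hb⟩ |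
      ⟨-, -, e⟩ | ⟨-, -, h, -⟩ | ⟨-, h, -⟩
    · left
      have h1 := Bor.card hodd h
      rw [hF] at h1
      exact ⟨by omega, h⟩
    · right; left
      rw [hF] at h
      exact ⟨by omega, h'⟩
    · exfalso
      have hp : Nat.Prime 11 := by norm_num
      rw [Nat.card_eq_fintype_card, hF] at hk
      rw [hk] at hp
      exact absurd (Nat.Prime.eq_one_of_pow hp) (by norm_num)
    · exfalso
      have hp : Nat.Prime 11 := by norm_num
      rw [Nat.card_eq_fintype_card, hF] at hk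
      rw [hk] at hp
      exact hs.one_lt.ne' (Nat.Prime.eq_one_of_pow hp)
    · right; right
      refine ⟨?_, e⟩
      obtain ⟨e⟩ := e
      rw [Nat.card_congr e.toEquiv, card_A5]
    · exact absurd (by norm_num) h
    · exfalso
      omega
  have hBt : Bor B := by
    rcases key B hB with ⟨-, h⟩ | ⟨h, -⟩ | ⟨h, -⟩
    · exact h
    · omega
    · omega
  have hDt : Tor D := by
    rcases key D hD with ⟨h, -⟩ | ⟨-, h⟩ | ⟨h, -⟩
    · omega
    · exact h
    · omega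
  obtain ⟨Q₀, Q₁, hQ⟩ := eleven_core hF
  have conjA : ∀ K : Subgroup (PSL F), Nonempty (K ≃* alternatingGroup (Fin 5)) →
      ∃ g : PSL F, Subgroup.map (MulAut.conj g).toMonoidHom A = K ∨
        Subgroup.map (MulAut.conj g).toMonoidHom A' = K := by
    intro K hK
    obtain ⟨a, ha⟩ := hQ A hAe
    obtain ⟨a', ha'⟩ := hQ A' hAe'
    obtain ⟨b, hb⟩ := hQ K hK
    have hback : ∀ {X Y : Subgroup (PSL F)} {u v : PSL F}, cj u X = cj v Y → cj (v⁻¹ * u) X = Y := by
      intro X Y u v h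
      rw [cj_mul, h, cj_inv_cj]
    have hsame : ∀ Q : Subgroup (PSL F), cj a A = Q → cj a' A' = Q → False := by
      intro Q h h'
      exact hne (a⁻¹ * a') (hback (h'.trans h.symm))
    rcases ha with ha | ha <;> rcases ha' with ha' | ha'
    · exact (hsame _ ha ha').elim
    · rcases hb with hb | hb
      · exact ⟨b⁻¹ * a, Or.inl (hback (ha.trans hb.symm))⟩
      · exact ⟨b⁻¹ * a', Or.inr (hback (ha'.trans hb.symm))⟩
    · rcases hb with hb | hb
      · exact ⟨b⁻¹ * a', Or.inr (hback (ha'.trans hb.symm))⟩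
      · exact ⟨b⁻¹ * a, Or.inl (hback (ha.trans hb.symm))⟩
    · exact (hsame _ ha ha').elim
  refine cls_four hB hD hA' hA (fun g hg => ?_) (fun g hg => ?_) (fun g hg => ?_) (fun g hg => ?_)
    (fun g hg => ?_) (fun g hg => hne g hg) fun K hK => ?_
  · have := card_of_map_eq hg
    omega
  · have := card_of_map_eq hg
    omega
  · have := card_of_map_eq hg
    omega
  · have := card_of_map_eq hg
    omega
  · have := card_of_map_eq hg
    omega
  · rcases key K hK with ⟨-, h⟩ | ⟨h1, h⟩ | ⟨-, h⟩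
    · obtain ⟨g, hg⟩ := hBt.conj hodd h
      exact ⟨g, Or.inl hg⟩
    · obtain ⟨g, hg⟩ := hDt.conj hodd (by omega) h (by omega)
      exact ⟨g, Or.inr (Or.inl hg)⟩
    · obtain ⟨g, hg | hg⟩ := conjA K h
      · exact ⟨g, Or.inr (Or.inr (Or.inr hg))⟩
      · exact ⟨g, Or.inr (Or.inr (Or.inl hg))⟩

theorem odd_four_eleven [Fintype F] (hF : Fintype.card F = 11) :
    Cls 4 (Matrix.ProjectiveSpecialLinearGroup (Fin 2) F) := odd_four_eleven' hF

end Cfsg.Agent.H807.MaxPSL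
end

-- part: H542/MaxDih
section
/-!
# Dihedral maximal subgroups of a simple group are Sylow normalizers (helper542, for S5906, S5907)
-/

set_option autoImplicit false

namespace Cfsg.Agent.H542.MaxDih

theorem rot_of_odd {n : ℕ} {x : DihedralGroup n} (hx : Odd (orderOf x)) : ∃ i, x = DihedralGroup.r i := by
  cases x with
  | r i => exact ⟨i, rfl⟩
  | sr i =>
    rw [DihedralGroup.orderOf_sr] at hx
    exact absurd hx (by decide)

theorem conj_odd {n : ℕ} {x : DihedralGroup n} (hx : Odd (orderOf x)) (g : DihedralGroup n) :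
    g * x * g⁻¹ = x ∨ g * x * g⁻¹ = x⁻¹ := by
  obtain ⟨i, rfl⟩ := rot_of_odd hx
  cases g with
  | r j =>
    left
    simp [DihedralGroup.r_mul_r]
  | sr j =>
    right
    simp [DihedralGroup.sr_mul_r, DihedralGroup.sr_mul_sr, DihedralGroup.inv_sr, DihedralGroup.inv_r]

variable {G : Type*} [Group G] [Finite G] [IsSimpleGroup G]

/-- a dihedral maximal subgroup of order `2n` and index prime to `r` (`r ∣ n` an odd prime) is the normalizer
of a Sylow `r`-subgroup -/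
theorem exists_sylow {n r : ℕ} [hr : Fact r.Prime] (hodd : Odd r) (hrn : r ∣ n)
    {M : Subgroup G} (hM : IsCoatom M) (hidx : ¬ r ∣ M.index) (e : M ≃* DihedralGroup n) :
    ∃ S : Sylow r G, Subgroup.normalizer ((S : Subgroup G) : Set G) = M := by
  obtain ⟨P⟩ : Nonempty (Sylow r M) := inferInstance
  have hS : IsPGroup r ((P : Subgroup M).map M.subtype) := P.2.map _
  have hind : ¬ r ∣ ((P : Subgroup M).map M.subtype).index := by
    rw [Subgroup.index_map_subtype]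
    intro h
    rcases hr.out.dvd_mul.1 h with h | h
    · exact P.not_dvd_index h
    · exact hidx h
  let S : Sylow r G := hS.toSylow hind
  have hSc : (S : Subgroup G) = (P : Subgroup M).map M.subtype := rfl
  have hSM : (S : Subgroup G) ≤ M := by
    rw [hSc]
    exact Subgroup.map_subtype_le _
  refine ⟨S, ?_⟩
  have hodd' : ∀ x ∈ (P : Subgroup M), Odd (orderOf (e x)) := by
    intro x hx
    obtain ⟨k, hk⟩ := IsPGroup.iff_orderOf.1 P.2 ⟨x, hx⟩
    rw [Subgroup.orderOf_mk] at hk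
    rw [MulEquiv.orderOf_eq, hk]
    exact hodd.pow
  have hconj : ∀ g : M, ∀ x ∈ (P : Subgroup M), g * x * g⁻¹ ∈ (P : Subgroup M) := by
    intro g x hx
    rcases conj_odd (hodd' x hx) (e g) with h | h
    · have h1 : g * x * g⁻¹ = x := e.injective (by rw [map_mul, map_mul, map_inv]; exact h)
      rw [h1]
      exact hx
    · have h1 : g * x * g⁻¹ = x⁻¹ := e.injective (by rw [map_mul, map_mul, map_inv, map_inv]; exact h)
      rw [h1]
      exact (P : Subgroup M).inv_mem hx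
  have hle : M ≤ Subgroup.normalizer ((S : Subgroup G) : Set G) := by
    intro g hg
    rw [Subgroup.mem_normalizer_iff]
    have key : ∀ g ∈ M, ∀ x ∈ (S : Subgroup G), g * x * g⁻¹ ∈ (S : Subgroup G) := by
      intro g hg x hx
      rw [hSc] at hx ⊢
      obtain ⟨y, hy, rfl⟩ := Subgroup.mem_map.1 hx
      exact Subgroup.mem_map.2 ⟨(⟨g, hg⟩ * y * ⟨g, hg⟩⁻¹ :), hconj _ _ hy, rfl⟩
    intro x
    refine ⟨fun hx => key g hg x hx, fun hx => ?_⟩
    have h1 := key g⁻¹ (M.inv_mem hg) _ hx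
    have h2 : g⁻¹ * (g * x * g⁻¹) * g⁻¹⁻¹ = x := by group
    rwa [h2] at h1
  rcases eq_or_lt_of_le hle with h | h
  · exact h.symm
  · exfalso
    have hN : (S : Subgroup G).Normal := Subgroup.normalizer_eq_top_iff.1 (hM.2 _ h)
    rcases hN.eq_bot_or_eq_top with h1 | h1
    · -- then `r` does not divide the order
      have h2 : r ∣ Nat.card G := by
        refine dvd_trans ?_ (Subgroup.card_subgroup_dvd_card M)
        rw [Nat.card_congr e.toEquiv, DihedralGroup.nat_card]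
        exact hrn.mul_left 2
      have h3 : ¬ r ∣ (S : Subgroup G).index := S.not_dvd_index
      rw [h1, Subgroup.index_bot] at h3
      exact h3 h2
    · exact hM.1 (top_le_iff.1 (h1 ▸ hSM))

/-- such maximal subgroups are conjugate -/
theorem conj_of_dihedral {n r : ℕ} [hr : Fact r.Prime] (hodd : Odd r) (hrn : r ∣ n)
    {M M' : Subgroup G} (hM : IsCoatom M) (hM' : IsCoatom M') (hidx : ¬ r ∣ M.index) (hidx' : ¬ r ∣ M'.index)
    (e : M ≃* DihedralGroup n) (e' : M' ≃* DihedralGroup n) :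
    ∃ g : G, Subgroup.map (MulAut.conj g).toMonoidHom M = M' := by
  obtain ⟨S, hS⟩ := exists_sylow hodd hrn hM hidx e
  obtain ⟨S', hS'⟩ := exists_sylow hodd hrn hM' hidx' e'
  obtain ⟨g, hg⟩ := MulAction.exists_smul_eq G S S'
  refine ⟨g, ?_⟩
  rw [← hS, ← hS', ← hg]
  have hmem : ∀ x : G, x ∈ ((g • S : Sylow r G) : Subgroup G) ↔ g⁻¹ * x * g ∈ (S : Subgroup G) := by
    intro x
    rw [Sylow.coe_subgroup_smul, Subgroup.mem_pointwise_smul_iff_inv_smul_mem]
    have : (MulAut.conj g)⁻¹ • x = g⁻¹ * x * g := by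
      rw [← map_inv]
      show g⁻¹ * x * g⁻¹⁻¹ = _
      rw [inv_inv]
    rw [this]
  ext x
  rw [Subgroup.mem_map]
  constructor
  · rintro ⟨y, hy, rfl⟩
    rw [Subgroup.mem_normalizer_iff] at hy ⊢
    intro z
    rw [hmem, hmem]
    have h1 := hy (g⁻¹ * z * g)
    have h2 : g⁻¹ * ((MulAut.conj g).toMonoidHom y * z * ((MulAut.conj g).toMonoidHom y)⁻¹) * g =
        y * (g⁻¹ * z * g) * y⁻¹ := by
      show g⁻¹ * (g * y * g⁻¹ * z * (g * y * g⁻¹)⁻¹) * g = _
      group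
    rw [h2]
    exact h1
  · intro hx
    refine ⟨g⁻¹ * x * g, ?_, ?_⟩
    · rw [Subgroup.mem_normalizer_iff] at hx ⊢
      intro z
      have h1 := hx (g * z * g⁻¹)
      rw [hmem, hmem] at h1
      have h2 : g⁻¹ * (g * z * g⁻¹) * g = z := by group
      have h3 : g⁻¹ * (x * (g * z * g⁻¹) * x⁻¹) * g = g⁻¹ * x * g * z * (g⁻¹ * x * g)⁻¹ := by group
      rw [h2, h3] at h1
      exact h1
    · show g * (g⁻¹ * x * g) * g⁻¹ = x
      group

end Cfsg.Agent.H542.MaxDih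
end

-- part: H542/MaxEven
section
/-!
# Classes of maximal subgroups of `PSL₂(2^f)` (helper542, for S5906, S5907)
-/

set_option autoImplicit false
set_option linter.style.haveILetI false

namespace Cfsg.Agent.H542.MaxEven

open Cfsg.Agent.H937 Cfsg.Agent.H940.MaxCls Cfsg.Agent.H542.MaxDih
open Cfsg.Agent.ClassicalGeometry.PSL2Basic

section

variable {F : Type*} [Field F]

/-- maximal subgroups of `PGL₂(q)`, `q` even, with the conjugations of `structure_pgl` -/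
theorem even_types [Fintype F] (heven : Even (Fintype.card F)) (h4 : 4 ≤ Fintype.card F)
    (M : Subgroup (PGL F)) (hM : M ⋖ ⊤) :
    (∃ b, cj b M = BP F) ∨
    Nonempty (M ≃* DihedralGroup (Fintype.card F - 1)) ∨
    Nonempty (M ≃* DihedralGroup (Fintype.card F + 1)) ∨
    (∃ (k : Subfield F) (r : ℕ), r.Prime ∧ Nat.card k ≠ 2 ∧
        Nat.card F = Nat.card k ^ r ∧ ∃ b, cj b M = PG k) := by
  have h2 : (2 : F) = 0 := by
    by_contra h
    exact (Nat.not_even_iff_odd.2 ((two_ne_zero_iff_odd F).1 h)) heven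
  haveI : CharP F 2 := CharTwo.of_one_ne_zero_of_two_eq_zero one_ne_zero h2
  haveI : Fact (Nat.Prime 2) := ⟨Nat.prime_two⟩
  have hcube := card_PGL_cube (F := F)
  have hdih : ∀ c : PGL F, c ^ 2 ≠ 1 → (∀ h ∈ M, h * c * h⁻¹ ∈ Subgroup.zpowers c) →
      Nonempty (M ≃* DihedralGroup (Fintype.card F - 1)) ∨
      Nonempty (M ≃* DihedralGroup (Fintype.card F + 1)) := by
    intro c hc1 hc2
    obtain ⟨N, hN, n, hn, hN2, -⟩ := torus_case 2 hc1 hc2
    have hNt : N ≠ ⊤ := by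
      intro h
      have h1 : Nat.card N = Nat.card (PGL F) := by
        rw [h]
        exact Nat.card_congr Subgroup.topEquiv.toEquiv
      obtain ⟨e⟩ := hN2
      rw [Nat.card_congr e.toEquiv, DihedralGroup.nat_card] at h1
      rw [← h1] at hcube
      obtain ⟨s, hs⟩ := Nat.exists_eq_add_of_le h4
      have h5 : Fintype.card F - 1 = s + 3 := by omega
      have h6 : (4 + s) ^ 3 = 64 + 48 * s + 12 * s ^ 2 + s ^ 3 := by ring
      rcases hn with rfl | rfl
      · rw [h5, hs, h6] at hcube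
        nlinarith [Nat.zero_le (s ^ 3), Nat.zero_le (s ^ 2)]
      · rw [hs, h6] at hcube
        nlinarith [Nat.zero_le (s ^ 3), Nat.zero_le (s ^ 2)]
    have hMN : M = N := by
      by_contra hne
      exact hM.2 (lt_of_le_of_ne hN hne) (lt_top_iff_ne_top.mpr hNt)
    rw [hMN]
    rcases hn with rfl | rfl
    · exact Or.inl hN2
    · exact Or.inr hN2
  rcases structure_pgl 2 M with ⟨b, hb⟩ | ⟨c, hc, hc1, hc2⟩ | ⟨h1, h3⟩ | ⟨h1, -⟩ | ⟨k, b, hb⟩
  · left
    have hcov : cj b M ⋖ ⊤ := cj_covBy_normal hM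
    have hBt : BP F ≠ ⊤ := by
      intro h
      have h1 : Nat.card (BP F) = Nat.card (PGL F) := by
        rw [h]
        exact Nat.card_congr Subgroup.topEquiv.toEquiv
      rw [card_BP] at h1
      rw [← h1] at hcube
      obtain ⟨s, hs⟩ := Nat.exists_eq_add_of_le h4
      have h5 : Fintype.card F - 1 = s + 3 := by omega
      have h6 : (4 + s) ^ 3 = 64 + 48 * s + 12 * s ^ 2 + s ^ 3 := by ring
      rw [h5, hs, h6] at hcube
      nlinarith [Nat.zero_le (s ^ 3), Nat.zero_le (s ^ 2)]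
    refine ⟨b, ?_⟩
    by_contra hne
    exact hcov.2 (lt_of_le_of_ne hb hne) (lt_top_iff_ne_top.mpr hBt)
  · rcases hdih c hc1 hc2 with h | h
    · exact Or.inr (Or.inl h)
    · exact Or.inr (Or.inr (Or.inl h))
  · exfalso
    apply h1
    rcases h3 with ⟨⟨e⟩⟩ | ⟨⟨e⟩⟩ | ⟨⟨e⟩⟩
    · rw [Nat.card_congr e.toEquiv, card_A4]
      norm_num
    · rw [Nat.card_congr e.toEquiv, card_S4]
      norm_num
    · rw [Nat.card_congr e.toEquiv, card_A5]
      norm_num
  · omega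
  · have hk : Even (Nat.card k) := by
      by_contra h
      rw [Nat.not_even_iff_odd] at h
      have h5 := card_subfield_pow k
      rw [Nat.card_eq_fintype_card (α := F)] at h5
      rw [← h5] at heven
      exact (Nat.not_even_iff_odd.mpr h.pow) heven
    have hb' : cj b M = PG k := by
      rcases hb with h | h
      · rw [h, PS_eq_PG_even hk]
      · exact h
    have hcov : PG k ⋖ ⊤ := by
      rw [← hb']
      exact cj_covBy_normal hM
    by_cases hk2 : Nat.card k = 2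
    · obtain ⟨c, hc, hc1, hc2⟩ := exists_c_of_card_two hk2
      have h7 : ∀ h ∈ M, h * (b⁻¹ * c * b) * h⁻¹ ∈ Subgroup.zpowers (b⁻¹ * c * b) := by
        intro h hh
        have h8 : b * h * b⁻¹ ∈ PG k := by
          rw [← hb', mem_cj]
          have : b⁻¹ * (b * h * b⁻¹) * b = h := by group
          rwa [this]
        obtain ⟨i, hi⟩ := hc2 _ h8
        refine ⟨i, ?_⟩
        show (b⁻¹ * c * b) ^ i = _
        have h9 : (b⁻¹ * c * b) ^ i = b⁻¹ * c ^ i * b := by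
          have := conj_zpow (a := b⁻¹) (b := c) (i := i)
          rwa [inv_inv] at this
        rw [h9]
        have hi' : c ^ i = b * h * b⁻¹ * c * (b * h * b⁻¹)⁻¹ := hi
        rw [hi']
        group
      have h8 : (b⁻¹ * c * b) ^ 2 ≠ 1 := by
        intro h
        apply hc1
        have h9 : (b⁻¹ * c * b) ^ 2 = b⁻¹ * c ^ 2 * b := by
          have := conj_pow (a := b⁻¹) (b := c) (i := 2)
          rwa [inv_inv] at this
        rw [h9] at h
        have h10 : c ^ 2 = b * (b⁻¹ * c ^ 2 * b) * b⁻¹ := by group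
        rw [h10, h]
        group
      rcases hdih _ h8 h7 with h | h
      · exact Or.inr (Or.inl h)
      · exact Or.inr (Or.inr (Or.inl h))
    · right; right; right
      obtain ⟨r, hr, hr'⟩ := prime_of_PG_covBy hcov
      exact ⟨k, r, hr, hk2, hr'.symm, b, hb'⟩

end

/-! ### arithmetic -/

theorem exists_odd_prime {n : ℕ} (h3 : 3 ≤ n) (hodd : Odd n) : ∃ r : ℕ, r.Prime ∧ Odd r ∧ r ∣ n := by
  refine ⟨n.minFac, Nat.minFac_prime (by omega), ?_, Nat.minFac_dvd n⟩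
  exact Odd.of_dvd_nat hodd (Nat.minFac_dvd n)

theorem not_dvd_sub {r n i : ℕ} (hr : r.Prime) (hodd : Odd r) (hrn : r ∣ n) (h : 2 * i = (n + 1) * (n + 2)) :
    ¬ r ∣ i := by
  intro hi
  have h1 : r ∣ (n + 1) * (n + 2) := by
    rw [← h]
    exact hi.mul_left 2
  rcases hr.dvd_mul.1 h1 with h2 | h2
  · have := (Nat.dvd_add_right hrn).1 h2
    exact hr.one_lt.ne' (Nat.dvd_one.1 this)
  · have := (Nat.dvd_add_right hrn).1 h2
    rw [(Nat.prime_dvd_prime_iff_eq hr Nat.prime_two).1 this] at hodd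
    exact absurd hodd (by decide)

theorem not_dvd_add {r m i : ℕ} (hr : r.Prime) (hodd : Odd r) (hrn : r ∣ m + 2) (h : 2 * i = (m + 1) * m) :
    ¬ r ∣ i := by
  intro hi
  have h1 : r ∣ (m + 1) * m := by
    rw [← h]
    exact hi.mul_left 2
  rcases hr.dvd_mul.1 h1 with h2 | h2
  · have : r ∣ 1 := by
      have e : m + 2 = (m + 1) + 1 := rfl
      rw [e] at hrn
      exact (Nat.dvd_add_right h2).1 hrn
    exact hr.one_lt.ne' (Nat.dvd_one.1 this)
  · have := (Nat.dvd_add_right h2).1 hrn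
    rw [(Nat.prime_dvd_prime_iff_eq hr Nat.prime_two).1 this] at hodd
    exact absurd hodd (by decide)

section

variable {F : Type*} [Field F] [Fintype F]

/-- `PSL₂ = PGL₂` in even characteristic -/
noncomputable def eqv (heven : Even (Fintype.card F)) : PSL F ≃* PGL F :=
  MulEquiv.ofBijective (ta : PSL F →* PGL F)
    ⟨ta_injective, MonoidHom.range_eq_top.1 (LL_eq_top_even heven)⟩

theorem simple_PGL (heven : Even (Fintype.card F)) (h4 : 4 ≤ Fintype.card F) : IsSimpleGroup (PGL F) := by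
  haveI : IsSimpleGroup (PSL F) :=
    Matrix.ProjectiveSpecialLinearGroup.rank_two_simple (by rw [Nat.card_eq_fintype_card]; omega)
  exact (eqv heven).symm.isSimpleGroup

theorem isCoatom_map_equiv {G H : Type*} [Group G] [Group H] (e : G ≃* H) {A : Subgroup G} (hA : IsCoatom A) :
    IsCoatom (A.map e.toMonoidHom) := (OrderIso.isCoatom_iff e.mapSubgroup A).2 hA

theorem exists_sub (heven : Even (Fintype.card F)) (h4 : 4 ≤ Fintype.card F) :
    ∃ A : Subgroup (PGL F), IsCoatom A ∧ Nonempty (A ≃* DihedralGroup (Fintype.card F - 1)) := by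
  obtain ⟨H, hH, ⟨e⟩⟩ := Cfsg.Agent.S0812.result (F := F) rfl (by
    simp only [Finset.mem_insert, Finset.mem_singleton, not_or]
    refine ⟨by omega, ?_, ?_, ?_, ?_, ?_⟩ <;> (intro h; rw [h] at heven; exact absurd heven (by decide)))
  have hg : Nat.gcd 2 (Fintype.card F - 1) = 1 := by
    have : ¬ 2 ∣ Fintype.card F - 1 := by
      obtain ⟨m, hm⟩ := heven
      omega
    exact (Nat.Prime.coprime_iff_not_dvd Nat.prime_two).2 this
  rw [hg, Nat.div_one] at e
  exact ⟨_, isCoatom_map_equiv (eqv heven) hH,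
    ⟨(Subgroup.equivMapOfInjective H _ (eqv heven).injective).symm.trans e⟩⟩

theorem exists_add (heven : Even (Fintype.card F)) (h4 : 4 ≤ Fintype.card F) :
    ∃ A : Subgroup (PGL F), IsCoatom A ∧ Nonempty (A ≃* DihedralGroup (Fintype.card F + 1)) := by
  obtain ⟨H, hH, ⟨e⟩⟩ := Cfsg.Agent.S0811.result (F := F) rfl (by
    simp only [Finset.mem_insert, Finset.mem_singleton, not_or]
    refine ⟨by omega, ?_, ?_⟩ <;> (intro h; rw [h] at heven; exact absurd heven (by decide)))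
  have hg : Nat.gcd 2 (Fintype.card F - 1) = 1 := by
    have : ¬ 2 ∣ Fintype.card F - 1 := by
      obtain ⟨m, hm⟩ := heven
      omega
    exact (Nat.Prime.coprime_iff_not_dvd Nat.prime_two).2 this
  rw [hg, Nat.div_one] at e
  exact ⟨_, isCoatom_map_equiv (eqv heven) hH,
    ⟨(Subgroup.equivMapOfInjective H _ (eqv heven).injective).symm.trans e⟩⟩

/-- the maximal subgroups `D_{q-1}` form one class -/
theorem conj_sub (heven : Even (Fintype.card F)) (h4 : 4 ≤ Fintype.card F) {M M' : Subgroup (PGL F)}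
    (hM : IsCoatom M) (hM' : IsCoatom M') (e : Nonempty (M ≃* DihedralGroup (Fintype.card F - 1)))
    (e' : Nonempty (M' ≃* DihedralGroup (Fintype.card F - 1))) :
    ∃ g : PGL F, Subgroup.map (MulAut.conj g).toMonoidHom M = M' := by
  haveI := simple_PGL heven h4
  obtain ⟨e⟩ := e
  obtain ⟨e'⟩ := e'
  have hcube := card_PGL_cube (F := F)
  obtain ⟨n, hn⟩ : ∃ n, Fintype.card F = n + 1 := ⟨Fintype.card F - 1, by omega⟩
  have hn1 : Fintype.card F - 1 = n := by omega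
  obtain ⟨r, hr, hodd, hrn⟩ := exists_odd_prime (n := n) (by omega) (by
    rw [hn] at heven
    by_contra h
    rw [Nat.not_odd_iff_even] at h
    exact (Nat.not_even_iff_odd.2 h.add_one) heven)
  haveI : Fact r.Prime := ⟨hr⟩
  rw [hn1] at e e'
  rw [hn] at hcube
  have hidx : ∀ (A : Subgroup (PGL F)), (A ≃* DihedralGroup n) → ¬ r ∣ A.index := by
    intro A eA
    refine not_dvd_sub hr hodd hrn ?_
    have h1 := A.card_mul_index
    rw [Nat.card_congr eA.toEquiv, DihedralGroup.nat_card] at h1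
    have h2 : n * (2 * A.index) = n * ((n + 1) * (n + 2)) := by
      have : n * (2 * A.index) = Nat.card (PGL F) := by rw [← h1]; ring
      rw [this]
      have h3 : (n + 1) ^ 3 = n * ((n + 1) * (n + 2)) + (n + 1) := by ring
      omega
    exact Nat.eq_of_mul_eq_mul_left (by omega) h2
  exact conj_of_dihedral hodd hrn hM hM' (hidx M e) (hidx M' e') e e'

/-- the maximal subgroups `D_{q+1}` form one class -/
theorem conj_add (heven : Even (Fintype.card F)) (h4 : 4 ≤ Fintype.card F) {M M' : Subgroup (PGL F)}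
    (hM : IsCoatom M) (hM' : IsCoatom M') (e : Nonempty (M ≃* DihedralGroup (Fintype.card F + 1)))
    (e' : Nonempty (M' ≃* DihedralGroup (Fintype.card F + 1))) :
    ∃ g : PGL F, Subgroup.map (MulAut.conj g).toMonoidHom M = M' := by
  haveI := simple_PGL heven h4
  obtain ⟨e⟩ := e
  obtain ⟨e'⟩ := e'
  have hcube := card_PGL_cube (F := F)
  obtain ⟨m, hm⟩ : ∃ m, Fintype.card F = m + 1 := ⟨Fintype.card F - 1, by omega⟩
  obtain ⟨r, hr, hodd, hrn⟩ := exists_odd_prime (n := m + 2) (by omega) (by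
    rw [hm] at heven
    exact heven.add_one)
  haveI : Fact r.Prime := ⟨hr⟩
  have hm2 : Fintype.card F + 1 = m + 2 := by omega
  rw [hm2] at e e'
  rw [hm] at hcube
  have hidx : ∀ (A : Subgroup (PGL F)), (A ≃* DihedralGroup (m + 2)) → ¬ r ∣ A.index := by
    intro A eA
    refine not_dvd_add hr hodd hrn ?_
    have h1 := A.card_mul_index
    rw [Nat.card_congr eA.toEquiv, DihedralGroup.nat_card] at h1
    have h2 : (m + 2) * (2 * A.index) = (m + 2) * ((m + 1) * m) := by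
      have : (m + 2) * (2 * A.index) = Nat.card (PGL F) := by rw [← h1]; ring
      rw [this]
      have h3 : (m + 1) ^ 3 = (m + 2) * ((m + 1) * m) + (m + 1) := by ring
      omega
    exact Nat.eq_of_mul_eq_mul_left (by omega) h2
  exact conj_of_dihedral hodd hrn hM hM' (hidx M e) (hidx M' e') e e'

/-! ### sizes -/

theorem card_PG_small {k : Subfield F} {r : ℕ} (hr : r.Prime) (h : Nat.card F = Nat.card k ^ r) :
    Nat.card (PG k) < Fintype.card F * (Fintype.card F - 1) := by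
  have hk1 : 1 < Nat.card k := Finite.one_lt_card
  have hc := card_cube k
  rw [Nat.card_eq_fintype_card] at h
  have h2 : Nat.card k ^ 2 ≤ Fintype.card F := by
    rw [h]
    exact Nat.pow_le_pow_right (by omega) hr.two_le
  generalize Nat.card k = a at *
  generalize Fintype.card F = q at *
  have h3 : a * (a * a) < q * (q - 1) + a := by
    have h4 : a * a ≤ q := by rw [← sq]; exact h2
    have h5 : a * 2 ≤ a * a := Nat.mul_le_mul_left a hk1
    obtain ⟨s, rfl⟩ : ∃ s, q = s + 1 := ⟨q - 1, by omega⟩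
    rw [Nat.add_sub_cancel]
    nlinarith
  have h6 : a ^ 3 = a * (a * a) := by ring
  omega

theorem card_PG_ne_dih {k : Subfield F} (heven : Even (Nat.card k)) (hk2 : Nat.card k ≠ 2) {n : ℕ} (hn : Odd n) :
    Nat.card (PG k) ≠ 2 * n := by
  intro h
  have hc := card_cube k
  have hk1 : 1 < Nat.card k := Finite.one_lt_card
  obtain ⟨b, hb⟩ : 4 ∣ Nat.card k := by
    have h2k : (2 : k) = 0 := by
      letI : Fintype k := Fintype.ofFinite k
      by_contra h
      refine (Nat.not_even_iff_odd.2 ((two_ne_zero_iff_odd k).1 h)) ?_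
      rw [← Nat.card_eq_fintype_card]
      exact heven
    haveI : CharP k 2 := CharTwo.of_one_ne_zero_of_two_eq_zero one_ne_zero h2k
    letI : Fintype k := Fintype.ofFinite k
    obtain ⟨m, -, hm⟩ := FiniteField.card k 2
    rw [Nat.card_eq_fintype_card, hm] at hk2 ⊢
    have : 2 ≤ (m : ℕ) := by
      have h1 := m.pos
      by_contra h2
      have h3 : (m : ℕ) = 1 := by omega
      rw [h3] at hk2
      exact hk2 rfl
    exact pow_dvd_pow 2 this
  rw [h, hb] at hc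
  obtain ⟨c, hc'⟩ := hn
  rw [hc'] at hc
  have : (4 * b) ^ 3 = 4 * (16 * b ^ 3) := by ring
  rw [this] at hc
  omega

theorem even_of_pow {k : Subfield F} (heven : Even (Fintype.card F)) : Even (Nat.card k) := by
  by_contra h
  rw [Nat.not_even_iff_odd] at h
  have h5 := card_subfield_pow k
  rw [Nat.card_eq_fintype_card (α := F)] at h5
  rw [← h5] at heven
  exact (Nat.not_even_iff_odd.mpr h.pow) heven

theorem odd_sub (heven : Even (Fintype.card F)) (h4 : 4 ≤ Fintype.card F) : Odd (Fintype.card F - 1) := by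
  obtain ⟨m, hm⟩ := heven
  exact ⟨m - 1, by omega⟩

theorem card_dih {n : ℕ} {M : Subgroup (PGL F)} (e : Nonempty (M ≃* DihedralGroup n)) : Nat.card M = 2 * n := by
  obtain ⟨e⟩ := e
  rw [Nat.card_congr e.toEquiv, DihedralGroup.nat_card]

theorem BP_ne_top (h4 : 4 ≤ Fintype.card F) : BP F ≠ ⊤ := by
  intro h
  have hcube := card_PGL_cube (F := F)
  have h1 : Nat.card (BP F) = Nat.card (PGL F) := by
    rw [h]
    exact Nat.card_congr Subgroup.topEquiv.toEquiv
  rw [card_BP] at h1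
  rw [← h1] at hcube
  obtain ⟨s, hs⟩ := Nat.exists_eq_add_of_le h4
  have h5 : Fintype.card F - 1 = s + 3 := by omega
  have h6 : (4 + s) ^ 3 = 64 + 48 * s + 12 * s ^ 2 + s ^ 3 := by ring
  rw [h5, hs, h6] at hcube
  nlinarith [Nat.zero_le (s ^ 3), Nat.zero_le (s ^ 2)]

theorem dih_lt (h4 : 4 ≤ Fintype.card F) {n : ℕ} (hn : n ≤ Fintype.card F + 1) :
    2 * n < Fintype.card F * (Fintype.card F - 1) := by
  generalize Fintype.card F = q at *
  obtain ⟨s, rfl⟩ : ∃ s, q = s + 4 := ⟨q - 4, by omega⟩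
  have : s + 4 - 1 = s + 3 := by omega
  rw [this]
  nlinarith

theorem isCoatom_BP (heven : Even (Fintype.card F)) (h4 : 4 ≤ Fintype.card F) : IsCoatom (BP F) := by
  obtain ⟨M, hM, hle⟩ := exists_coatom_ge (BP_ne_top h4)
  have hcard : Nat.card (BP F) ≤ Nat.card M := Nat.le_of_dvd Nat.card_pos (Subgroup.card_dvd_of_le hle)
  rw [card_BP] at hcard
  have heq : BP F = M := by
    rcases even_types heven h4 M hM.covBy_top with ⟨b, hb⟩ | h | h | ⟨k, r, hr, -, h1, b, hb⟩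
    · refine Subgroup.eq_of_le_of_card_ge hle ?_
      rw [← hb, card_cj]
    · rw [card_dih h] at hcard
      exact absurd (dih_lt h4 (n := Fintype.card F - 1) (by omega)) (not_lt.2 hcard)
    · rw [card_dih h] at hcard
      exact absurd (dih_lt h4 (n := Fintype.card F + 1) le_rfl) (not_lt.2 hcard)
    · rw [← card_cj b M, hb] at hcard
      exact absurd (card_PG_small hr h1) (not_lt.2 hcard)
  rw [heq]
  exact hM

theorem isCoatom_cj {b : PGL F} {M : Subgroup (PGL F)} (hM : IsCoatom M) : IsCoatom (cj b M) :=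
  (OrderIso.isCoatom_iff ((MulAut.conj b).mapSubgroup) M).2 hM

theorem subfield_eq_of_card {k k' : Subfield F} (h : Nat.card k = Nat.card k') : k = k' :=
  le_antisymm (subfield_le_of_card (a := 1) (by rw [pow_one, h])) (subfield_le_of_card (a := 1) (by rw [pow_one, h]))

theorem isCoatom_PG (heven : Even (Fintype.card F)) (h4 : 4 ≤ Fintype.card F) {k : Subfield F} {r : ℕ}
    (hr : r.Prime) (hk2 : Nat.card k ≠ 2) (h : Nat.card F = Nat.card k ^ r) : IsCoatom (PG k) := by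
  have hke : Even (Nat.card k) := even_of_pow heven
  letI : Fintype k := Fintype.ofFinite k
  obtain ⟨H, hH, ⟨e⟩⟩ := Cfsg.Agent.S5943.result (F := F) (K := k) (Nat.card k) r
    (Nat.card_eq_fintype_card).symm (by rw [← h, Nat.card_eq_fintype_card]) hke hk2 hr
  have hM := isCoatom_map_equiv (eqv heven) hH
  have hcard : Nat.card (H.map (eqv heven).toMonoidHom) = Nat.card (PG k) := by
    rw [← PS_eq_PG_even hke, card_PS]
    exact (Nat.card_congr (Subgroup.equivMapOfInjective H _ (eqv heven).injective).toEquiv).symm.trans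
      (Nat.card_congr e.toEquiv)
  rcases even_types heven h4 _ hM.covBy_top with ⟨b, hb⟩ | h' | h' | ⟨k', r', hr', -, h1, b, hb⟩
  · exfalso
    have h3 := card_PG_small hr h
    rw [← hcard, ← card_cj b, hb, card_BP] at h3
    exact lt_irrefl _ h3
  · exfalso
    rw [card_dih h'] at hcard
    exact card_PG_ne_dih hke hk2 (odd_sub heven h4) hcard.symm
  · exfalso
    rw [card_dih h'] at hcard
    exact card_PG_ne_dih hke hk2 heven.add_one hcard.symm
  · have h3 : Nat.card k = Nat.card k' := by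
      rw [← card_cj b, hb] at hcard
      rcases lt_trichotomy (Nat.card k) (Nat.card k') with h4 | h4 | h4
      · exact absurd hcard (card_PG_lt h4).ne'
      · exact h4
      · exact absurd hcard (card_PG_lt h4).ne
    rw [subfield_eq_of_card h3, ← hb]
    exact isCoatom_cj hM

end

section main

variable {F : Type*} [Field F] [Fintype F]

/-- the conclusion of `even_types` for maximal subgroups, against fixed representatives -/
theorem types_conj (heven : Even (Fintype.card F)) (h4 : 4 ≤ Fintype.card F) {A B : Subgroup (PGL F)}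
    (hA : IsCoatom A) (hB : IsCoatom B) (eA : Nonempty (A ≃* DihedralGroup (Fintype.card F - 1)))
    (eB : Nonempty (B ≃* DihedralGroup (Fintype.card F + 1))) {K : Subgroup (PGL F)} (hK : IsCoatom K) :
    (∃ g : PGL F, Subgroup.map (MulAut.conj g).toMonoidHom (BP F) = K) ∨
    (∃ g : PGL F, Subgroup.map (MulAut.conj g).toMonoidHom A = K) ∨
    (∃ g : PGL F, Subgroup.map (MulAut.conj g).toMonoidHom B = K) ∨
    (∃ (k : Subfield F) (r : ℕ), r.Prime ∧ Nat.card k ≠ 2 ∧ Nat.card F = Nat.card k ^ r ∧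
      ∃ g : PGL F, Subgroup.map (MulAut.conj g).toMonoidHom (PG k) = K) := by
  rcases even_types heven h4 K hK.covBy_top with ⟨b, hb⟩ | h | h | ⟨k, r, hr, h1, h2, b, hb⟩
  · left
    refine ⟨b⁻¹, ?_⟩
    rw [← hb]
    exact cj_inv_cj b K
  · exact Or.inr (Or.inl (conj_sub heven h4 hA hK eA h))
  · exact Or.inr (Or.inr (Or.inl (conj_add heven h4 hB hK eB h)))
  · right; right; right
    refine ⟨k, r, hr, h1, h2, b⁻¹, ?_⟩
    rw [← hb]
    exact cj_inv_cj b K

theorem ne_of_card {G : Type*} [Group G] {A B : Subgroup G} (h : Nat.card A ≠ Nat.card B) (g : G) :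
    Subgroup.map (MulAut.conj g).toMonoidHom A ≠ B := by
  intro h1
  apply h
  rw [← h1, card_map_conj]

variable (heven : Even (Fintype.card F)) (h4 : 4 ≤ Fintype.card F)

include heven h4

theorem exists_three : ∃ A B : Subgroup (PGL F), IsCoatom A ∧ IsCoatom B ∧
    Nonempty (A ≃* DihedralGroup (Fintype.card F - 1)) ∧ Nonempty (B ≃* DihedralGroup (Fintype.card F + 1)) ∧
    Nat.card A < Nat.card B ∧ Nat.card B < Nat.card (BP F) := by
  obtain ⟨A, hA, eA⟩ := exists_sub heven h4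
  obtain ⟨B, hB, eB⟩ := exists_add heven h4
  refine ⟨A, B, hA, hB, eA, eB, ?_, ?_⟩
  · rw [card_dih eA, card_dih eB]
    omega
  · rw [card_dih eB, card_BP]
    exact dih_lt h4 le_rfl

/-- no subfield of prime index and order `> 2` : three classes -/
theorem cls_three (hno : ∀ (k : Subfield F) (r : ℕ), r.Prime → Nat.card F = Nat.card k ^ r → Nat.card k = 2) :
    Cls 3 (PGL F) := by
  obtain ⟨A, B, hA, hB, eA, eB, h1, h2⟩ := exists_three heven h4
  have hP := isCoatom_BP heven h4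
  refine Cls.of_mem ![BP F, A, B] ?_ ?_ ?_
  · intro i
    fin_cases i
    · exact hP
    · exact hA
    · exact hB
  · intro i j hij g
    fin_cases i <;> fin_cases j <;> first
      | exact absurd hij (by decide)
      | exact ne_of_card (by simp; omega) g
  · intro K hK
    rcases types_conj heven h4 hA hB eA eB hK with h | h | h | ⟨k, r, hr, h3, h5, -⟩
    · exact ⟨0, h⟩
    · exact ⟨1, h⟩
    · exact ⟨2, h⟩
    · exact absurd (hno k r hr h5) h3

theorem card_PG_facts {k : Subfield F} {r : ℕ} (hr : r.Prime) (hk2 : Nat.card k ≠ 2)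
    (h : Nat.card F = Nat.card k ^ r) {A B : Subgroup (PGL F)}
    (eA : Nonempty (A ≃* DihedralGroup (Fintype.card F - 1)))
    (eB : Nonempty (B ≃* DihedralGroup (Fintype.card F + 1))) :
    Nat.card (PG k) ≠ Nat.card (BP F) ∧ Nat.card (PG k) ≠ Nat.card A ∧ Nat.card (PG k) ≠ Nat.card B := by
  refine ⟨?_, ?_, ?_⟩
  · rw [card_BP]
    exact (card_PG_small hr h).ne
  · rw [card_dih eA]
    exact card_PG_ne_dih (even_of_pow heven) hk2 (odd_sub heven h4)
  · rw [card_dih eB]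
    exact card_PG_ne_dih (even_of_pow heven) hk2 heven.add_one

/-- exactly one subfield of prime index and order `> 2` : four classes -/
theorem cls_four {k : Subfield F} {r : ℕ} (hr : r.Prime) (hk2 : Nat.card k ≠ 2) (h : Nat.card F = Nat.card k ^ r)
    (huniq : ∀ (k' : Subfield F) (r : ℕ), r.Prime → Nat.card k' ≠ 2 → Nat.card F = Nat.card k' ^ r →
      Nat.card k' = Nat.card k) : Cls 4 (PGL F) := by
  obtain ⟨A, B, hA, hB, eA, eB, h1, h2⟩ := exists_three heven h4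
  have hP := isCoatom_BP heven h4
  have hK := isCoatom_PG heven h4 hr hk2 h
  obtain ⟨f1, f2, f3⟩ := card_PG_facts heven h4 hr hk2 h eA eB
  refine Cls.of_mem ![BP F, A, B, PG k] ?_ ?_ ?_
  · intro i
    fin_cases i
    · exact hP
    · exact hA
    · exact hB
    · exact hK
  · intro i j hij g
    fin_cases i <;> fin_cases j <;> first
      | exact absurd hij (by decide)
      | exact ne_of_card (by simp; omega) g
  · intro K hK
    rcases types_conj heven h4 hA hB eA eB hK with h | h | h | ⟨k', r', hr', h3, h5, h6⟩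
    · exact ⟨0, h⟩
    · exact ⟨1, h⟩
    · exact ⟨2, h⟩
    · have h7 := huniq k' r' hr' h3 h5
      rw [subfield_eq_of_card h7] at h6
      exact ⟨3, h6⟩

/-- two subfields of prime index and different orders `> 2` : at least five classes -/
theorem sep_five' {k k' : Subfield F} {r r' : ℕ} (hr : r.Prime) (hk2 : Nat.card k ≠ 2)
    (h : Nat.card F = Nat.card k ^ r) (hr' : r'.Prime) (hk2' : Nat.card k' ≠ 2)
    (h' : Nat.card F = Nat.card k' ^ r') (hne : Nat.card k < Nat.card k') : Sep 5 (PGL F) := by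
  obtain ⟨A, B, hA, hB, eA, eB, h1, h2⟩ := exists_three heven h4
  have hP := isCoatom_BP heven h4
  have hK := isCoatom_PG heven h4 hr hk2 h
  have hK' := isCoatom_PG heven h4 hr' hk2' h'
  obtain ⟨f1, f2, f3⟩ := card_PG_facts heven h4 hr hk2 h eA eB
  obtain ⟨g1, g2, g3⟩ := card_PG_facts heven h4 hr' hk2' h' eA eB
  have hlt := card_PG_lt hne
  refine sep_of_coatoms ![BP F, A, B, PG k, PG k'] ?_ ?_
  · intro i
    fin_cases i
    · exact hP
    · exact hA
    · exact hB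
    · exact hK
    · exact hK'
  · intro i j hij g
    fin_cases i <;> fin_cases j <;> first
      | exact absurd hij (by decide)
      | exact ne_of_card (by simp; omega) g

end main

section final

variable {F : Type} [Field F] [Fintype F]

theorem even_three {r : ℕ} (hr : r.Prime) (hF : Fintype.card F = 2 ^ r) :
    Cls 3 (Matrix.ProjectiveSpecialLinearGroup (Fin 2) F) := by
  have heven : Even (Fintype.card F) := by
    rw [hF]
    exact (Nat.even_pow.2 ⟨even_two, hr.ne_zero⟩)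
  have h4 : 4 ≤ Fintype.card F := by
    rw [hF]
    calc 4 = 2 ^ 2 := rfl
      _ ≤ 2 ^ r := Nat.pow_le_pow_right (by norm_num) hr.two_le
  refine (cls_three heven h4 ?_).of_mulEquiv (eqv heven).symm
  intro k s hs h
  rw [Nat.card_eq_fintype_card, hF] at h
  obtain ⟨a, -, ha⟩ := (Nat.dvd_prime_pow Nat.prime_two).1
    (⟨Nat.card k ^ (s - 1), by rw [h, ← pow_succ', Nat.sub_add_cancel hs.one_lt.le]⟩ : Nat.card k ∣ 2 ^ r)
  rw [ha, ← pow_mul] at h
  have h1 : r = a * s := Nat.pow_right_injective le_rfl h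
  have h2 : a = 1 := by
    rcases (Nat.dvd_prime hr).1 (⟨s, h1⟩ : a ∣ r) with h2 | h2
    · exact h2
    · exfalso
      rw [h2] at h1
      have h3 := Nat.eq_of_mul_eq_mul_left hr.pos (h1.symm.trans (mul_one r).symm)
      exact hs.one_lt.ne' h3
  rw [ha, h2, pow_one]

theorem even_four {r m : ℕ} (hr : r.Prime) (hm : 2 ≤ m) (hF : Fintype.card F = 2 ^ (r ^ m)) :
    Cls 4 (Matrix.ProjectiveSpecialLinearGroup (Fin 2) F) := by
  haveI : Fact (Nat.Prime 2) := ⟨Nat.prime_two⟩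
  have hrm : 2 ≤ r ^ m := hr.two_le.trans (Nat.le_self_pow (by omega) r)
  have heven : Even (Fintype.card F) := by
    rw [hF]
    exact (Nat.even_pow.2 ⟨even_two, by omega⟩)
  have h4 : 4 ≤ Fintype.card F := by
    rw [hF]
    calc 4 = 2 ^ 2 := rfl
      _ ≤ 2 ^ (r ^ m) := Nat.pow_le_pow_right (by norm_num) hrm
  have hm1 : r ^ m = r ^ (m - 1) * r := by rw [← pow_succ, Nat.sub_add_cancel (by omega)]
  have hcF : Nat.card F = (2 ^ (r ^ (m - 1))) ^ r := by
    rw [Nat.card_eq_fintype_card, hF, ← pow_mul, hm1]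
  obtain ⟨k, hk⟩ := exists_subfield_card (p := 2) (n := r ^ (m - 1)) (pow_ne_zero _ hr.ne_zero) hcF
  have hk2 : Nat.card k ≠ 2 := by
    rw [hk]
    intro h
    have h1 : r ^ (m - 1) = 1 := Nat.pow_right_injective le_rfl
      (show (2 : ℕ) ^ r ^ (m - 1) = 2 ^ 1 by rw [pow_one]; exact h)
    have h2 : 2 ≤ r ^ (m - 1) := hr.two_le.trans (Nat.le_self_pow (by omega) r)
    omega
  refine (cls_four heven h4 hr hk2 (by rw [hk]; exact hcF) ?_).of_mulEquiv (eqv heven).symm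
  intro k' s hs hk2' h
  rw [Nat.card_eq_fintype_card, hF] at h
  obtain ⟨a, -, ha⟩ := (Nat.dvd_prime_pow Nat.prime_two).1
    (⟨Nat.card k' ^ (s - 1), by rw [h, ← pow_succ', Nat.sub_add_cancel hs.one_lt.le]⟩ :
      Nat.card k' ∣ 2 ^ (r ^ m))
  rw [ha, ← pow_mul] at h
  have h1 : r ^ m = a * s := Nat.pow_right_injective le_rfl h
  have h2 : s = r := by
    have : s ∣ r ^ m := ⟨a, by rw [h1, mul_comm]⟩
    exact (Nat.prime_dvd_prime_iff_eq hs hr).1 (hs.dvd_of_dvd_pow this)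
  rw [h2, hm1] at h1
  have h3 : r ^ (m - 1) = a := Nat.eq_of_mul_eq_mul_right hr.pos h1
  rw [ha, hk, h3]

theorem even_five {f : ℕ} (hF : Fintype.card F = 2 ^ f) (hf : 2 ≤ f)
    (h : ¬ ∃ r m : ℕ, r.Prime ∧ 1 ≤ m ∧ f = r ^ m) :
    Sep 5 (Matrix.ProjectiveSpecialLinearGroup (Fin 2) F) := by
  haveI : Fact (Nat.Prime 2) := ⟨Nat.prime_two⟩
  have heven : Even (Fintype.card F) := by
    rw [hF]
    exact (Nat.even_pow.2 ⟨even_two, by omega⟩)
  have h4 : 4 ≤ Fintype.card F := by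
    rw [hF]
    calc 4 = 2 ^ 2 := rfl
      _ ≤ 2 ^ f := Nat.pow_le_pow_right (by norm_num) hf
  -- two primes dividing `f`
  have hr : f.minFac.Prime := Nat.minFac_prime (by omega)
  set r := f.minFac with hrdef
  obtain ⟨s, hs, hsf, hne⟩ : ∃ s, s.Prime ∧ s ∣ f ∧ s ≠ r := by
    by_contra hc
    push Not at hc
    apply h
    have h1 : f = r ^ (f.primeFactorsList.length) := by
      apply Nat.eq_prime_pow_of_unique_prime_dvd (by omega)
      intro d hd hdf
      exact hc d hd hdf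
    refine ⟨r, f.primeFactorsList.length, hr, ?_, h1⟩
    by_contra h2
    rw [show f.primeFactorsList.length = 0 by omega, pow_zero] at h1
    omega
  have main : ∀ d : ℕ, d.Prime → d ∣ f → ∃ k : Subfield F, Nat.card k = 2 ^ (f / d) ∧ Nat.card k ≠ 2 ∧
      Nat.card F = Nat.card k ^ d := by
    intro d hd hdf
    have hfd : f / d * d = f := Nat.div_mul_cancel hdf
    have hcF : Nat.card F = (2 ^ (f / d)) ^ d := by
      rw [Nat.card_eq_fintype_card, hF, ← pow_mul, hfd]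
    have hfd0 : f / d ≠ 0 := by
      intro h0
      rw [h0, zero_mul] at hfd
      omega
    obtain ⟨k, hk⟩ := exists_subfield_card (p := 2) (n := f / d) hfd0 hcF
    refine ⟨k, hk, ?_, by rw [hk]; exact hcF⟩
    rw [hk]
    intro h2
    have h1 : f / d = 1 := Nat.pow_right_injective le_rfl
      (show (2 : ℕ) ^ (f / d) = 2 ^ 1 by rw [pow_one]; exact h2)
    rw [h1, one_mul] at hfd
    exact h ⟨d, 1, hd, le_rfl, by rw [pow_one, hfd]⟩
  obtain ⟨k, hk, hk2, hkF⟩ := main r hr (Nat.minFac_dvd f)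
  obtain ⟨k', hk', hk2', hkF'⟩ := main s hs hsf
  have hcne : Nat.card k ≠ Nat.card k' := by
    rw [hk, hk']
    intro h1
    have h2 : f / r = f / s := Nat.pow_right_injective le_rfl h1
    have h3 : f / r * r = f := Nat.div_mul_cancel (Nat.minFac_dvd f)
    have h5 : f / s * s = f := Nat.div_mul_cancel hsf
    rw [h2] at h3
    have h6 : f / s ≠ 0 := by
      intro h0
      rw [h0, zero_mul] at h5
      omega
    exact hne (Nat.eq_of_mul_eq_mul_left (Nat.pos_of_ne_zero h6) (h5.trans h3.symm))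
  rcases lt_or_gt_of_ne hcne with h1 | h1
  · exact (sep_five' heven h4 hr hk2 hkF hs hk2' hkF' h1).of_mulEquiv (eqv heven).symm
  · exact (sep_five' heven h4 hs hk2' hkF' hr hk2 hkF h1).of_mulEquiv (eqv heven).symm

end final

end Cfsg.Agent.H542.MaxEven
end

-- part: H940/RowsA
section
/-!
# The rows `PSL₂(q)` of S5906 (assembly, helper940)
-/

set_option autoImplicit false

namespace Cfsg.Agent.H940.MaxCls

open Cfsg

theorem row_psl2_four (F : Type) [Field F] [Fintype F] (h : Cond4 F) :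
    Cls 4 (Matrix.ProjectiveSpecialLinearGroup (Fin 2) F) := by
  rcases h with h | ⟨p, hp, h3, h40, hF⟩ | ⟨p, r, m, hp, hr, hm, h2, h2', hF⟩
  · exact H807.MaxPSL.odd_four_eleven h
  · exact H807.MaxPSL.odd_four_prime hp h3 h40 hF
  · by_cases hp2 : p = 2
    · subst hp2
      exact H542.MaxEven.even_four hr (h2' rfl) hF
    · exact H807.MaxPSL.odd_four_pow hp hp2 hr (h2 hp2) hm hF

theorem row_psl2_three (F : Type) [Field F] [Fintype F] (h : Cond3 F) :
    Cls 3 (Matrix.ProjectiveSpecialLinearGroup (Fin 2) F) := by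
  rcases h with h | h | ⟨r, hr, hF⟩
  · exact H807.MaxPSL.odd_three_five h
  · exact H807.MaxPSL.odd_three_seven h
  · exact H542.MaxEven.even_three hr hF

theorem row_psl2_five (F : Type) [Field F] [Fintype F] (h4 : 4 ≤ Fintype.card F) (hc4 : ¬ Cond4 F)
    (hc3 : ¬ Cond3 F) : Sep 5 (Matrix.ProjectiveSpecialLinearGroup (Fin 2) F) := by
  obtain ⟨p, hpF⟩ := CharP.exists F
  haveI := hpF
  obtain ⟨n, hp, hF⟩ := FiniteField.card F p
  have hn : 1 ≤ (n : ℕ) := n.pos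
  by_cases hp2 : p = 2
  · subst hp2
    refine H542.MaxEven.even_five hF ?_ ?_
    · by_contra hlt
      have h1 : (n : ℕ) = 1 := by omega
      rw [h1] at hF
      omega
    · rintro ⟨r, m, hr, hm, hrm⟩
      rcases Nat.lt_or_ge m 2 with h | h
      · have h1 : m = 1 := by omega
        subst h1
        exact hc3 (Or.inr (Or.inr ⟨r, hr, by rw [hF, hrm, pow_one]⟩))
      · exact hc4 (Or.inr (Or.inr ⟨2, r, m, hp, hr, hm, fun h' => absurd rfl h', fun _ => h, by rw [hF, hrm]⟩))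
  · have h5 : Fintype.card F ≠ 5 := fun h => hc3 (Or.inl h)
    have h7 : Fintype.card F ≠ 7 := fun h => hc3 (Or.inr (Or.inl h))
    have h11 : Fintype.card F ≠ 11 := fun h => hc4 (Or.inl h)
    have hodd : Odd (Fintype.card F) := by rw [hF]; exact (hp.odd_of_ne_two hp2).pow
    have h5' : 5 < Fintype.card F := by
      obtain ⟨k, hk⟩ := hodd
      omega
    refine H807.MaxPSL.odd_five hp hp2 hn hF (by rw [← hF]; exact h5') (by rw [← hF]; exact h7)
      (by rw [← hF]; exact h11) ?_ ?_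
    · intro h1 h40
      rw [h1, pow_one] at hF
      exact hc4 (Or.inr (Or.inl ⟨p, hp, by omega, h40, hF⟩))
    · rintro ⟨r, m, hr, hr2, hm, hrm⟩
      exact hc4 (Or.inr (Or.inr ⟨p, r, m, hp, hr, hm, fun _ => hr2, fun h' => absurd h' hp2, by rw [hF, hrm]⟩))

end Cfsg.Agent.H940.MaxCls
end

-- part: H38/OrbKit
section
/-!
# Orbit patterns and maximal subgroups (helper38)

`θ : L →* Perm (Fin n)`. `Pat θ H c` : points with the same color `c` are in one orbit of `H`; then the orbits of an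
overgroup `K` of `H` are unions of color classes (`Pat.union`, `Pat.card`), which gives criteria for maximality
(`coatom_of`) and for transitivity.
-/

set_option autoImplicit false

namespace Cfsg.Agent.H38.OrbKit

open Subgroup Equiv Cfsg.Agent.SporadicA.PermTab

universe u

variable {L : Type u} [Group L] {n : ℕ}

/-- the stabilizer of a point -/
def st (θ : L →* Perm (Fin n)) (i : Fin n) : Subgroup L where
  carrier := {g | θ g i = i}
  mul_mem' := by
    intro a b ha hb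
    change θ (a * b) i = i
    rw [map_mul, Perm.mul_apply, show θ b i = i from hb, show θ a i = i from ha]
  one_mem' := by
    change θ 1 i = i
    rw [map_one, Perm.one_apply]
  inv_mem' := by
    intro a ha
    change θ a⁻¹ i = i
    rw [map_inv, Perm.inv_eq_iff_eq]
    exact (show θ a i = i from ha).symm

/-- the stabilizer of an unordered pair of points -/
def pst (θ : L →* Perm (Fin n)) (i j : Fin n) : Subgroup L where
  carrier := {g | (θ g i = i ∧ θ g j = j) ∨ (θ g i = j ∧ θ g j = i)}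
  mul_mem' := by
    intro a b ha hb
    change (θ (a * b) i = i ∧ θ (a * b) j = j) ∨ (θ (a * b) i = j ∧ θ (a * b) j = i)
    rw [map_mul, Perm.mul_apply, Perm.mul_apply]
    rcases hb with ⟨h1, h2⟩ | ⟨h1, h2⟩ <;> rcases ha with ⟨h3, h4⟩ | ⟨h3, h4⟩ <;> rw [h1, h2]
    · exact Or.inl ⟨h3, h4⟩
    · exact Or.inr ⟨h3, h4⟩
    · exact Or.inr ⟨h4, h3⟩
    · exact Or.inl ⟨h4, h3⟩
  one_mem' := by
    change (θ 1 i = i ∧ θ 1 j = j) ∨ (θ 1 i = j ∧ θ 1 j = i)
    rw [map_one]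
    exact Or.inl ⟨rfl, rfl⟩
  inv_mem' := by
    intro a ha
    change (θ a⁻¹ i = i ∧ θ a⁻¹ j = j) ∨ (θ a⁻¹ i = j ∧ θ a⁻¹ j = i)
    rw [map_inv]
    rcases ha with ⟨h1, h2⟩ | ⟨h1, h2⟩
    · exact Or.inl ⟨Perm.inv_eq_iff_eq.2 h1.symm, Perm.inv_eq_iff_eq.2 h2.symm⟩
    · exact Or.inr ⟨Perm.inv_eq_iff_eq.2 h2.symm, Perm.inv_eq_iff_eq.2 h1.symm⟩

variable {θ : L →* Perm (Fin n)}

theorem mem_st {i : Fin n} {g : L} : g ∈ st θ i ↔ θ g i = i := Iff.rfl

theorem mem_pst {i j : Fin n} {g : L} : g ∈ pst θ i j ↔ (θ g i = i ∧ θ g j = j) ∨ (θ g i = j ∧ θ g j = i) := Iff.rfl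

theorem pst_inf_st {i j : Fin n} (hij : i ≠ j) : pst θ i j ⊓ st θ i = st θ i ⊓ st θ j := by
  ext g
  rw [mem_inf, mem_inf, mem_pst, mem_st, mem_st]
  constructor
  · rintro ⟨⟨h1, h2⟩ | ⟨h1, h2⟩, h3⟩
    · exact ⟨h1, h2⟩
    · exact absurd (h3.symm.trans h1) hij
  · rintro ⟨h1, h2⟩
    exact ⟨Or.inl ⟨h1, h2⟩, h1⟩

/-- the orbit of a point -/
noncomputable def orb (θ : L →* Perm (Fin n)) (K : Subgroup L) (i : Fin n) : Finset (Fin n) := by
  classical exact Finset.univ.filter fun j => ∃ g ∈ K, θ g i = j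

theorem mem_orb {K : Subgroup L} {i j : Fin n} : j ∈ orb θ K i ↔ ∃ g ∈ K, θ g i = j := by
  unfold orb
  simp

/-- the theorem of Lagrange for an orbit -/
theorem card_eq (K : Subgroup L) (i : Fin n) :
    Nat.card K = (orb θ K i).card * Nat.card ↥(K ⊓ st θ i) := by
  letI : MulAction K (Fin n) := MulAction.compHom (Fin n) (θ.comp K.subtype)
  have h0 : ∀ (g : K) (j : Fin n), g • j = θ g j := fun g j => rfl
  have h1 : Nat.card (MulAction.stabilizer K i) = Nat.card ↥(K ⊓ st θ i) := by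
    refine Nat.card_congr ?_
    exact
      { toFun := fun g => ⟨g.1.1, g.1.2, g.2⟩
        invFun := fun g => ⟨⟨g.1, g.2.1⟩, g.2.2⟩
        left_inv := fun g => rfl
        right_inv := fun g => rfl }
  have h2 : (MulAction.orbit K i).ncard = (orb θ K i).card := by
    rw [← Set.ncard_coe_finset]
    congr 1
    ext j
    rw [Finset.mem_coe, mem_orb]
    constructor
    · rintro ⟨g, rfl⟩
      exact ⟨g, g.2, rfl⟩
    · rintro ⟨g, hg, rfl⟩
      exact ⟨⟨g, hg⟩, rfl⟩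
  rw [← h1, ← h2, ← Nat.card_coe_set_eq, Nat.card_congr (MulAction.orbitEquivQuotientStabilizer K i),
    ← Subgroup.index_eq_card, mul_comm, Subgroup.card_mul_index]

theorem self_mem_orb (K : Subgroup L) (i : Fin n) : i ∈ orb θ K i :=
  mem_orb.2 ⟨1, K.one_mem, by rw [map_one, Perm.one_apply]⟩

theorem apply_mem_orb {K : Subgroup L} {i j : Fin n} {g : L} (hg : g ∈ K) (h : j ∈ orb θ K i) :
    θ g j ∈ orb θ K i := by
  obtain ⟨k, hk, rfl⟩ := mem_orb.1 h
  exact mem_orb.2 ⟨g * k, K.mul_mem hg hk, by rw [map_mul, Perm.mul_apply]⟩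

/-- the points with the same color are conjugate under `H` -/
def Pat (θ : L →* Perm (Fin n)) (H : Subgroup L) {k : ℕ} (c : Fin n → Fin k) : Prop :=
  ∀ i j, c i = c j → ∃ g ∈ H, θ g i = j

variable {H K : Subgroup L} {k : ℕ} {c : Fin n → Fin k}

theorem Pat.mono (P : Pat θ H c) (h : H ≤ K) : Pat θ K c := fun i j hij => by
  obtain ⟨g, hg, hgi⟩ := P i j hij
  exact ⟨g, h hg, hgi⟩

/-- orbits of an overgroup are unions of color classes -/
theorem Pat.union (P : Pat θ H c) (h : H ≤ K) (i : Fin n) :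
    ∃ J : Finset (Fin k), c i ∈ J ∧ ∀ j, j ∈ orb θ K i ↔ c j ∈ J := by
  classical
  refine ⟨(orb θ K i).image c, Finset.mem_image_of_mem c (self_mem_orb K i), fun j => ⟨fun hj => Finset.mem_image_of_mem c hj, ?_⟩⟩
  intro hj
  obtain ⟨j', hj', hc⟩ := Finset.mem_image.1 hj
  obtain ⟨g, hg, rfl⟩ := P j' j hc
  exact apply_mem_orb (h hg) hj'

theorem card_union {sz : Fin k → ℕ} (hsz : ∀ m, (Finset.univ.filter fun j => c j = m).card = sz m) {J : Finset (Fin k)}
    {O : Finset (Fin n)} (h : ∀ j, j ∈ O ↔ c j ∈ J) : O.card = ∑ m ∈ J, sz m := by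
  classical
  rw [Finset.card_eq_sum_card_fiberwise (f := c) (t := J) (fun j hj => (h j).1 hj)]
  refine Finset.sum_congr rfl fun m hm => ?_
  rw [← hsz m]
  congr 1
  ext j
  rw [Finset.mem_filter, Finset.mem_filter, h j]
  constructor
  · rintro ⟨-, h2⟩
    exact ⟨Finset.mem_univ _, h2⟩
  · rintro ⟨-, h2⟩
    exact ⟨by rw [h2]; exact hm, h2⟩

/-- the order of an overgroup -/
theorem Pat.card (P : Pat θ H c) (h : H ≤ K) {sz : Fin k → ℕ}
    (hsz : ∀ m, (Finset.univ.filter fun j => c j = m).card = sz m) (i : Fin n) :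
    ∃ J : Finset (Fin k), c i ∈ J ∧ (∀ j, j ∈ orb θ K i ↔ c j ∈ J) ∧
      Nat.card K = (∑ m ∈ J, sz m) * Nat.card ↥(K ⊓ st θ i) := by
  obtain ⟨J, h1, h2⟩ := P.union h i
  exact ⟨J, h1, h2, by rw [card_eq (θ := θ) K i, card_union hsz h2]⟩

/-- the order of `H` if the color is invariant -/
theorem Pat.card_exact (P : Pat θ H c) (hinv : ∀ h ∈ H, ∀ j, c (θ h j) = c j) {sz : Fin k → ℕ}
    (hsz : ∀ m, (Finset.univ.filter fun j => c j = m).card = sz m) (i : Fin n) :
    Nat.card H = sz (c i) * Nat.card ↥(H ⊓ st θ i) := by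
  rw [card_eq (θ := θ) H i]
  congr 1
  rw [← hsz]
  congr 1
  ext j
  rw [mem_orb, Finset.mem_filter]
  constructor
  · rintro ⟨g, hg, rfl⟩
    exact ⟨Finset.mem_univ _, hinv g hg i⟩
  · rintro ⟨-, hj⟩
    exact P i j hj.symm

/-- transitive subgroups -/
theorem card_of_trans {i₀ : Fin n} (h : ∀ j, ∃ g ∈ K, θ g i₀ = j) : Nat.card K = n * Nat.card ↥(K ⊓ st θ i₀) := by
  rw [card_eq (θ := θ) K i₀]
  congr 1
  have : orb θ K i₀ = Finset.univ := by
    ext j
    rw [mem_orb]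
    exact ⟨fun _ => Finset.mem_univ _, fun _ => h j⟩
  rw [this, Finset.card_univ, Fintype.card_fin]

/-- **criterion for maximality** -/
theorem coatom_of [Finite L] (P : Pat θ H c) {sz : Fin k → ℕ}
    (hsz : ∀ m, (Finset.univ.filter fun j => c j = m).card = sz m) (i : Fin n) {N a : ℕ} (hN : Nat.card L = N)
    (ha : a ∣ Nat.card ↥(H ⊓ st θ i)) (hne : H ≠ ⊤)
    (hfix : ∀ g : L, (∀ j, c j = c i → c (θ g j) = c i) → g ∈ H)
    (hnum : ∀ J : Finset (Fin k), c i ∈ J → (∑ m ∈ J, sz m) * a ∣ N → J = {c i} ∨ J = Finset.univ)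
    (htop : ∀ K : Subgroup L, H ≤ K → (∀ j, ∃ g ∈ K, θ g i = j) → K = ⊤) : IsCoatom H := by
  refine ⟨hne, fun K hK => ?_⟩
  obtain ⟨J, h1, h2, h3⟩ := P.card hK.le hsz i
  have h4 : a ∣ Nat.card ↥(K ⊓ st θ i) := ha.trans (card_dvd_of_le (inf_le_inf_right _ hK.le))
  have h5 : (∑ m ∈ J, sz m) * a ∣ N := by
    rw [← hN]
    refine dvd_trans ?_ (card_subgroup_dvd_card K)
    rw [h3]
    exact Nat.mul_dvd_mul_left _ h4
  rcases hnum J h1 h5 with h6 | h6
  · exfalso
    apply hK.not_ge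
    intro g hg
    apply hfix
    intro j hj
    have h7 : j ∈ orb θ K i := (h2 j).2 (by rw [hj]; exact h1)
    have h8 := (h2 _).1 (apply_mem_orb hg h7)
    rw [h6] at h8
    exact Finset.mem_singleton.1 h8
  · refine htop K hK.le fun j => ?_
    exact mem_orb.1 ((h2 j).2 (by rw [h6]; exact Finset.mem_univ _))

/-- criterion for maximality, with the orbit as a union of color classes -/
theorem coatom_of' [Finite L] (P : Pat θ H c) {sz : Fin k → ℕ}
    (hsz : ∀ m, (Finset.univ.filter fun j => c j = m).card = sz m) (i : Fin n) {a : ℕ}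
    (ha : a ∣ Nat.card ↥(H ⊓ st θ i)) (hne : H ≠ ⊤)
    (hfix : ∀ g : L, (∀ j, c j = c i → c (θ g j) = c i) → g ∈ H)
    (htop : ∀ K : Subgroup L, H ≤ K → ∀ J : Finset (Fin k), c i ∈ J → J ≠ {c i} → (∀ j, j ∈ orb θ K i ↔ c j ∈ J) →
      (∑ m ∈ J, sz m) * a ∣ Nat.card K → K = ⊤) : IsCoatom H := by
  refine ⟨hne, fun K hK => ?_⟩
  obtain ⟨J, h1, h2, h3⟩ := P.card hK.le hsz i
  have h4 : a ∣ Nat.card ↥(K ⊓ st θ i) := ha.trans (card_dvd_of_le (inf_le_inf_right _ hK.le))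
  refine htop K hK.le J h1 ?_ h2 (by rw [h3]; exact Nat.mul_dvd_mul_left _ h4)
  intro h6
  apply hK.not_ge
  intro g hg
  apply hfix
  intro j hj
  have h7 : j ∈ orb θ K i := (h2 j).2 (by rw [hj]; exact h1)
  have h8 := (h2 _).1 (apply_mem_orb hg h7)
  rw [h6] at h8
  exact Finset.mem_singleton.1 h8

/-- a transitive subgroup `K` with `K_x = L_x ∩ L_b` -/
theorem block_aux {R : ℕ → ℕ → ℕ} (hR : ∀ (g : L) (i j : Fin n), R (θ g i) (θ g j) = R i j) {x b y : Fin n}
    (hxb : x ≠ b) (ht : ∀ j, ∃ g ∈ K, θ g x = j) (hK : K ⊓ st θ x = st θ x ⊓ st θ b)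
    (hfx : ∀ v, (∀ g ∈ st θ x ⊓ st θ b ⊓ st θ y, θ g v = v) → v = x ∨ v = b ∨ v = y) :
    ∃ d, (d = x ∨ d = b) ∧ R (y : ℕ) (d : ℕ) = R (x : ℕ) (b : ℕ) ∧ K ⊓ st θ y ≤ st θ d := by
  obtain ⟨k, hk, hky⟩ := ht y
  have h1 : K ⊓ st θ y ≤ st θ (θ k b) := by
    rintro g ⟨hg, hgy⟩
    have hgy' : θ g y = y := hgy
    have h2 : k⁻¹ * g * k ∈ K ⊓ st θ x := by
      refine ⟨K.mul_mem (K.mul_mem (K.inv_mem hk) hg) hk, ?_⟩
      change θ (k⁻¹ * g * k) x = x
      rw [map_mul, map_mul, map_inv, Perm.mul_apply, Perm.mul_apply, hky, hgy', Perm.inv_eq_iff_eq]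
      exact hky.symm
    rw [hK] at h2
    have h3 : θ (k⁻¹ * g * k) b = b := h2.2
    rw [map_mul, map_mul, map_inv, Perm.mul_apply, Perm.mul_apply, Perm.inv_eq_iff_eq] at h3
    exact h3
  have h4 : θ k b = x ∨ θ k b = b ∨ θ k b = y := by
    apply hfx
    rintro g ⟨hg, hgy⟩
    refine h1 ⟨?_, hgy⟩
    rw [← hK] at hg
    exact hg.1
  have h5 : R (y : ℕ) (θ k b : Fin n) = R (x : ℕ) (b : ℕ) := by
    rw [← hR k x b, hky]
  refine ⟨θ k b, ?_, h5, h1⟩
  rcases h4 with h | h | h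
  · exact Or.inl h
  · exact Or.inr h
  · exact absurd ((θ k).injective (hky.trans h.symm)) hxb

/-- transitivity does not depend on the point -/
theorem trans_of {i j : Fin n} (h : ∀ v, ∃ g ∈ K, θ g i = v) : ∀ v, ∃ g ∈ K, θ g j = v := by
  intro v
  obtain ⟨g, hg, rfl⟩ := h j
  obtain ⟨g', hg', rfl⟩ := h v
  refine ⟨g' * g⁻¹, K.mul_mem hg' (K.inv_mem hg), ?_⟩
  rw [map_mul, Perm.mul_apply, map_inv]
  congr 1
  exact Perm.inv_eq_iff_eq.2 rfl

/-- the elements preserving a coloring -/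
def pcol (θ : L →* Perm (Fin n)) (c : Fin n → Fin k) : Subgroup L where
  carrier := {g | ∀ j, c (θ g j) = c j}
  mul_mem' := by
    intro a b ha hb j
    rw [map_mul, Perm.mul_apply, show c (θ a (θ b j)) = c (θ b j) from ha _, show c (θ b j) = c j from hb j]
  one_mem' := by
    intro j
    rw [map_one, Perm.one_apply]
  inv_mem' := by
    intro a ha j
    have h1 : c (θ a (θ a⁻¹ j)) = c (θ a⁻¹ j) := ha _
    have h2 : θ a (θ a⁻¹ j) = j := by rw [← Perm.mul_apply, ← map_mul, mul_inv_cancel, map_one, Perm.one_apply]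
    rw [← h1, h2]

/-- a maximal subgroup and a subgroup with large orbits -/
theorem apart_st {A : Subgroup L} {x : Fin n} (hA : IsCoatom (st θ x)) (P : Pat θ A c)
    (h : ∀ v : Fin n, ∃ w, c v = c w ∧ v ≠ w) : Cfsg.Agent.H940.MaxCls.Apart (st θ x) A := by
  refine Cfsg.Agent.H940.MaxCls.apart_of_coatom hA fun g => ?_
  obtain ⟨w, hw, hne⟩ := h (θ g⁻¹ x)
  obtain ⟨a, ha, haw⟩ := P _ _ hw
  refine ⟨a, ha, fun h1 => hne ?_⟩
  have h2 : θ (g * a * g⁻¹) x = x := h1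
  rw [map_mul, map_mul, Perm.mul_apply, Perm.mul_apply, haw] at h2
  rw [map_inv, Perm.inv_eq_iff_eq]
  exact h2.symm

/-- a maximal pair stabilizer and a subgroup with large orbits -/
theorem apart_pst {A : Subgroup L} {x y : Fin n} (hA : IsCoatom (pst θ x y)) (P : Pat θ A c)
    (h : ∀ v u : Fin n, ∃ w, c v = c w ∧ w ≠ v ∧ w ≠ u) : Cfsg.Agent.H940.MaxCls.Apart (pst θ x y) A := by
  refine Cfsg.Agent.H940.MaxCls.apart_of_coatom hA fun g => ?_
  obtain ⟨w, hw, hne, hne'⟩ := h (θ g⁻¹ x) (θ g⁻¹ y)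
  obtain ⟨a, ha, haw⟩ := P _ _ hw
  refine ⟨a, ha, fun h1 => ?_⟩
  have h2 : θ (g * a * g⁻¹) x = x ∨ θ (g * a * g⁻¹) x = y := by
    rcases mem_pst.1 h1 with h | h
    · exact Or.inl h.1
    · exact Or.inr h.1
  rw [map_mul, map_mul, Perm.mul_apply, Perm.mul_apply, haw] at h2
  rcases h2 with h2 | h2
  · apply hne
    rw [map_inv, eq_comm, Perm.inv_eq_iff_eq]
    exact h2.symm
  · apply hne'
    rw [map_inv, eq_comm, Perm.inv_eq_iff_eq]
    exact h2.symm

/-! ### tables -/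

theorem inMap {P : ℕ} (h : InG θ.range P)
    (hH : ∀ l : L, (∀ i : Fin n, ((θ l i : Fin n) : ℕ) = lk P i) → l ∈ H) : InG (H.map θ) P := by
  obtain ⟨_, ⟨l, rfl⟩, hg⟩ := h
  exact ⟨θ l, ⟨l, hH l hg, rfl⟩, hg⟩

theorem inMap_st {P : ℕ} (h : InG θ.range P) {i : Fin n} (hi : lk P i = i) : InG ((st θ i).map θ) P :=
  inMap h fun l hl => mem_st.2 (Fin.ext (by rw [hl, hi]))

theorem inMap_pst {P : ℕ} (h : InG θ.range P) {i j : Fin n}
    (hi : (lk P i = i ∧ lk P j = j) ∨ (lk P i = j ∧ lk P j = i)) : InG ((pst θ i j).map θ) P :=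
  inMap h fun l hl => mem_pst.2 (by
    rcases hi with ⟨h1, h2⟩ | ⟨h1, h2⟩
    · exact Or.inl ⟨Fin.ext (by rw [hl, h1]), Fin.ext (by rw [hl, h2])⟩
    · exact Or.inr ⟨Fin.ext (by rw [hl, h1]), Fin.ext (by rw [hl, h2])⟩)

theorem inMap_inf {P : ℕ} (h1 : InG (H.map θ) P) (h2 : InG (K.map θ) P) (hθ : Function.Injective θ) :
    InG ((H ⊓ K).map θ) P := by
  obtain ⟨_, ⟨l, hl, rfl⟩, hg⟩ := h1
  obtain ⟨_, ⟨l', hl', rfl⟩, hg'⟩ := h2
  have : l = l' := by
    apply hθ
    ext i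
    rw [hg, hg']
  subst this
  exact ⟨θ l, ⟨l, ⟨hl, hl'⟩, rfl⟩, hg⟩

theorem inMap_pcol {P : ℕ} (h : InG θ.range P) (hc : ∀ j v : Fin n, (v : ℕ) = lk P j → c v = c j) :
    InG ((pcol θ c).map θ) P :=
  inMap h fun _ hl j => hc j _ (hl j)

/-- pattern from orbit certificates -/
theorem pat_of_chk {P0 : ℕ} {T : List ℕ} (h0 : InG (H.map θ) P0) (hT : ∀ P ∈ T, InG (H.map θ) P) (rep : Fin k → Fin n)
    (C : Fin k → ℕ) (hchk : ∀ m, chkOrb n (rep m) P0 T (C m) = true) (hcov : ∀ v : Fin n, lk (C (c v)) v ≠ 2047) :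
    Pat θ H c := by
  have key : ∀ v : Fin n, ∃ g ∈ H, θ g (rep (c v)) = v := by
    intro v
    obtain ⟨_, ⟨g, hg, rfl⟩, h⟩ := orb_of_chk h0 hT (hchk (c v)) v (hcov v)
    exact ⟨g, hg, h⟩
  intro i j hij
  obtain ⟨g, hg, hgi⟩ := key i
  obtain ⟨k, hk, hkj⟩ := key j
  refine ⟨k * g⁻¹, H.mul_mem hk (H.inv_mem hg), ?_⟩
  rw [map_mul, Perm.mul_apply, map_inv]
  have : (θ g)⁻¹ i = rep (c i) := Perm.inv_eq_iff_eq.2 hgi.symm
  rw [this, hij, hkj]

end Cfsg.Agent.H38.OrbKit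
end

private theorem dce_3b250965d499 : _root_.True := by
  try have : _root_.True := by simp only [_root_.Cfsg.Agent.H937.cj.eq_1]
  exact _root_.True.intro
end

-- part: H136/TwF/NormU
section
prune_inst 0x17020440a8000000000058471201c16de0005900068000088430cc000c02bc20000096085801103502aa20100010008131000c0024000000400000000010501000816049048a008220000000084000000000000000000000000000000000004200000000
set_option linter.all false
open scoped Cfsg.Agent.FastGrp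

-- part: H136/TwF/MM
section
/-!
# The subgroup `M = ⟨X_odd⟩ ≅ Sp₄(q)` of `²F₄(q)` (helper136, task 629)

* `MM S`, `UO S = X_1X_3X_5X_7`, `T_le_MM`, `bruhat_MM`, `MM_inf` (`M ∩ J 1 8 = UO`), `norm_UO` (`N_M(UO) = UO T`),
  `conj_UO` (every `2`-subgroup of `M` is conjugate in `M` to a subgroup of `UO`).
-/

set_option autoImplicit false
set_option linter.unusedSectionVars false

namespace Cfsg.Agent.H136.TwF

open Cfsg.Agent.KFacts.TwF4 Cfsg.Agent.KFacts.TwF4.Full Cfsg.Agent.KFacts.TwF4.Arc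
open Cfsg.Agent.KFacts.TwF4.Inv Cfsg.Agent.KFacts.TwF4.SylU Cfsg.Agent.KFacts.TwF4.Perf
open Cfsg.Agent.SplitTwo Cfsg.Agent.SplitTwo.ZS Cfsg.Agent.TitsThree.RankTwoZ Cfsg.Agent.TitsThree.RankTwoRGD
open Cfsg.Agent.TitsThree.RankTwoIdx
open Cfsg.Agent.SplitTwo.RootSysZ
open scoped commutatorElement

universe u

variable {F : Type*} [Field F] {σ : F →+* F} {G : Type u} [Group G] (S : Full σ G)

/-! ### `M` -/

/-- `M = ⟨X_odd⟩` -/
def MM : Subgroup G := Subgroup.closure {g | ∃ a t, S.o a t = g}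

theorem o_mem_MM (a : ZMod 8) (t : F) : S.o a t ∈ MM S := Subgroup.subset_closure ⟨a, t, rfl⟩

theorem XZ_le_MM (a : ℤ) : S.XZ (2 * a + 1) ≤ MM S := by
  intro x hx
  obtain ⟨t, rfl⟩ := (S.mem_XZ_odd a x).1 hx
  exact o_mem_MM S _ t

theorem X1_le : S.XZ 1 ≤ MM S := XZ_le_MM S 0
theorem X9_le : S.XZ 9 ≤ MM S := XZ_le_MM S 4

variable {S} in
theorem MM_le {K : Subgroup G} (h : ∀ a t, S.o a t ∈ K) : MM S ≤ K :=
  (Subgroup.closure_le _).2 (by rintro _ ⟨a, t, rfl⟩; exact h a t)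

variable {S} in
theorem MM_conj {g : G} {f : ZMod 8 → ZMod 8} (h : ∀ a t, g * S.o a t * g⁻¹ = S.o (f a) t) {x : G} (hx : x ∈ MM S) :
    g * x * g⁻¹ ∈ MM S := by
  have : MM S ≤ (MM S).comap (MulAut.conj g).toMonoidHom := MM_le fun a t => by
    show g * S.o a t * g⁻¹ ∈ MM S
    rw [h]; exact o_mem_MM S _ _
  exact this hx

theorem n1_mem_MM : S.n1 ∈ MM S := n1_mem_of S (X1_le S) (X9_le S)

/-- the reflection `k ↦ 6 - k` -/
def mJ : G := S.ck (-1) S.n1

theorem ck_ck (k l : ℤ) (x : G) : S.ck k (S.ck l x) = S.ck (k + l) x := by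
  rw [S.ck_apply, S.ck_apply, S.ck_apply, zpow_add]; group

theorem ck_zero (x : G) : S.ck 0 x = x := by rw [S.ck_apply]; group

theorem mJ_conj (x : G) : mJ S * x * (mJ S)⁻¹ = S.ck (-1) (S.n1 * S.ck 1 x * S.n1⁻¹) := by
  rw [map_mul, map_mul, map_inv, ck_ck, show (-1 : ℤ) + 1 = 0 by norm_num, ck_zero]; rfl

theorem mJ_o (a : ZMod 8) (t : F) : mJ S * S.o a t * (mJ S)⁻¹ = S.o (2 - a) t := by
  rw [mJ_conj, S.ck_o, S.n1_o, S.ck_o]
  congr 1
  push_cast
  ring

theorem mJ_e (a : ZMod 8) (p u : F) : mJ S * S.e a p u * (mJ S)⁻¹ = S.e (3 - a) p u := by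
  rw [mJ_conj, S.ck_e, S.n1_e, S.ck_e]
  congr 1
  push_cast
  ring

theorem mJ_word : mJ S = S.o 7 1 * S.o 3 1 * S.o 7 1 := by
  show S.ck (-1) S.n1 = _
  rw [S.n1_word, map_mul, map_mul, S.ck_o, S.ck_o]
  rfl

theorem mJ_sq : mJ S * mJ S = 1 := by
  show S.ck (-1) S.n1 * S.ck (-1) S.n1 = 1
  rw [← map_mul, S.n1_sq, map_one]

theorem mJ_maps : Maps S.R.X (mJ S) (fun k => 6 - k) := by
  have h1 : Maps S.R.X (S.rot ^ (-1 : ℤ)) (fun j => ((2 * (-1) : ℤ) : ZMod (2 * 8)) + j) := S.rot_maps (-1)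
  have h2 : Maps S.R.X (S.rot ^ (-1 : ℤ))⁻¹ (fun j => 2 + j) := h1.inv fun k => by
    show ((2 * (-1) : ℤ) : ZMod (2 * 8)) + (2 + k) = k
    push_cast; ring
  exact ((h1.mul (S.n1_maps)).mul h2).congr fun k => by
    show ((2 * (-1) : ℤ) : ZMod (2 * 8)) + (10 - (2 + k)) = 6 - k
    push_cast; ring

theorem mJ_mem_MM : mJ S ∈ MM S := by
  rw [mJ_word]
  exact mul_mem (mul_mem (o_mem_MM S _ _) (o_mem_MM S _ _)) (o_mem_MM S _ _)

theorem n2_conj_MM {x : G} (hx : x ∈ MM S) : S.n2 * x * S.n2⁻¹ ∈ MM S := MM_conj S.n2_o hx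

/-! ### the torus is in `M` -/

include S in
theorem s4_surj [Finite F] (v : Fˣ) : ∃ χ : Fˣ, χ ^ 2 / Units.map (σ : F →* F) χ = v := by
  let f : Fˣ →* Fˣ := powMonoidHom 2 / Units.map (σ : F →* F)
  have hf : Function.Injective f := (injective_iff_map_eq_one f).2 fun χ h => by
    have h1 : χ ^ 2 = Units.map (σ : F →* F) χ := div_eq_one.1 h
    have h2 := map_map σ S.sq χ
    rw [h1] at h2
    have h3 : Units.map (σ : F →* F) χ = χ := by
      have hi : Function.Injective (Units.map (σ : F →* F)) := Units.map_injective σ.injective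
      exact hi h2
    exact s2 S h3
  exact Finite.surjective_of_injective hf v

theorem T_le_MM [Finite F] : S.T ≤ MM S := by
  intro g hg
  obtain ⟨c, d, rfl⟩ := S.mem_T.1 hg
  have hL : S.LO ≤ MM S := sup_le (X1_le S) (X9_le S)
  have h1 : ∀ x, S.h x x ∈ MM S := fun x => hL (S.h_mem_LO x)
  have h2 : ∀ x, S.h x⁻¹ (x / Units.map (σ : F →* F) x) ∈ MM S := fun x => by
    rw [← S.n2_h]; exact n2_conj_MM S (h1 x)
  obtain ⟨y, hy⟩ := s4_surj S (d / c)
  have h3 := mul_mem (h1 (c * y)) (h2 y)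
  rw [S.h_mul] at h3
  convert h3 using 2
  · group
  · rw [show c * y * (y / Units.map (σ : F →* F) y) = c * (y ^ 2 / Units.map (σ : F →* F) y) by
      rw [pow_two, mul_div_assoc, mul_assoc], hy, mul_div_cancel]

/-! ### `UO = X_1X_3X_5X_7` -/

theorem o3_o0 (d t : F) : S.o 3 d * S.o 0 t = S.o 0 t * (S.o 1 (σ t * d) * (S.o 2 (t * σ d) * S.o 3 d)) := by
  have h := S.o_o3 0 t d
  rw [show (0 : ZMod 8) + 3 = 3 by decide, show (0 : ZMod 8) + 1 = 1 by decide, show (0 : ZMod 8) + 2 = 2 by decide] at h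
  have h1 : S.o 1 (σ t * d) * S.o 2 (t * σ d) = S.o 2 (t * σ d) * S.o 1 (σ t * d) := S.o_o1 1 _ _
  have h3 : S.o 1 (σ t * d) * S.o 3 d = S.o 3 d * S.o 1 (σ t * d) := S.o_o2 1 _ _
  have h4 : S.o 2 (t * σ d) * S.o 3 d = S.o 3 d * S.o 2 (t * σ d) := S.o_o1 2 _ _
  have e : S.o 0 t * (S.o 1 (σ t * d) * (S.o 2 (t * σ d) * S.o 3 d)) =
      (S.o 0 t * S.o 3 d) * (S.o 1 (σ t * d) * S.o 2 (t * σ d)) := by
    rw [h4, ← mul_assoc (S.o 1 _), h3]; simp only [mul_assoc]
  rw [e, h]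
  have e2 : S.o 3 d * S.o 0 t * S.o 1 (σ t * d) * S.o 2 (t * σ d) * (S.o 1 (σ t * d) * S.o 2 (t * σ d)) =
      S.o 3 d * S.o 0 t * (S.o 1 (σ t * d) * (S.o 2 (t * σ d) * S.o 1 (σ t * d)) * S.o 2 (t * σ d)) := by
    simp only [mul_assoc]
  rw [e2, ← h1, ← mul_assoc (S.o 1 (σ t * d)), o_sq S, one_mul, o_sq S, mul_one]

theorem o1_o0 (s t : F) : S.o 1 s * S.o 0 t = S.o 0 t * S.o 1 s := (S.o_o1 0 t s).symm
theorem o2_o0 (s t : F) : S.o 2 s * S.o 0 t = S.o 0 t * S.o 2 s := (S.o_o2 0 t s).symm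
theorem o2_o1 (s t : F) : S.o 2 s * S.o 1 t = S.o 1 t * S.o 2 s := (S.o_o1 1 t s).symm
theorem o3_o1 (s t : F) : S.o 3 s * S.o 1 t = S.o 1 t * S.o 3 s := (S.o_o2 1 t s).symm
theorem o3_o2 (s t : F) : S.o 3 s * S.o 2 t = S.o 2 t * S.o 3 s := (S.o_o1 2 t s).symm

/-- the elements of `UO` -/
def pU (a b c d : F) : G := S.o 0 a * (S.o 1 b * (S.o 2 c * S.o 3 d))

theorem pU_mul (a b c d a' b' c' d' : F) : pU S a b c d * pU S a' b' c' d' =
    pU S (a + a') (b + b' + σ a' * d) (c + c' + a' * σ d) (d + d') := by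
  have l10 : ∀ s t (x : G), S.o 1 s * (S.o 0 t * x) = S.o 0 t * (S.o 1 s * x) := fun s t x => by
    rw [← mul_assoc, o1_o0, mul_assoc]
  have l20 : ∀ s t (x : G), S.o 2 s * (S.o 0 t * x) = S.o 0 t * (S.o 2 s * x) := fun s t x => by
    rw [← mul_assoc, o2_o0, mul_assoc]
  have l21 : ∀ s t (x : G), S.o 2 s * (S.o 1 t * x) = S.o 1 t * (S.o 2 s * x) := fun s t x => by
    rw [← mul_assoc, o2_o1, mul_assoc]
  have l31 : ∀ s t (x : G), S.o 3 s * (S.o 1 t * x) = S.o 1 t * (S.o 3 s * x) := fun s t x => by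
    rw [← mul_assoc, o3_o1, mul_assoc]
  have l32 : ∀ s t (x : G), S.o 3 s * (S.o 2 t * x) = S.o 2 t * (S.o 3 s * x) := fun s t x => by
    rw [← mul_assoc, o3_o2, mul_assoc]
  have l30 : ∀ s t (x : G), S.o 3 s * (S.o 0 t * x) =
      S.o 0 t * (S.o 1 (σ t * s) * (S.o 2 (t * σ s) * (S.o 3 s * x))) := fun s t x => by
    rw [← mul_assoc, o3_o0]; simp only [mul_assoc]
  have m : ∀ a s t (x : G), S.o a s * (S.o a t * x) = S.o a (s + t) * x := fun a s t x => by
    rw [← mul_assoc, S.o_add]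
  unfold pU
  simp only [mul_assoc]
  simp only [l30, l20, l10, l21, l31, l32, m, S.o_add]
  rw [show b + (σ a' * d + b') = b + b' + σ a' * d by ring, show c + (a' * σ d + c') = c + c' + a' * σ d by ring]

theorem pU_zero : pU S 0 0 0 0 = 1 := by
  unfold pU
  rw [S.o_zero, S.o_zero, S.o_zero, S.o_zero, one_mul, one_mul, one_mul]

theorem pU_inv (a b c d : F) : (pU S a b c d)⁻¹ = pU S a (b + σ a * d) (c + a * σ d) d := by
  rw [inv_eq_iff_mul_eq_one, pU_mul, char2 S, char2 S,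
    show b + (b + σ a * d) + σ a * d = (b + b) + (σ a * d + σ a * d) by ring,
    show c + (c + a * σ d) + a * σ d = (c + c) + (a * σ d + a * σ d) by ring, char2 S, char2 S, char2 S, char2 S,
    zero_add, char2 S, pU_zero]

/-- the Sylow `2`-subgroup of `M` -/
def UO : Subgroup G where
  carrier := {g | ∃ a b c d, pU S a b c d = g}
  one_mem' := ⟨0, 0, 0, 0, pU_zero S⟩
  mul_mem' := by
    rintro _ _ ⟨a, b, c, d, rfl⟩ ⟨a', b', c', d', rfl⟩
    exact ⟨_, _, _, _, (pU_mul S _ _ _ _ _ _ _ _).symm⟩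
  inv_mem' := by
    rintro _ ⟨a, b, c, d, rfl⟩
    exact ⟨_, _, _, _, (pU_inv S _ _ _ _).symm⟩

theorem pU_mem (a b c d : F) : pU S a b c d ∈ UO S := ⟨a, b, c, d, rfl⟩

theorem o0_UO (t : F) : S.o 0 t ∈ UO S := ⟨t, 0, 0, 0, by
  unfold pU; rw [S.o_zero, S.o_zero, S.o_zero, one_mul, one_mul, mul_one]⟩
theorem o1_UO (t : F) : S.o 1 t ∈ UO S := ⟨0, t, 0, 0, by
  unfold pU; rw [S.o_zero, S.o_zero, S.o_zero, one_mul, one_mul, mul_one]⟩
theorem o2_UO (t : F) : S.o 2 t ∈ UO S := ⟨0, 0, t, 0, by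
  unfold pU; rw [S.o_zero, S.o_zero, S.o_zero, one_mul, one_mul, mul_one]⟩
theorem o3_UO (t : F) : S.o 3 t ∈ UO S := ⟨0, 0, 0, t, by
  unfold pU; rw [S.o_zero, S.o_zero, S.o_zero, one_mul, one_mul, one_mul]⟩

theorem UO_le_MM : UO S ≤ MM S := by
  rintro _ ⟨a, b, c, d, rfl⟩
  exact mul_mem (o_mem_MM S _ _) (mul_mem (o_mem_MM S _ _) (mul_mem (o_mem_MM S _ _) (o_mem_MM S _ _)))

theorem UO_le_J : UO S ≤ J S.XZ 1 7 := by
  rintro _ ⟨a, b, c, d, rfl⟩
  exact mul_mem (mem_J (S.mX1 a) (by norm_num) (by norm_num)) (mul_mem (mem_J (S.mX3 b) (by norm_num) (by norm_num))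
    (mul_mem (mem_J (S.mX5 c) (by norm_num) (by norm_num)) (mem_J (S.mX7 d) (by norm_num) (by norm_num))))

theorem UO_le_J18 : UO S ≤ J S.XZ 1 8 := (UO_le_J S).trans (J_mono le_rfl (by norm_num))

theorem pU_eq_one {a b c d : F} (h : pU S a b c d = 1) : a = 0 ∧ b = 0 ∧ c = 0 ∧ d = 0 := by
  have Z8 := S.zsys8
  have h3 : S.o 2 c * S.o 3 d ∈ J S.XZ 5 7 :=
    mul_mem (mem_J (S.mX5 c) (by norm_num) (by norm_num)) (mem_J (S.mX7 d) (by norm_num) (by norm_num))
  have h2 : S.o 1 b * (S.o 2 c * S.o 3 d) ∈ J S.XZ 3 7 :=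
    mul_mem (mem_J (S.mX3 b) (by norm_num) (by norm_num)) (J_mono (by norm_num) le_rfl h3)
  have ha : a = 0 := by
    have e : S.o 0 a = (S.o 1 b * (S.o 2 c * S.o 3 d))⁻¹ := eq_inv_of_mul_eq_one_left h
    have := Z8.inter 1 _ (S.mX1 a) (by rw [e]; exact J_mono (by norm_num) (by norm_num) (inv_mem h2))
    exact S.o_eq_one this
  subst ha
  unfold pU at h
  rw [S.o_zero, one_mul] at h
  have hb : b = 0 := by
    have e : S.o 1 b = (S.o 2 c * S.o 3 d)⁻¹ := eq_inv_of_mul_eq_one_left h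
    have := Z8.inter 3 _ (S.mX3 b) (by rw [e]; exact J_mono (by norm_num) (by norm_num) (inv_mem h3))
    exact S.o_eq_one this
  subst hb
  rw [S.o_zero, one_mul] at h
  have hc : c = 0 := by
    have e : S.o 2 c = (S.o 3 d)⁻¹ := eq_inv_of_mul_eq_one_left h
    have := Z8.inter 5 _ (S.mX5 c) (by rw [e]; exact inv_mem (mem_J (S.mX7 d) (by norm_num) (by norm_num)))
    exact S.o_eq_one this
  subst hc
  rw [S.o_zero, one_mul] at h
  exact ⟨rfl, rfl, rfl, S.o_eq_one h⟩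

theorem pU_inj {a b c d a' b' c' d' : F} (h : pU S a b c d = pU S a' b' c' d') : a = a' ∧ b = b' ∧ c = c' ∧ d = d' := by
  have hn : ∀ x y : F, x + y = 0 → x = y := fun x y hxy => by
    rw [eq_neg_of_add_eq_zero_left hxy, neg_eq_of_add_eq_zero_left (char2 S y)]
  have h1 : pU S a b c d * (pU S a' b' c' d')⁻¹ = 1 := by rw [h, mul_inv_cancel]
  rw [pU_inv, pU_mul] at h1
  obtain ⟨h2, h3, h4, h5⟩ := pU_eq_one S h1
  obtain rfl := hn _ _ h2
  obtain rfl := hn _ _ h5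
  refine ⟨rfl, hn _ _ ?_, hn _ _ ?_, rfl⟩
  · rw [← h3, show b + (b' + σ a * d) + σ a * d = b + b' + (σ a * d + σ a * d) by ring, char2 S, add_zero]
  · rw [← h4, show c + (c' + a * σ d) + a * σ d = c + c' + (a * σ d + a * σ d) by ring, char2 S, add_zero]

theorem T_conj_UO {t : G} (ht : t ∈ S.T) {x : G} (hx : x ∈ UO S) : t * x * t⁻¹ ∈ UO S := by
  obtain ⟨c, d, rfl⟩ := S.mem_T.1 ht
  obtain ⟨a, b, c', d', rfl⟩ := hx
  have e : S.h c d * pU S a b c' d' * (S.h c d)⁻¹ = (S.h c d * S.o 0 a * (S.h c d)⁻¹) *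
      ((S.h c d * S.o 1 b * (S.h c d)⁻¹) * ((S.h c d * S.o 2 c' * (S.h c d)⁻¹) *
      (S.h c d * S.o 3 d' * (S.h c d)⁻¹))) := by unfold pU; group
  rw [e, S.h_o, S.h_o, S.h_o, S.h_o]
  exact mul_mem (o0_UO S _) (mul_mem (o1_UO S _) (mul_mem (o2_UO S _) (o3_UO S _)))

/-! ### `UO T` -/

theorem mem_UT {g : G} (hg : g ∈ UO S ⊔ S.T) : ∃ u ∈ UO S, ∃ t ∈ S.T, g = u * t :=
  R2.decomp_aux (fun _ ht _ hu => T_conj_UO S ht hu) hg

theorem pow_UT {u t : G} (hu : u ∈ UO S) (ht : t ∈ S.T) (n : ℕ) : ∃ u' ∈ UO S, (u * t) ^ n = u' * t ^ n := by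
  induction n with
  | zero => exact ⟨1, one_mem _, by simp⟩
  | succ n ih =>
    obtain ⟨u', hu', e⟩ := ih
    refine ⟨u' * (t ^ n * u * (t ^ n)⁻¹), mul_mem hu' (T_conj_UO S (pow_mem ht n) hu), ?_⟩
    rw [pow_succ, e, pow_succ]; group

theorem T_inf_J [Finite F] [Finite G] (hR : S.R.p = 2) {t : G} (ht : t ∈ S.T) (h : t ∈ J S.XZ 1 8) : t = 1 := by
  obtain ⟨k, hk⟩ := two_J S hR (a := 1) (b := 8) (by norm_num) ⟨t, h⟩
  exact T_pow_two S ht (k := k) (congrArg Subtype.val hk)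

/-- the elements of `2`-power order of `UO T` lie in `UO` -/
theorem two_UT [Finite F] [Finite G] (hR : S.R.p = 2) {g : G} (hg : g ∈ UO S ⊔ S.T) {k : ℕ} (hk : g ^ (2 ^ k) = 1) :
    g ∈ UO S := by
  obtain ⟨u, hu, t, ht, rfl⟩ := mem_UT S hg
  obtain ⟨u', hu', e⟩ := pow_UT S hu ht (2 ^ k)
  rw [hk] at e
  have h1 : t ^ (2 ^ k) = u'⁻¹ := eq_inv_of_mul_eq_one_right e.symm
  have h2 : t ^ (2 ^ k) = 1 := T_inf_J S hR (pow_mem ht _) (by rw [h1]; exact UO_le_J18 S (inv_mem hu'))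
  have h3 := T_pow_two S ht h2
  rw [h3, mul_one]
  exact hu

/-! ### the Bruhat decomposition of `M` -/

theorem mem_XZ_nat {k : ℕ} {x : G} : x ∈ S.XZ (2 * (k : ℤ) - 1) ↔ ∃ t, S.o ((k : ZMod 8) - 1) t = x := by
  have h := S.mem_XZ_odd ((k : ℤ) - 1) x
  rw [show 2 * ((k : ℤ) - 1) + 1 = 2 * (k : ℤ) - 1 by ring] at h
  rw [h]
  push_cast
  rfl

theorem T_of_maps {n n' : G} {e : ZMod (2 * 8)} (h : Maps S.R.X n (fun k => e - k))
    (h' : Maps S.R.X n' (fun k => e - k)) : n⁻¹ * n' ∈ S.T := RGDZ.inv_mul_mem h h'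

theorem rank_one (i : ℤ) {n : G} (hn : Maps S.R.X n (fun k => ((2 * i - 8 : ℤ) : ZMod (2 * 8)) - k)) {a : G}
    (ha : a ∈ S.XZ i) (ha1 : a ≠ 1) : ∃ x ∈ S.XZ (i - 8), ∃ h ∈ S.T, ∃ y ∈ S.XZ (i - 8), a = x * n * h * y := by
  obtain ⟨v, hv, v', hv', hr⟩ := S.zsys8.mu i a ha ha1
  have h1 := Cfsg.Agent.H248.TwF4Over.maps_refl (S := S) hr
  have h2 := T_of_maps S hn h1
  refine ⟨v⁻¹, inv_mem hv, n⁻¹ * (v * a * v'), h2, v'⁻¹, inv_mem hv', by group⟩

theorem mX15 (t : F) : S.o 7 t ∈ S.XZ (-1) := by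
  have h := S.o_mem (-1) t
  have e : ((-1 : ℤ) : ZMod 8) = 7 := by decide
  rwa [e, show (2 : ℤ) * (-1) + 1 = -1 by norm_num] at h

/-- the root datum of `M` -/
noncomputable def r2 : R2 4 G where
  X k := S.XZ (2 * (k : ℤ) - 1)
  XI' := S.XZ 9
  XJ' := S.XZ (-1)
  H := S.T
  nI := S.n1
  nJ := mJ S
  one_le := by norm_num
  comm := by
    intro k l h1 h2 h3 x hx y hy
    obtain ⟨s, rfl⟩ := (mem_XZ_nat S).1 hx
    obtain ⟨t, rfl⟩ := (mem_XZ_nat S).1 hy
    have hl : l = 2 ∨ l = 3 ∨ l = 4 := by omega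
    rcases hl with rfl | rfl | rfl
    · obtain rfl : k = 1 := by omega
      have e : S.o 0 s * S.o 1 t = S.o 1 t * S.o 0 s := S.o_o1 0 s t
      have : ⁅S.o ((1 : ℕ) - 1 : ZMod 8) s, S.o ((2 : ℕ) - 1 : ZMod 8) t⁆ = 1 := commutatorElement_eq_one_iff_mul_comm.2 e
      rw [this]; exact one_mem _
    · interval_cases k
      · have e : S.o 0 s * S.o 2 t = S.o 2 t * S.o 0 s := S.o_o2 0 s t
        have : ⁅S.o ((1 : ℕ) - 1 : ZMod 8) s, S.o ((3 : ℕ) - 1 : ZMod 8) t⁆ = 1 := commutatorElement_eq_one_iff_mul_comm.2 e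
        rw [this]; exact one_mem _
      · have e : S.o 1 s * S.o 2 t = S.o 2 t * S.o 1 s := S.o_o1 1 s t
        have : ⁅S.o ((2 : ℕ) - 1 : ZMod 8) s, S.o ((3 : ℕ) - 1 : ZMod 8) t⁆ = 1 := commutatorElement_eq_one_iff_mul_comm.2 e
        rw [this]; exact one_mem _
    · interval_cases k
      · have e : S.o 0 s * S.o 3 t = S.o 3 t * S.o 0 s * S.o 1 (σ s * t) * S.o 2 (s * σ t) := S.o_o3 0 s t
        have e2 : ⁅S.o ((1 : ℕ) - 1 : ZMod 8) s, S.o ((4 : ℕ) - 1 : ZMod 8) t⁆ = S.o 1 (σ s * t) * S.o 2 (s * σ t) := by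
          show ⁅S.o 0 s, S.o 3 t⁆ = _
          rw [commutatorElement_def, o_inv S, o_inv S]
          have h30 := o3_o0 S t s
          have e3 : S.o 0 s * S.o 3 t * S.o 0 s * S.o 3 t = S.o 0 s * (S.o 3 t * S.o 0 s) * S.o 3 t := by group
          rw [e3, h30]
          have e4 : S.o 0 s * (S.o 0 s * (S.o 1 (σ s * t) * (S.o 2 (s * σ t) * S.o 3 t))) * S.o 3 t =
            (S.o 0 s * S.o 0 s) * (S.o 1 (σ s * t) * S.o 2 (s * σ t)) * (S.o 3 t * S.o 3 t) := by group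
          rw [e4, o_sq S, o_sq S, one_mul, mul_one]
        rw [e2]
        refine mul_mem ?_ ?_
        · exact (le_iSup₂_of_le (f := fun (r : ℕ) (_ : r ∈ Set.Ioo 1 4) => S.XZ (2 * (r : ℤ) - 1)) 2 ⟨by norm_num, by norm_num⟩
            le_rfl) (S.mX3 _)
        · exact (le_iSup₂_of_le (f := fun (r : ℕ) (_ : r ∈ Set.Ioo 1 4) => S.XZ (2 * (r : ℤ) - 1)) 3 ⟨by norm_num, by norm_num⟩
            le_rfl) (S.mX5 _)
      · have e : S.o 1 s * S.o 3 t = S.o 3 t * S.o 1 s := S.o_o2 1 s t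
        have : ⁅S.o ((2 : ℕ) - 1 : ZMod 8) s, S.o ((4 : ℕ) - 1 : ZMod 8) t⁆ = 1 := commutatorElement_eq_one_iff_mul_comm.2 e
        rw [this]; exact one_mem _
      · have e : S.o 2 s * S.o 3 t = S.o 3 t * S.o 2 s := S.o_o1 2 s t
        have : ⁅S.o ((3 : ℕ) - 1 : ZMod 8) s, S.o ((4 : ℕ) - 1 : ZMod 8) t⁆ = 1 := commutatorElement_eq_one_iff_mul_comm.2 e
        rw [this]; exact one_mem _
  HX := fun h hh k _ _ x hx => S.T_conj hh _ hx
  nI_X := by
    intro k h1 h2 x hx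
    have := (S.n1_maps ((2 * (k : ℤ) - 1 : ℤ) : ZMod (2 * 8)) x).2 hx
    show S.n1 * x * S.n1⁻¹ ∈ S.R.X _
    convert this using 2
    rw [Nat.cast_sub (by omega)]
    push_cast
    ring
  nJ_X := by
    intro k h1 h2 x hx
    have := (mJ_maps S ((2 * (k : ℤ) - 1 : ℤ) : ZMod (2 * 8)) x).2 hx
    show mJ S * x * (mJ S)⁻¹ ∈ S.R.X _
    convert this using 2
    rw [Nat.cast_sub (by omega)]
    push_cast
    ring
  nI_pos := fun x hx => ((S.n1_maps _ x).2 hx :)
  nI_neg := fun x hx => ((S.n1_maps _ x).2 hx :)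
  nJ_pos := fun x hx => by
    have h := (mJ_maps S _ x).2 hx
    have e : (((-1 : ℤ)) : ZMod (2 * 8)) = 6 - ((2 * ((4 : ℕ) : ℤ) - 1 : ℤ) : ZMod (2 * 8)) := by decide
    show _ ∈ S.R.X _
    rw [e]; exact h
  nJ_neg := fun x hx => by
    have h := (mJ_maps S _ x).2 hx
    have e : ((2 * ((4 : ℕ) : ℤ) - 1 : ℤ) : ZMod (2 * 8)) = 6 - (((-1 : ℤ)) : ZMod (2 * 8)) := by decide
    show _ ∈ S.R.X _
    rw [e]; exact h
  nI_sq := by rw [S.n1_sq]; exact one_mem _
  nJ_sq := by rw [mJ_sq]; exact one_mem _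
  nI_H := fun h hh => RGDZ.conj_mem S.n1_maps hh
  nJ_H := fun h hh => RGDZ.conj_mem (mJ_maps S) hh
  rank_oneI := fun a ha ha1 => rank_one S 9 S.n1_maps ha ha1
  rank_oneJ := fun a ha ha1 => by
    have h : S.XZ (-1) = S.XZ 15 := rfl
    rw [h] at ha
    exact rank_one S 15 (mJ_maps S) ha ha1
  memI := by
    rw [S.n1_word]
    exact mul_mem (mul_mem (Subgroup.mem_sup_left (S.mX1 1)) (Subgroup.mem_sup_right (S.mX9 1)))
      (Subgroup.mem_sup_left (S.mX1 1))
  memJ := by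
    rw [mJ_word]
    have h7 := mX15 S 1
    exact mul_mem (mul_mem (Subgroup.mem_sup_right h7) (Subgroup.mem_sup_left (S.mX7 1)))
      (Subgroup.mem_sup_right h7)
  braid := by
    have hA : Maps S.R.X (alt S.n1 (mJ S) 4) (fun k => 8 + k) :=
      (((S.n1_maps).mul ((mJ_maps S).mul ((S.n1_maps).mul ((mJ_maps S).mul Maps.one))))).congr fun k => by
        show 10 - (6 - (10 - (6 - k))) = 8 + k
        ring
    have hB : Maps S.R.X (alt (mJ S) S.n1 4) (fun k => 8 + k) :=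
      (((mJ_maps S).mul ((S.n1_maps).mul ((mJ_maps S).mul ((S.n1_maps).mul Maps.one))))).congr fun k => by
        show 6 - (10 - (6 - (10 - k))) = 8 + k
        have : (16 : ZMod (2 * 8)) = 0 := rfl
        linear_combination -this
    have hB' : Maps S.R.X (alt (mJ S) S.n1 4)⁻¹ (fun k => 8 + k) := hB.inv fun k => by
      have : (16 : ZMod (2 * 8)) = 0 := rfl
      linear_combination this
    refine ⟨(alt (mJ S) S.n1 4)⁻¹ * alt S.n1 (mJ S) 4, ?_, by group⟩
    exact (hB'.mul hA).congr fun k => by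
      show 8 + (8 + k) = k
      have : (16 : ZMod (2 * 8)) = 0 := rfl
      linear_combination this

/-- `w` acts on the root groups as an element of the Weyl group of `M` -/
def IsW4 (w : G) : Prop :=
  ∃ c : ℤ, Maps S.R.X w (fun k => ((4 * c : ℤ) : ZMod (2 * 8)) + k) ∨
    Maps S.R.X w (fun k => ((4 * c + 2 : ℤ) : ZMod (2 * 8)) - k)

variable {S} in
theorem IsW4.mul {w v : G} (hw : IsW4 S w) (hv : IsW4 S v) : IsW4 S (w * v) := by
  obtain ⟨c, hc | hc⟩ := hw <;> obtain ⟨d, hd | hd⟩ := hv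
  · exact ⟨c + d, Or.inl ((hc.mul hd).congr fun k => by simp only [Function.comp]; push_cast; ring)⟩
  · exact ⟨c + d, Or.inr ((hc.mul hd).congr fun k => by simp only [Function.comp]; push_cast; ring)⟩
  · exact ⟨c - d, Or.inr ((hc.mul hd).congr fun k => by simp only [Function.comp]; push_cast; ring)⟩
  · exact ⟨c - d, Or.inl ((hc.mul hd).congr fun k => by simp only [Function.comp]; push_cast; ring)⟩

theorem isW4_T {t : G} (ht : t ∈ S.T) : IsW4 S t :=
  ⟨0, Or.inl ((show Maps S.R.X t id from ht).congr fun k => by simp)⟩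

theorem isW4_n1 : IsW4 S S.n1 := ⟨2, Or.inr (S.n1_maps.congr fun k => by
  show 10 - k = ((4 * 2 + 2 : ℤ) : ZMod (2 * 8)) - k
  congr 1)⟩

theorem isW4_mJ : IsW4 S (mJ S) := ⟨1, Or.inr ((mJ_maps S).congr fun k => by
  show 6 - k = ((4 * 1 + 2 : ℤ) : ZMod (2 * 8)) - k
  congr 1)⟩

theorem isW4_alt (k : ℕ) : IsW4 S (alt S.n1 (mJ S) k) ∧ IsW4 S (alt (mJ S) S.n1 k) := by
  induction k with
  | zero => exact ⟨isW4_T S (one_mem _), isW4_T S (one_mem _)⟩
  | succ k ih => exact ⟨(isW4_n1 S).mul ih.2, (isW4_mJ S).mul ih.1⟩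

theorem r2_U_le : (r2 S).U ≤ UO S := by
  refine iSup₂_le fun k hk x hx => ?_
  obtain ⟨t, rfl⟩ := (mem_XZ_nat S).1 hx
  have hk' : k = 1 ∨ k = 2 ∨ k = 3 ∨ k = 4 := by have := hk.1; have := hk.2; omega
  rcases hk' with rfl | rfl | rfl | rfl
  · exact o0_UO S t
  · exact o1_UO S t
  · exact o2_UO S t
  · exact o3_UO S t

theorem le_r2 : MM S ≤ (r2 S).U ⊔ (r2 S).H ⊔ ((r2 S).XI' ⊔ (r2 S).XJ') := by
  set K := (r2 S).U ⊔ (r2 S).H ⊔ ((r2 S).XI' ⊔ (r2 S).XJ') with hK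
  have hU : (r2 S).U ≤ K := le_sup_left.trans le_sup_left
  have hX : ∀ k : ℕ, 1 ≤ k → k ≤ 4 → S.XZ (2 * (k : ℤ) - 1) ≤ K := fun k h1 h2 =>
    ((r2 S).X_le h1 h2).trans hU
  have h9 : S.XZ 9 ≤ K := (le_sup_left : (r2 S).XI' ≤ _).trans le_sup_right
  have h15 : S.XZ (-1) ≤ K := (le_sup_right : (r2 S).XJ' ≤ _).trans le_sup_right
  have h1 : S.n1 ∈ K := n1_mem_of S (hX 1 (by norm_num) (by norm_num)) h9
  have hJ : mJ S ∈ K := by
    rw [mJ_word]
    exact mul_mem (mul_mem (h15 (mX15 S 1)) (hX 4 (by norm_num) (by norm_num) (S.mX7 1))) (h15 (mX15 S 1))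
  have a0 : ∀ t, S.o 0 t ∈ K := fun t => hX 1 (by norm_num) (by norm_num) (S.mX1 t)
  have a1 : ∀ t, S.o 1 t ∈ K := fun t => hX 2 (by norm_num) (by norm_num) (S.mX3 t)
  have a2 : ∀ t, S.o 2 t ∈ K := fun t => hX 3 (by norm_num) (by norm_num) (S.mX5 t)
  have a3 : ∀ t, S.o 3 t ∈ K := fun t => hX 4 (by norm_num) (by norm_num) (S.mX7 t)
  have a4 : ∀ t, S.o 4 t ∈ K := fun t => h9 (S.mX9 t)
  have a7 : ∀ t, S.o 7 t ∈ K := fun t => h15 (mX15 S t)
  have a5 : ∀ t, S.o 5 t ∈ K := fun t => by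
    have := S.n1_o 7 t
    rw [show (4 : ZMod 8) - 7 = 5 by decide] at this
    rw [← this]
    exact mul_mem (mul_mem h1 (a7 t)) (inv_mem h1)
  have a6 : ∀ t, S.o 6 t ∈ K := fun t => by
    have := mJ_o S 4 t
    rw [show (2 : ZMod 8) - 4 = 6 by decide] at this
    rw [← this]
    exact mul_mem (mul_mem hJ (a4 t)) (inv_mem hJ)
  refine MM_le fun a t => ?_
  fin_cases a
  · exact a0 t
  · exact a1 t
  · exact a2 t
  · exact a3 t
  · exact a4 t
  · exact a5 t
  · exact a6 t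
  · exact a7 t

/-- **Bruhat decomposition of `M`** -/
theorem bruhat_MM {g : G} (hg : g ∈ MM S) : ∃ b ∈ UO S, ∃ w, IsW4 S w ∧ ∃ b' ∈ UO S, g = b * w * b' := by
  have hl : (r2 S).U ⊔ (r2 S).H ≤ UO S ⊔ S.T := sup_le_sup (r2_U_le S) le_rfl
  obtain ⟨b, hb, k, -, b', hb', h⟩ := (r2 S).bruhat (le_r2 S hg)
  obtain ⟨u, hu, t, ht, rfl⟩ := mem_UT S (hl hb)
  obtain ⟨u', hu', t', ht', rfl⟩ := mem_UT S (hl hb')
  have h1 : t'⁻¹ * u' * t' ∈ UO S := by
    have := T_conj_UO S (inv_mem ht') hu'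
    rwa [inv_inv] at this
  rcases h with rfl | rfl
  · exact ⟨u, hu, t * alt S.n1 (mJ S) k * t', ((isW4_T S ht).mul (isW4_alt S k).1).mul (isW4_T S ht'),
      t'⁻¹ * u' * t', h1, by show u * t * alt S.n1 (mJ S) k * (u' * t') = _; group⟩
  · exact ⟨u, hu, t * alt (mJ S) S.n1 k * t', ((isW4_T S ht).mul (isW4_alt S k).2).mul (isW4_T S ht'),
      t'⁻¹ * u' * t', h1, by show u * t * alt (mJ S) S.n1 k * (u' * t') = _; group⟩

/-! ### consequences -/

/-- a `T`-invariant subgroup that meets the root groups of a window trivially meets the window trivially -/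
theorem eq_one_of_peel [Finite F] [Finite G] (hF : ∃ c : Fˣ, c ≠ 1) (hR : S.R.p = 2) {V : Subgroup G}
    (hT : ∀ t ∈ S.T, ∀ x ∈ V, t * x * t⁻¹ ∈ V) {a b : ℤ} (hb : b < a + 8)
    (h : ∀ k, a ≤ k → k ≤ b → ∀ x ∈ S.XZ k, x ∈ V → x = 1) {x : G} (hx : x ∈ J S.XZ a b) (hV : x ∈ V) : x = 1 := by
  have key : ∀ n : ℕ, ∀ a : ℤ, b + 1 ≤ a + n → b < a + 8 → (∀ k, a ≤ k → k ≤ b → ∀ x ∈ S.XZ k, x ∈ V → x = 1) →
      ∀ x ∈ J S.XZ a b, x ∈ V → x = 1 := by
    intro n
    induction n with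
    | zero => intro a h1 _ _ x hx _; exact eq_one_of_J hx (by push_cast at h1; omega)
    | succ n ih =>
      intro a h1 h2 h x hx hV
      rcases lt_or_ge b a with hlt | hab
      · exact eq_one_of_J hx hlt
      obtain ⟨x1, hx1, y, hy, rfl⟩ := S.zsys8.split_ll hab h2 hx
      have h3 := peel S hF hR hT h2 hx1 hy hV
      have h4 := h a le_rfl hab x1 hx1 h3
      subst h4
      rw [one_mul] at hV ⊢
      exact ih (a + 1) (by push_cast at h1; omega) (by omega) (fun k hk1 hk2 => h k (by omega) hk2) y hy hV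
  exact key (b + 1 - a).toNat a (by omega) hb h x hx hV

/-- `X_j` meets `J 1 8` trivially for `9 ≤ j ≤ 16` -/
theorem not_in_J [Finite F] [Finite G] (hF : ∃ c : Fˣ, c ≠ 1) (hR : S.R.p = 2) {j : ℤ} (h1 : 9 ≤ j) (h2 : j ≤ 16)
    {x : G} (hx : x ∈ S.XZ j) (hx1 : x ≠ 1) (h : x ∈ J S.XZ 1 8) : False := by
  refine hx1 (eq_one_of_peel S hF hR (V := S.XZ j) (fun t ht x hx => S.T_conj ht j hx) (a := 1) (b := 8) (by norm_num)
    (fun k hk1 hk2 y hy hy' => ?_) h hx)
  refine S.X_inf (i := (k : ZMod (2 * 8))) (j := (j : ZMod (2 * 8))) (fun he => ?_) hy hy'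
  have h3 : ((j - k : ℤ) : ZMod (2 * 8)) = 0 := by rw [Int.cast_sub, he, sub_self]
  rw [ZMod.intCast_zmod_eq_zero_iff_dvd] at h3
  obtain ⟨m, hm⟩ := h3
  have hm' : j - k = 16 * m := by rw [hm]; norm_num
  omega

theorem four_cases (c : ℤ) : ((4 * c : ℤ) : ZMod (2 * 8)) = 0 ∨ ((4 * c : ℤ) : ZMod (2 * 8)) = 4 ∨
    ((4 * c : ℤ) : ZMod (2 * 8)) = 8 ∨ ((4 * c : ℤ) : ZMod (2 * 8)) = 12 := by
  have h16 : (16 : ZMod (2 * 8)) = 0 := rfl
  have e : c = 4 * (c / 4) + c % 4 := (Int.mul_ediv_add_emod c 4).symm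
  have h : ((4 * c : ℤ) : ZMod (2 * 8)) = ((4 * (c % 4) : ℤ) : ZMod (2 * 8)) := by
    conv_lhs => rw [e]
    push_cast
    linear_combination ((c / 4 : ℤ) : ZMod (2 * 8)) * h16
  rw [h]
  have h0 := Int.emod_nonneg c (by norm_num : (4 : ℤ) ≠ 0)
  have h1 := Int.emod_lt_of_pos c (by norm_num : (0 : ℤ) < 4)
  have h2 : c % 4 = 0 ∨ c % 4 = 1 ∨ c % 4 = 2 ∨ c % 4 = 3 := by omega
  rcases h2 with h2 | h2 | h2 | h2 <;> rw [h2]
  · left; decide
  · right; left; decide
  · right; right; left; decide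
  · right; right; right; decide

/-- an element of the Weyl group of `M` that maps `X_1, X_3, X_5, X_7` into `J 1 8` is in the torus -/
theorem W4_T [Finite F] [Finite G] (hF : ∃ c : Fˣ, c ≠ 1) (hR : S.R.p = 2) {w : G} (hw : IsW4 S w) (h : ∀ k : ℤ, k = 1 ∨ k = 3 ∨ k = 5 ∨ k = 7 → ∀ x ∈ S.XZ k,
    w * x * w⁻¹ ∈ J S.XZ 1 8) : w ∈ S.T := by
  have bad : ∀ k j : ℤ, k = 1 ∨ k = 3 ∨ k = 5 ∨ k = 7 → 9 ≤ j → j ≤ 16 →
      (∀ x ∈ S.XZ k, w * x * w⁻¹ ∈ S.XZ j) → False := by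
    intro k j hk h1 h2 h3
    obtain ⟨x, hx, hx1⟩ := S.zsys8.exists_ne k
    refine not_in_J S hF hR h1 h2 (h3 x hx) ?_ (h k hk x hx)
    intro h4
    rw [mul_inv_eq_one, mul_eq_left] at h4
    exact hx1 h4
  obtain ⟨c, hc | hc⟩ := hw
  · have hm : ∀ (k j : ℤ), ((4 * c : ℤ) : ZMod (2 * 8)) + (k : ZMod (2 * 8)) = (j : ZMod (2 * 8)) →
        ∀ x ∈ S.XZ k, w * x * w⁻¹ ∈ S.XZ j := fun k j he x hx => by
      have := (hc (k : ZMod (2 * 8)) x).2 hx
      show _ ∈ S.R.X (j : ZMod (2 * 8))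
      rw [← he]; exact this
    rcases four_cases c with h0 | h0 | h0 | h0
    · exact hc.congr fun k => by rw [h0]; exact zero_add k
    · exact (bad 5 9 (by norm_num) (by norm_num) (by norm_num) (hm 5 9 (by rw [h0]; decide))).elim
    · exact (bad 1 9 (by norm_num) (by norm_num) (by norm_num) (hm 1 9 (by rw [h0]; decide))).elim
    · exact (bad 1 13 (by norm_num) (by norm_num) (by norm_num) (hm 1 13 (by rw [h0]; decide))).elim
  · have hm : ∀ (k j : ℤ), ((4 * c : ℤ) : ZMod (2 * 8)) + 2 - (k : ZMod (2 * 8)) = (j : ZMod (2 * 8)) →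
        ∀ x ∈ S.XZ k, w * x * w⁻¹ ∈ S.XZ j := fun k j he x hx => by
      have := (hc (k : ZMod (2 * 8)) x).2 hx
      show _ ∈ S.R.X (j : ZMod (2 * 8))
      rw [← he]
      have e : ((4 * c + 2 : ℤ) : ZMod (2 * 8)) = ((4 * c : ℤ) : ZMod (2 * 8)) + 2 := by push_cast; ring
      rw [← e]; exact this
    rcases four_cases c with h0 | h0 | h0 | h0
    · exact (bad 3 15 (by norm_num) (by norm_num) (by norm_num) (hm 3 15 (by rw [h0]; decide))).elim
    · exact (bad 7 15 (by norm_num) (by norm_num) (by norm_num) (hm 7 15 (by rw [h0]; decide))).elim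
    · exact (bad 1 9 (by norm_num) (by norm_num) (by norm_num) (hm 1 9 (by rw [h0]; decide))).elim
    · exact (bad 1 13 (by norm_num) (by norm_num) (by norm_num) (hm 1 13 (by rw [h0]; decide))).elim

theorem X_le_UO {k : ℤ} (hk : k = 1 ∨ k = 3 ∨ k = 5 ∨ k = 7) : S.XZ k ≤ UO S := by
  intro x hx
  rcases hk with rfl | rfl | rfl | rfl
  · obtain ⟨t, rfl⟩ := S.X1 hx; exact o0_UO S t
  · obtain ⟨t, rfl⟩ := S.X3 hx; exact o1_UO S t
  · obtain ⟨t, rfl⟩ := S.X5 hx; exact o2_UO S t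
  · obtain ⟨t, rfl⟩ := S.X7 hx; exact o3_UO S t

/-- `M ∩ J 1 8 = UO` -/
theorem MM_inf [Finite F] [Finite G] (hF : ∃ c : Fˣ, c ≠ 1) (hR : S.R.p = 2) {g : G} (hg : g ∈ MM S) (hJ : g ∈ J S.XZ 1 8) : g ∈ UO S := by
  obtain ⟨b, hb, w, hw, b', hb', rfl⟩ := bruhat_MM S hg
  have hwJ : w ∈ J S.XZ 1 8 := by
    have h1 := mul_mem (mul_mem (inv_mem (UO_le_J18 S hb)) hJ) (inv_mem (UO_le_J18 S hb'))
    have e : b⁻¹ * (b * w * b') * b'⁻¹ = w := by group
    rwa [e] at h1
  have hwT : w ∈ S.T := W4_T S hF hR hw fun k hk x hx =>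
    mul_mem (mul_mem hwJ (UO_le_J18 S (X_le_UO S hk hx))) (inv_mem hwJ)
  rw [T_inf_J S hR hwT hwJ, mul_one]
  exact mul_mem hb hb'

/-- `N_M(UO) = UO T` -/
theorem norm_UO [Finite F] [Finite G] (hF : ∃ c : Fˣ, c ≠ 1) (hR : S.R.p = 2) {g : G} (hg : g ∈ MM S) (hN : ∀ x ∈ UO S, g * x * g⁻¹ ∈ UO S) : g ∈ UO S ⊔ S.T := by
  obtain ⟨b, hb, w, hw, b', hb', rfl⟩ := bruhat_MM S hg
  have hwT : w ∈ S.T := W4_T S hF hR hw fun k hk x hx => by
    have hx' := X_le_UO S hk hx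
    have h1 := hN (b'⁻¹ * x * b') (mul_mem (mul_mem (inv_mem hb') hx') hb')
    have h2 := mul_mem (mul_mem (inv_mem hb) h1) hb
    have e : b⁻¹ * ((b * w * b') * (b'⁻¹ * x * b') * (b * w * b')⁻¹) * b = w * x * w⁻¹ := by group
    rw [e] at h2
    exact UO_le_J18 S h2
  exact mul_mem (mul_mem (Subgroup.mem_sup_left hb) (Subgroup.mem_sup_right hwT)) (Subgroup.mem_sup_left hb')

theorem X2_inf_UO {x : G} (hx : x ∈ S.XZ 2) (h : x ∈ UO S) : x = 1 := by
  have Z8 := S.zsys8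
  obtain ⟨a, b, c, d, rfl⟩ := h
  have h2 : S.o 1 b * (S.o 2 c * S.o 3 d) ∈ J S.XZ 3 7 :=
    mul_mem (mem_J (S.mX3 b) (by norm_num) (by norm_num)) (mul_mem (mem_J (S.mX5 c) (by norm_num) (by norm_num))
      (mem_J (S.mX7 d) (by norm_num) (by norm_num)))
  have ha : S.o 0 a = 1 := Z8.inter 1 _ (S.mX1 a) (by
    have e : S.o 0 a = pU S a b c d * (S.o 1 b * (S.o 2 c * S.o 3 d))⁻¹ := by unfold pU; group
    rw [e]
    exact mul_mem (mem_J hx (by norm_num) (by norm_num)) (inv_mem (J_mono (by norm_num) (by norm_num) h2)))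
  unfold pU at hx ⊢
  rw [ha, one_mul] at hx ⊢
  exact Z8.inter 2 _ hx (J_mono (by norm_num) (by norm_num) h2)

theorem MM_ne_top [Finite F] [Finite G] (hF : ∃ c : Fˣ, c ≠ 1) (hR : S.R.p = 2) : MM S ≠ ⊤ := by
  intro h
  have h1 : S.e 1 0 1 ∈ MM S := by rw [h]; trivial
  have h3 := MM_inf S hF hR h1 (mem_J (S.mX2 0 1) (by norm_num) (by norm_num))
  have h4 := (S.e_eq_one (X2_inf_UO S (S.mX2 0 1) h3)).2
  exact one_ne_zero h4

theorem UO_two [Finite F] [Finite G] (hR : S.R.p = 2) : IsPGroup 2 (UO S) :=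
  (two_J S hR (a := 1) (b := 8) (by norm_num)).to_le (UO_le_J18 S)

/-! ### Sylow theory -/

/-- normaliser condition -/
theorem exists_norm {G : Type*} [Group G] [Finite G] {V P : Subgroup G} (hP : IsPGroup 2 P) (hVP : V ≤ P) (hne : V ≠ P) :
    ∃ g ∈ P, g ∉ V ∧ ∀ x, x ∈ V ↔ g * x * g⁻¹ ∈ V := by
  have hlt : V < P := lt_of_le_of_ne hVP hne
  have hfact : Fact (Nat.Prime 2) := ⟨Nat.prime_two⟩
  have hnil : Group.IsNilpotent P := hP.isNilpotent
  have hnc := (Group.normalizerCondition_of_isNilpotent (G := P)) (V.subgroupOf P)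
    (lt_top_iff_ne_top.2 fun h => by
      rw [Subgroup.subgroupOf_eq_top] at h
      exact absurd h (not_le_of_gt hlt))
  obtain ⟨g, hgN, hgU⟩ := SetLike.exists_of_lt hnc
  refine ⟨g, g.2, hgU, fun x => ⟨fun hx => ?_, fun hx => ?_⟩⟩
  · have h1 := (Subgroup.mem_normalizer_iff.1 hgN ⟨x, hVP hx⟩).1 hx
    exact h1
  · have hxP : x ∈ P := by
      have h2 := hVP hx
      have e : x = (g : G)⁻¹ * ((g : G) * x * (g : G)⁻¹) * g := by group
      rw [e]
      exact mul_mem (mul_mem (inv_mem g.2) h2) g.2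
    exact (Subgroup.mem_normalizer_iff.1 hgN ⟨x, hxP⟩).2 hx

open scoped Pointwise in
/-- `V` is a Sylow `2`-subgroup of `M` when the `2`-elements of `N_M(V)` are in `V` -/
theorem exists_conj_le {G : Type*} [Group G] [Finite G] {M V : Subgroup G} (hVM : V ≤ M) (hV : IsPGroup 2 V)
    (hmax : ∀ g ∈ M, (∀ x ∈ V, g * x * g⁻¹ ∈ V) → ∀ k : ℕ, g ^ (2 ^ k) = 1 → g ∈ V) {Q : Subgroup G}
    (hQ : IsPGroup 2 Q) (hQM : Q ≤ M) : ∃ m ∈ M, ∀ x ∈ Q, m * x * m⁻¹ ∈ V := by
  have hfact : Fact (Nat.Prime 2) := ⟨Nat.prime_two⟩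
  have hVs : IsPGroup 2 (V.subgroupOf M) := hV.of_equiv (Subgroup.subgroupOfEquivOfLe hVM).symm
  obtain ⟨P, hP⟩ := hVs.exists_le_sylow
  have hPV : (P : Subgroup M) = V.subgroupOf M := by
    by_contra hne
    obtain ⟨g, hgP, hgV, hg⟩ := exists_norm P.2 hP (fun h => hne h.symm)
    obtain ⟨k, hk⟩ := P.2 ⟨g, hgP⟩
    refine hgV (hmax g g.2 (fun x hx => (hg ⟨x, hVM hx⟩).1 hx) k ?_)
    have := congrArg (fun y : (P : Subgroup M) => ((y : M) : G)) hk
    simpa only [_root_.SubmonoidClass.mk_pow, _root_.SubmonoidClass.coe_pow, _root_.OneMemClass.coe_one] using this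
  have hQs : IsPGroup 2 (Q.subgroupOf M) := hQ.of_equiv (Subgroup.subgroupOfEquivOfLe hQM).symm
  obtain ⟨P', hP'⟩ := hQs.exists_le_sylow
  obtain ⟨k, hk⟩ := MulAction.exists_smul_eq M P' P
  refine ⟨k, k.2, fun x hx => ?_⟩
  have h1 : (⟨x, hQM hx⟩ : M) ∈ (P' : Subgroup M) := hP' hx
  have h2 : k * ⟨x, hQM hx⟩ * k⁻¹ ∈ ((MulAut.conj k • (P' : Subgroup M) : Subgroup M)) :=
    Subgroup.smul_mem_pointwise_smul _ (MulAut.conj k) _ h1
  have h3 : (MulAut.conj k • (P' : Subgroup M) : Subgroup M) = (P : Subgroup M) := by rw [← hk]; rfl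
  rw [h3, hPV] at h2
  exact h2

/-- **`UO` is a Sylow `2`-subgroup of every `M₀` with `UO ≤ M₀ ≤ M`** -/
theorem conj_UO [Finite F] [Finite G] (hF : ∃ c : Fˣ, c ≠ 1) (hR : S.R.p = 2) {M₀ : Subgroup G} (hM₀ : M₀ ≤ MM S)
    (hU : UO S ≤ M₀) {Q : Subgroup G} (hQ : IsPGroup 2 Q) (hQM : Q ≤ M₀) : ∃ m ∈ M₀, ∀ x ∈ Q, m * x * m⁻¹ ∈ UO S :=
  exists_conj_le hU (UO_two S hR) (fun _ hg hn _ hk => two_UT S hR (norm_UO S hF hR (hM₀ hg) hn) hk) hQ hQM

end Cfsg.Agent.H136.TwF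
end

-- part: H136/TwF/NormU
section
/-!
# The normaliser of `UO = X_1X_3X_5X_7` in `²F₄(q)` (helper136, task 629)

* `isC`, `conj_isC` : the elements `o1(a)o2(b)`, `ab ≠ 0`, are the non-trivial commutators of involutions of `UO`;
* `type` : an element of `N(UO)` normalises `X_3` and `X_5` or interchanges them;
* `type_one` : an element of the first type is in `J 1 8 * T`;
* `norm_le_P` : `N(UO) ≤ N(Z_4)`.
-/

set_option autoImplicit false
set_option linter.unusedSectionVars false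

namespace Cfsg.Agent.H136.TwF

open Cfsg.Agent.KFacts.TwF4 Cfsg.Agent.KFacts.TwF4.Full Cfsg.Agent.KFacts.TwF4.Arc
open Cfsg.Agent.KFacts.TwF4.Inv Cfsg.Agent.KFacts.TwF4.SylU Cfsg.Agent.KFacts.TwF4.Perf
open Cfsg.Agent.SplitTwo Cfsg.Agent.SplitTwo.ZS Cfsg.Agent.TitsThree.RankTwoZ Cfsg.Agent.TitsThree.RankTwoRGD
open Cfsg.Agent.SplitTwo.RootSysZ
open Cfsg.Agent.H392.TwFFour
open scoped commutatorElement

universe u

variable {F : Type*} [Field F] {σ : F →+* F} {G : Type u} [Group G] (S : Full σ G)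

include S in
theorem add_eq_zero' {x y : F} (h : x + y = 0) : x = y := by
  rw [eq_neg_of_add_eq_zero_left h, neg_eq_of_add_eq_zero_left (char2 S y)]

theorem o1_pU (t : F) : S.o 1 t = pU S 0 t 0 0 := by
  unfold pU; rw [S.o_zero, S.o_zero, S.o_zero, one_mul, one_mul, mul_one]
theorem o2_pU (t : F) : S.o 2 t = pU S 0 0 t 0 := by
  unfold pU; rw [S.o_zero, S.o_zero, S.o_zero, one_mul, one_mul, mul_one]
theorem o0_pU (t : F) : S.o 0 t = pU S t 0 0 0 := by
  unfold pU; rw [S.o_zero, S.o_zero, S.o_zero, one_mul, one_mul, mul_one]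
theorem o3_pU (t : F) : S.o 3 t = pU S 0 0 0 t := by
  unfold pU; rw [S.o_zero, S.o_zero, S.o_zero, one_mul, one_mul, one_mul]
theorem o12_pU (a b : F) : S.o 1 a * S.o 2 b = pU S 0 a b 0 := by
  rw [o1_pU, o2_pU, pU_mul]; simp

/-- the non-trivial commutators of involutions of `UO` -/
theorem isC_of {x y z : G} (hx : x ∈ UO S) (hy : y ∈ UO S) (hx2 : x * x = 1) (hy2 : y * y = 1) (h : x * y = y * x * z)
    (hz : z ≠ 1) : ∃ a b, a ≠ 0 ∧ b ≠ 0 ∧ z = S.o 1 a * S.o 2 b := by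
  obtain ⟨a, b, c, d, rfl⟩ := hx
  obtain ⟨a', b', c', d', rfl⟩ := hy
  have h1 : a = 0 ∨ d = 0 := by
    rw [pU_mul] at hx2
    have := (pU_eq_one S hx2).2.1
    rw [char2 S, zero_add] at this
    rcases mul_eq_zero.1 this with h | h
    · exact Or.inl ((map_eq_zero σ).1 h)
    · exact Or.inr h
  have h2 : a' = 0 ∨ d' = 0 := by
    rw [pU_mul] at hy2
    have := (pU_eq_one S hy2).2.1
    rw [char2 S, zero_add] at this
    rcases mul_eq_zero.1 this with h | h
    · exact Or.inl ((map_eq_zero σ).1 h)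
    · exact Or.inr h
  have h3 : z = pU S 0 (σ a * d' + σ a' * d) (a * σ d' + a' * σ d) 0 := by
    have h4 : pU S a' b' c' d' * pU S a b c d * pU S 0 (σ a * d' + σ a' * d) (a * σ d' + a' * σ d) 0 =
        pU S a b c d * pU S a' b' c' d' := by
      rw [pU_mul, pU_mul, pU_mul]
      simp only [add_zero, zero_mul, map_zero]
      have e1 : b' + b + σ a * d' + (σ a * d' + σ a' * d) = b + b' + σ a' * d + (σ a * d' + σ a * d') := by ring
      have e2 : c' + c + a * σ d' + (a * σ d' + a' * σ d) = c + c' + a' * σ d + (a * σ d' + a * σ d') := by ring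
      rw [e1, e2, char2 S, char2 S, add_zero, add_zero, add_comm a' a, add_comm d' d]
    rw [← h4] at h
    exact (mul_left_cancel h).symm
  have key : ∀ s t : F, z = pU S 0 (σ s * t) (s * σ t) 0 → ∃ a b, a ≠ 0 ∧ b ≠ 0 ∧ z = S.o 1 a * S.o 2 b := by
    intro s t hz'
    have hs : s ≠ 0 := by
      rintro rfl
      rw [map_zero, zero_mul, zero_mul, pU_zero] at hz'
      exact hz hz'
    have ht : t ≠ 0 := by
      rintro rfl
      rw [map_zero, mul_zero, mul_zero, pU_zero] at hz'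
      exact hz hz'
    exact ⟨_, _, mul_ne_zero ((map_ne_zero σ).2 hs) ht, mul_ne_zero hs ((map_ne_zero σ).2 ht), by rw [hz', o12_pU]⟩
  rcases h1 with rfl | rfl
  · rcases h2 with rfl | rfl
    · simp only [map_zero, zero_mul, add_zero] at h3
      rw [pU_zero] at h3
      exact (hz h3).elim
    · simp only [map_zero, mul_zero, zero_add] at h3
      exact key _ _ h3
  · rcases h2 with rfl | rfl
    · simp only [map_zero, add_zero, mul_zero] at h3
      exact key _ _ h3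
    · simp only [map_zero, mul_zero, add_zero] at h3
      rw [pU_zero] at h3
      exact (hz h3).elim

theorem isC_ex [Finite F] {a b : F} (ha : a ≠ 0) (hb : b ≠ 0) : ∃ x ∈ UO S, ∃ y ∈ UO S, x * x = 1 ∧ y * y = 1 ∧
    x * y = y * x * (S.o 1 a * S.o 2 b) := by
  -- `σ s * t = a`, `s * σ t = b`
  obtain ⟨s, hs⟩ := σ_surj σ (a * a * (σ b)⁻¹)
  have hσb : σ b ≠ 0 := (map_ne_zero σ).2 hb
  have hs0 : s ≠ 0 := by
    rintro rfl
    rw [map_zero] at hs
    exact mul_ne_zero (mul_ne_zero ha ha) (inv_ne_zero hσb) hs.symm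
  have hσs : σ s ≠ 0 := (map_ne_zero σ).2 hs0
  set t := a * (σ s)⁻¹ with ht
  have h1 : σ s * t = a := by rw [ht]; field_simp
  have h2 : s * σ t = b := by
    apply σ.injective
    rw [map_mul, S.sq, hs, ht, hs]
    field_simp
  refine ⟨S.o 0 s, o0_UO S s, S.o 3 t, o3_UO S t, o_sq S _ _, o_sq S _ _, ?_⟩
  have h3 := o3_o0 S t s
  rw [h1, h2] at h3
  have h4 := S.o_o3 0 s t
  rw [h1, h2] at h4
  rw [← mul_assoc]
  exact h4

variable {S}

/-- an element of `N(UO)` permutes the non-trivial commutators of involutions -/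
theorem conj_isC [Finite F] {g : G} (hg : g ∈ Subgroup.normalizer (UO S : Set G)) {a b : F} (ha : a ≠ 0) (hb : b ≠ 0) :
    ∃ a' b', a' ≠ 0 ∧ b' ≠ 0 ∧ g * (S.o 1 a * S.o 2 b) * g⁻¹ = S.o 1 a' * S.o 2 b' := by
  obtain ⟨x, hx, y, hy, hx2, hy2, h⟩ := isC_ex S ha hb
  have hc : ∀ x ∈ UO S, g * x * g⁻¹ ∈ UO S := fun x hx => (Subgroup.mem_normalizer_iff.1 hg x).1 hx
  refine isC_of S (hc x hx) (hc y hy) ?_ ?_ ?_ ?_
  · calc g * x * g⁻¹ * (g * x * g⁻¹) = g * (x * x) * g⁻¹ := by group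
      _ = 1 := by rw [hx2]; group
  · calc g * y * g⁻¹ * (g * y * g⁻¹) = g * (y * y) * g⁻¹ := by group
      _ = 1 := by rw [hy2]; group
  · calc g * x * g⁻¹ * (g * y * g⁻¹) = g * (x * y) * g⁻¹ := by group
      _ = _ := by rw [h]; group
  · intro h1
    rw [mul_inv_eq_one, mul_eq_left, o12_pU] at h1
    exact ha (pU_eq_one S h1).2.1

/-- the centre of `UO` -/
theorem center_UO {z : G} (hz : z ∈ UO S) (hc : ∀ x ∈ UO S, x * z = z * x) : ∃ a b, z = S.o 1 a * S.o 2 b := by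
  obtain ⟨a, b, c, d, rfl⟩ := hz
  have h0 := hc _ (o0_UO S 1)
  have h3 := hc _ (o3_UO S 1)
  rw [o0_pU, pU_mul, pU_mul] at h0
  rw [o3_pU, pU_mul, pU_mul] at h3
  have hd : d = 0 := by
    have := (pU_inj S h0).2.1
    simp only [mul_zero, add_zero, zero_add, map_one, one_mul] at this
    exact (left_eq_add.1 this)
  have ha : a = 0 := by
    have := (pU_inj S h3).2.2.1
    simp only [zero_mul, add_zero, zero_add, map_one, mul_one] at this
    have h5 : c + a = c := this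
    exact (left_eq_add.1 h5.symm)
  subst ha hd
  exact ⟨b, c, (o12_pU S b c).symm⟩

theorem conj_center {g : G} (hg : g ∈ Subgroup.normalizer (UO S : Set G)) (a b : F) :
    ∃ a' b', g * (S.o 1 a * S.o 2 b) * g⁻¹ = S.o 1 a' * S.o 2 b' := by
  have hz : S.o 1 a * S.o 2 b ∈ UO S := mul_mem (o1_UO S a) (o2_UO S b)
  refine center_UO ((Subgroup.mem_normalizer_iff.1 hg _).1 hz) fun x hx => ?_
  have hx' : g⁻¹ * x * g ∈ UO S := by
    have h1 := (Subgroup.mem_normalizer_iff.1 (inv_mem hg) x).1 hx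
    rwa [inv_inv] at h1
  have h2 : (g⁻¹ * x * g) * (S.o 1 a * S.o 2 b) = (S.o 1 a * S.o 2 b) * (g⁻¹ * x * g) := by
    obtain ⟨a', b', c', d', e⟩ := hx'
    rw [← e, o12_pU, pU_mul, pU_mul]
    simp only [map_zero, zero_mul, mul_zero, add_zero, zero_add]
    rw [add_comm b' a, add_comm c' b]
  calc x * (g * (S.o 1 a * S.o 2 b) * g⁻¹) = g * ((g⁻¹ * x * g) * (S.o 1 a * S.o 2 b)) * g⁻¹ := by group
    _ = _ := by rw [h2]; group

theorem o1_eq (a : F) : S.o 1 a = S.o 1 a * S.o 2 0 := by rw [S.o_zero, mul_one]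
theorem o2_eq (a : F) : S.o 2 a = S.o 1 0 * S.o 2 a := by rw [S.o_zero, one_mul]

/-- an element of `N(UO)` maps `X_3 ∪ X_5` to itself -/
theorem conj_o [Finite F] {g : G} (hg : g ∈ Subgroup.normalizer (UO S : Set G)) {j : ZMod 8} (hj : j = 1 ∨ j = 2) (t : F) :
    (∃ t', g * S.o j t * g⁻¹ = S.o 1 t') ∨ ∃ t', g * S.o j t * g⁻¹ = S.o 2 t' := by
  obtain ⟨a, b, e, hab⟩ : ∃ a b, S.o j t = S.o 1 a * S.o 2 b ∧ (a = 0 ∨ b = 0) := by
    rcases hj with rfl | rfl
    · exact ⟨t, 0, o1_eq t, Or.inr rfl⟩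
    · exact ⟨0, t, o2_eq t, Or.inl rfl⟩
  obtain ⟨a', b', h⟩ := conj_center hg a b
  rw [e, h]
  by_cases ha : a' = 0
  · exact Or.inr ⟨b', by rw [ha, S.o_zero, one_mul]⟩
  by_cases hb : b' = 0
  · exact Or.inl ⟨a', by rw [hb, S.o_zero, mul_one]⟩
  exfalso
  obtain ⟨a'', b'', ha'', hb'', h2⟩ := conj_isC (inv_mem hg) ha hb
  rw [← h] at h2
  have e2 : g⁻¹ * (g * (S.o 1 a * S.o 2 b) * g⁻¹) * g⁻¹⁻¹ = S.o 1 a * S.o 2 b := by group
  rw [e2, o12_pU, o12_pU] at h2
  obtain ⟨-, h3, h4, -⟩ := pU_inj S h2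
  rcases hab with h5 | h5
  · exact ha'' (h3.symm.trans h5)
  · exact hb'' (h4.symm.trans h5)

/-! ### the two types -/

variable (S) in
/-- `g X_{2i+1} g⁻¹ ≤ X_{2j+1}` -/
def Pr (g : G) (i j : ZMod 8) : Prop := ∀ t, ∃ t', g * S.o i t * g⁻¹ = S.o j t'

variable (S) in
/-- `g` normalises `X_3` and `X_5` -/
def Ty1 (g : G) : Prop := Pr S g 1 1 ∧ Pr S g 2 2

variable (S) in
/-- `g` interchanges `X_3` and `X_5` -/
def Ty2 (g : G) : Prop := Pr S g 1 2 ∧ Pr S g 2 1

theorem Pr.mul {g h : G} {i j k : ZMod 8} (hg : Pr S g j k) (hh : Pr S h i j) : Pr S (g * h) i k := by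
  intro t
  obtain ⟨t', h1⟩ := hh t
  obtain ⟨t'', h2⟩ := hg t'
  refine ⟨t'', ?_⟩
  rw [← h2, ← h1]; group

theorem Ty2.mul {g h : G} (hg : Ty2 S g) (hh : Ty2 S h) : Ty1 S (g * h) := ⟨hg.2.mul hh.1, hg.1.mul hh.2⟩

theorem dich [Finite F] {g : G} (hg : g ∈ Subgroup.normalizer (UO S : Set G)) {j : ZMod 8} (hj : j = 1 ∨ j = 2) :
    Pr S g j 1 ∨ Pr S g j 2 := by
  by_contra hc
  rw [not_or] at hc
  obtain ⟨h1, h2⟩ := hc
  unfold Pr at h1 h2
  push Not at h1 h2
  obtain ⟨t1, h1⟩ := h1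
  obtain ⟨t2, h2⟩ := h2
  obtain ⟨a, ha⟩ := (conj_o hg hj t1).resolve_left (fun ⟨t', h⟩ => h1 t' h)
  obtain ⟨b, hb⟩ := (conj_o hg hj t2).resolve_right (fun ⟨t', h⟩ => h2 t' h)
  have e : g * S.o j (t2 + t1) * g⁻¹ = S.o 1 b * S.o 2 a := by
    rw [← S.o_add, ← ha, ← hb]; group
  rcases conj_o hg hj (t2 + t1) with ⟨t', h⟩ | ⟨t', h⟩
  · rw [e, o1_eq t', o12_pU, o12_pU] at h
    have h3 := (pU_inj S h).2.2.1
    subst h3
    exact h1 0 (by rw [ha, S.o_zero, S.o_zero])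
  · rw [e, o2_eq t', o12_pU, o12_pU] at h
    have h3 := (pU_inj S h).2.1
    subst h3
    exact h2 0 (by rw [hb, S.o_zero, S.o_zero])

/-- **the two types of elements of `N(UO)`** -/
theorem type [Finite F] {g : G} (hg : g ∈ Subgroup.normalizer (UO S : Set G)) : Ty1 S g ∨ Ty2 S g := by
  have h1 : (1 : F) ≠ 0 := one_ne_zero
  obtain ⟨a, b, ha, hb, h⟩ := conj_isC (S := S) hg h1 h1
  have e : g * (S.o 1 1 * S.o 2 1) * g⁻¹ = (g * S.o 1 1 * g⁻¹) * (g * S.o 2 1 * g⁻¹) := by group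
  rw [e] at h
  rcases dich hg (j := 1) (Or.inl rfl) with h3 | h3 <;> rcases dich hg (j := 2) (Or.inr rfl) with h4 | h4
  · obtain ⟨x, hx⟩ := h3 1
    obtain ⟨y, hy⟩ := h4 1
    rw [hx, hy, S.o_add, o1_eq, o12_pU, o12_pU] at h
    exact (hb (pU_inj S h).2.2.1.symm).elim
  · exact Or.inl ⟨h3, h4⟩
  · exact Or.inr ⟨h3, h4⟩
  · obtain ⟨x, hx⟩ := h3 1
    obtain ⟨y, hy⟩ := h4 1
    rw [hx, hy, S.o_add, o2_eq, o12_pU, o12_pU] at h
    exact (ha (pU_inj S h).2.1.symm).elim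

/-- an element which maps an element of `X_5` into `X_5` normalises `Z_4Z_6` -/
theorem norm_W46 {g : G} {s s' : F} (hs : s ≠ 0) (h : g * S.o 2 s * g⁻¹ = S.o 2 s') {w : G} (hw : w ∈ S.W46) :
    g * w * g⁻¹ ∈ S.W46 := by
  have hs1 : S.o 2 s' ≠ 1 := fun h' => by
    rw [h', mul_inv_eq_one, mul_eq_left] at h
    exact hs (S.o_eq_one h)
  have h1 : g * (1 * S.o 2 s) * g⁻¹ = 1 * S.o 2 s' := by rw [one_mul, one_mul, h]
  obtain ⟨y, hy, t, ht, rfl⟩ := S.parab_of_conj (one_mem _) (S.mX5 s) (one_mem _) (S.mX5 s') hs1 h1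
  have e : y * t * w * (y * t)⁻¹ = y * (t * w * t⁻¹) * y⁻¹ := by group
  rw [e]
  exact S.W46_conj hy (S.T_conj_W46 ht hw)

/-- an element which maps an element of `X_3` into `X_3` normalises `Z_2Z_4` -/
theorem norm_W24 {g : G} {s s' : F} (hs : s ≠ 0) (h : g * S.o 1 s * g⁻¹ = S.o 1 s') {w : G} (hw : S.ck 1 w ∈ S.W46) :
    S.ck 1 (g * w * g⁻¹) ∈ S.W46 := by
  rw [map_mul, map_mul, map_inv]
  refine norm_W46 hs (s' := s') ?_ hw
  have := congrArg (S.ck 1) h
  rw [map_mul, map_mul, map_inv, S.ck_o, S.ck_o] at this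
  exact this

/-- the first type -/
theorem type_one [Finite F] {g : G} (h : Ty1 S g) : ∃ b ∈ J S.XZ 1 8, ∃ t ∈ S.T, g = b * t := by
  obtain ⟨s3, h3⟩ := h.1 1
  obtain ⟨s5, h5⟩ := h.2 1
  have hz : g * S.e 2 0 1 * g⁻¹ ∈ S.W46 := norm_W46 one_ne_zero h5 (S.Z4_W46 1)
  have hz2 : S.ck 1 (g * S.e 2 0 1 * g⁻¹) ∈ S.W46 := norm_W24 one_ne_zero h3 (by
    rw [S.ck_e]; exact S.Z6_W46 1)
  have hgP : g ∈ P S := by
    refine mem_P_of S (z := S.e 2 0 1) ⟨1, rfl⟩ (e201 S).2 ?_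
    obtain ⟨u, v, e⟩ := hz
    rw [← e] at hz2 ⊢
    obtain ⟨u', v', e'⟩ := hz2
    rw [map_mul, S.ck_e, S.ck_e] at e'
    -- `e3(0,u) e4(0,v) = e2(0,u') e3(0,v')`
    have e2 : S.e 2 0 u' * S.e 3 0 v' = S.e 3 0 u * S.e 4 0 v := e'
    have h4 : S.e 4 0 v = 1 := S.zsys8.inter' (k := 8) (S.mX8 0 v) (by
      have : S.e 4 0 v = (S.e 3 0 u)⁻¹ * (S.e 2 0 u' * S.e 3 0 v') := by rw [e2]; group
      rw [this]
      exact mul_mem (inv_mem (mem_J (S.mX6 0 u) (by norm_num) (by norm_num)))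
        (mul_mem (mem_J (S.mX4 0 u') (by norm_num) (by norm_num)) (mem_J (S.mX6 0 v') (by norm_num) (by norm_num))))
    have hv := (S.e_eq_one h4).2
    rw [hv, S.e_zero, mul_one]
    exact ⟨u, rfl⟩
  rcases form_P S hgP with h1 | ⟨b, hb, t, ht, x, hx, rfl⟩
  · exact h1
  exfalso
  -- `n2` normalises `W46`
  have hW : ∀ w ∈ S.W46, b * (t * S.n2) * x * w * (b * (t * S.n2) * x)⁻¹ ∈ S.W46 := fun w hw =>
    norm_W46 one_ne_zero h5 hw
  have h1 := hW _ (S.W46_conj (inv_mem (mem_J hx (by norm_num) (by norm_num) : x ∈ J S.XZ 1 9)) (S.Z6_W46 1))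
  have e1 : b * (t * S.n2) * x * (x⁻¹ * S.e 3 0 1 * x⁻¹⁻¹) * (b * (t * S.n2) * x)⁻¹ =
      b * (t * (S.n2 * S.e 3 0 1 * S.n2⁻¹) * t⁻¹) * b⁻¹ := by group
  rw [e1, S.n2_e] at h1
  have hb9 : b⁻¹ ∈ J S.XZ 1 9 := inv_mem (J_mono le_rfl (by norm_num) hb)
  have h2 := S.T_conj_W46 (inv_mem ht) (S.W46_conj hb9 h1)
  have e3 : t⁻¹ * (b⁻¹ * (b * (t * S.e (4 - 3) 0 1 * t⁻¹) * b⁻¹) * b⁻¹⁻¹) * t⁻¹⁻¹ = S.e (4 - 3) 0 1 := by group
  rw [e3] at h2
  have h3 : S.e 1 0 1 = 1 := S.zsys8.inter 2 _ (S.mX2 0 1) (J_mono (by norm_num) (by norm_num) (S.W46_le h2))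
  exact one_ne_zero (S.e_eq_one h3).2

/-- `N(Z_4)` normalises `J 1 7` -/
theorem P_norm [Finite F] {g x : G} (hg : g ∈ P S) (hx : x ∈ J S.XZ 1 7) : g * x * g⁻¹ ∈ J S.XZ 1 7 := by
  obtain ⟨hz, hz1⟩ := e201 S
  have hg' : g * S.e 2 0 1 * g⁻¹ ∈ S.Zc 2 := (Subgroup.mem_normalizer_iff.1 hg _).1 hz
  obtain ⟨y, hy, t, ht, rfl⟩ := S.mem_of_conj hz hz1 hg'
  have e : y * t * x * (y * t)⁻¹ = y * (t * x * t⁻¹) * y⁻¹ := by group
  rw [e]
  exact Q_norm S hy (S.T_conj_J ht hx)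

end Cfsg.Agent.H136.TwF
end
end

-- part: H136/TwF/Over_mg
section
prune_inst 0x15020440b8000000018051470201c1292000402004b0000e1a3068206c068e029030e61a920151350302801000500681300000000400000040004000005050100800400a0480008020086000000000000000000000000000000000000000000200000000
set_option linter.all false
open scoped Cfsg.Agent.FastGrp

-- part: H136/TwF/Over
section
/-!
# Overgroups of `M = ⟨X_odd⟩ ≅ Sp₄(q)` in `²F₄(q)`, `q ≥ 8` (helper136, task 629)

`Ov S K` : `M ≤ K ≠ ⊤`.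
-/

set_option autoImplicit false
set_option linter.unusedSectionVars false

namespace Cfsg.Agent.H136.TwF

open Cfsg.Agent.KFacts.TwF4 Cfsg.Agent.KFacts.TwF4.Full Cfsg.Agent.KFacts.TwF4.Arc
open Cfsg.Agent.KFacts.TwF4.Inv Cfsg.Agent.KFacts.TwF4.SylU Cfsg.Agent.KFacts.TwF4.Perf
open Cfsg.Agent.SplitTwo Cfsg.Agent.SplitTwo.ZS Cfsg.Agent.TitsThree.RankTwoZ Cfsg.Agent.TitsThree.RankTwoRGD
open Cfsg.Agent.SplitTwo.RootSysZ
open Cfsg.Agent.H392.TwFFour
open scoped commutatorElement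

universe u

/-- an element of finite order normalises `V` when it maps `V` into itself -/
theorem norm_of_le {G : Type*} [Group G] [Finite G] {V : Subgroup G} {g : G} (h : ∀ x ∈ V, g * x * g⁻¹ ∈ V) :
    g ∈ Subgroup.normalizer (V : Set G) := by
  have h1 : V.map (MulAut.conj g).toMonoidHom ≤ V := by
    rintro _ ⟨x, hx, rfl⟩
    exact h x hx
  have h2 : V.map (MulAut.conj g).toMonoidHom = V :=
    Subgroup.eq_of_le_of_card_ge h1 (by rw [Subgroup.card_map_of_injective (MulAut.conj g).injective])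
  rw [Subgroup.mem_normalizer_iff]
  intro x
  refine ⟨h x, fun hx => ?_⟩
  rw [← h2] at hx
  obtain ⟨y, hy, e⟩ := hx
  have e' : g * y * g⁻¹ = g * x * g⁻¹ := e
  have : y = x := by
    have := mul_left_cancel (mul_right_cancel e')
    exact this
  rw [← this]; exact hy

variable {F : Type*} [Field F] {σ : F →+* F} {G : Type u} [Group G] {S : Full σ G}

variable (S) in
/-- proper overgroups of `M` -/
structure Ov (K : Subgroup G) : Prop where
  le : MM S ≤ K
  ne : K ≠ ⊤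

theorem MM_le_of_six {K : Subgroup G} (a0 : ∀ t, S.o 0 t ∈ K) (a1 : ∀ t, S.o 1 t ∈ K) (a2 : ∀ t, S.o 2 t ∈ K)
    (a3 : ∀ t, S.o 3 t ∈ K) (a4 : ∀ t, S.o 4 t ∈ K) (a7 : ∀ t, S.o 7 t ∈ K) : MM S ≤ K := by
  have h1 : S.n1 ∈ K := by
    rw [S.n1_word]
    exact mul_mem (mul_mem (a0 1) (a4 1)) (a0 1)
  have hJ : mJ S ∈ K := by
    rw [mJ_word]
    exact mul_mem (mul_mem (a7 1) (a3 1)) (a7 1)
  have a5 : ∀ t, S.o 5 t ∈ K := fun t => by
    have := S.n1_o 7 t
    rw [show (4 : ZMod 8) - 7 = 5 by decide] at this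
    rw [← this]
    exact mul_mem (mul_mem h1 (a7 t)) (inv_mem h1)
  have a6 : ∀ t, S.o 6 t ∈ K := fun t => by
    have := mJ_o S 4 t
    rw [show (2 : ZMod 8) - 4 = 6 by decide] at this
    rw [← this]
    exact mul_mem (mul_mem hJ (a4 t)) (inv_mem hJ)
  refine MM_le fun a t => ?_
  fin_cases a
  · exact a0 t
  · exact a1 t
  · exact a2 t
  · exact a3 t
  · exact a4 t
  · exact a5 t
  · exact a6 t
  · exact a7 t

section

variable [Finite F] [Finite G] {K : Subgroup G}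

theorem Ov.T_conj (hK : Ov S K) : ∀ t ∈ S.T, ∀ x ∈ K, t * x * t⁻¹ ∈ K := fun t ht x hx => by
  have h := hK.le (T_le_MM S ht)
  exact mul_mem (mul_mem h hx) (inv_mem h)

/-- `K ∩ X_even = 1` -/
theorem Ov.e_one (hK : Ov S K) (hF : ∃ c : Fˣ, c ≠ 1) {a : ZMod 8} {p u : F} (h : S.e a p u ∈ K) : S.e a p u = 1 := by
  by_contra h1
  have hz : ∀ v, S.e a 0 v ∈ K := z_mem_of_e S hK.T_conj h1 h
  have p5 : ∀ b, (∀ v, S.e b 0 v ∈ K) → ∀ v, S.e (5 - b) 0 v ∈ K := fun b hb v => by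
    rw [← S.n1_e]
    exact mul_mem (mul_mem (hK.le (n1_mem_MM S)) (hb v)) (inv_mem (hK.le (n1_mem_MM S)))
  have p3 : ∀ b, (∀ v, S.e b 0 v ∈ K) → ∀ v, S.e (3 - b) 0 v ∈ K := fun b hb v => by
    rw [← mJ_e]
    exact mul_mem (mul_mem (hK.le (mJ_mem_MM S)) (hb v)) (inv_mem (hK.le (mJ_mem_MM S)))
  have p2 : ∀ b, (∀ v, S.e b 0 v ∈ K) → ∀ v, S.e (b + 2) 0 v ∈ K := fun b hb v => by
    have := p5 _ (p3 b hb) v
    rwa [show (5 : ZMod 8) - (3 - b) = b + 2 by ring] at this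
  have all : ∀ a b : ZMod 8, b = a ∨ b = a + 2 ∨ b = a + 2 + 2 ∨ b = a + 2 + 2 + 2 ∨ b = 5 - a ∨ b = 5 - a + 2 ∨
      b = 5 - a + 2 + 2 ∨ b = 5 - a + 2 + 2 + 2 := by decide
  refine hK.ne (Cfsg.Agent.H99.CL2F4.eq_top_of_ZO S hF (fun a t => hK.le (o_mem_MM S a t)) fun b u => ?_)
  rcases all a b with rfl | rfl | rfl | rfl | rfl | rfl | rfl | rfl
  · exact hz u
  · exact p2 _ hz u
  · exact p2 _ (p2 _ hz) u
  · exact p2 _ (p2 _ (p2 _ hz)) u
  · exact p5 _ hz u
  · exact p2 _ (p5 _ hz) u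
  · exact p2 _ (p2 _ (p5 _ hz)) u
  · exact p2 _ (p2 _ (p2 _ (p5 _ hz))) u

/-- `K ∩ J 1 8 = UO` -/
theorem Ov.inf (hK : Ov S K) (hF : ∃ c : Fˣ, c ≠ 1) (hR : S.R.p = 2) {x : G} (hx : x ∈ K) (hJ : x ∈ J S.XZ 1 8) :
    x ∈ UO S := by
  have Z8 := S.zsys8
  have odd : ∀ (a : ℤ) (x y : G), x ∈ S.XZ (2 * a + 1) → x * y ∈ K → y ∈ K := fun a x y h1 h2 => by
    have h3 := mul_mem (inv_mem (hK.le (XZ_le_MM S a h1))) h2
    rwa [inv_mul_cancel_left] at h3
  have even : ∀ (a : ℤ) (x y : G), 1 ≤ 2 * a → x ∈ S.XZ (2 * a) → y ∈ J S.XZ (2 * a + 1) 8 → x * y ∈ K → x = 1 := by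
    intro a x y ha h1 h2 h3
    have h4 := peel S hF hR hK.T_conj (by omega) h1 h2 h3
    obtain ⟨p, u, rfl⟩ := (S.mem_XZ_even a x).1 h1
    exact hK.e_one hF h4
  obtain ⟨x1, h1, y1, hy1, rfl⟩ := Z8.split_ll (by norm_num) (by norm_num) hJ
  have k1 := odd 0 x1 y1 h1 hx
  obtain ⟨x2, h2, y2, hy2, rfl⟩ := Z8.split_ll (by norm_num) (by norm_num) hy1
  obtain rfl := even 1 x2 y2 (by norm_num) h2 hy2 k1
  rw [one_mul] at k1
  obtain ⟨x3, h3, y3, hy3, rfl⟩ := Z8.split_ll (by norm_num) (by norm_num) hy2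
  have k3 := odd 1 x3 y3 h3 k1
  obtain ⟨x4, h4, y4, hy4, rfl⟩ := Z8.split_ll (by norm_num) (by norm_num) hy3
  obtain rfl := even 2 x4 y4 (by norm_num) h4 hy4 k3
  rw [one_mul] at k3
  obtain ⟨x5, h5, y5, hy5, rfl⟩ := Z8.split_ll (by norm_num) (by norm_num) hy4
  have k5 := odd 2 x5 y5 h5 k3
  obtain ⟨x6, h6, y6, hy6, rfl⟩ := Z8.split_ll (by norm_num) (by norm_num) hy5
  obtain rfl := even 3 x6 y6 (by norm_num) h6 hy6 k5
  rw [one_mul] at k5
  obtain ⟨x7, h7, y7, hy7, rfl⟩ := Z8.split_ll (by norm_num) (by norm_num) hy6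
  have k7 := odd 3 x7 y7 h7 k5
  obtain ⟨x8, h8, y8, hy8, rfl⟩ := Z8.split_ll (by norm_num) (by norm_num) hy7
  obtain rfl := even 4 x8 y8 (by norm_num) h8 hy8 k7
  have h9 : y8 = 1 := eq_one_of_J hy8 (by norm_num)
  subst h9
  rw [one_mul, one_mul, one_mul, one_mul, mul_one]
  exact mul_mem (X_le_UO S (Or.inl rfl) h1) (mul_mem (X_le_UO S (Or.inr (Or.inl rfl)) h3)
    (mul_mem (X_le_UO S (Or.inr (Or.inr (Or.inl rfl))) h5) (X_le_UO S (Or.inr (Or.inr (Or.inr rfl))) h7)))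

/-- `K ∩ N(Z_4) ≤ N(UO)` -/
theorem Ov.norm_of_P (hK : Ov S K) (hF : ∃ c : Fˣ, c ≠ 1) (hR : S.R.p = 2) {g : G} (hg : g ∈ K) (hP : g ∈ P S) :
    g ∈ Subgroup.normalizer (UO S : Set G) :=
  norm_of_le fun x hx => hK.inf hF hR (mul_mem (mul_mem hg (hK.le (UO_le_MM S hx))) (inv_mem hg))
    (J_mono le_rfl (by norm_num) (P_norm hP (UO_le_J S hx)))

theorem Ov.ty1 (hK : Ov S K) (hF : ∃ c : Fˣ, c ≠ 1) (hR : S.R.p = 2) {g : G} (hg : g ∈ K) (h : Ty1 S g) : g ∈ MM S := by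
  obtain ⟨b, hb, t, ht, rfl⟩ := type_one h
  have hb' : b ∈ K := by
    have := mul_mem hg (inv_mem (hK.le (T_le_MM S ht)))
    rwa [mul_inv_cancel_right] at this
  exact mul_mem (UO_le_MM S (hK.inf hF hR hb' hb)) (T_le_MM S ht)

theorem Ov.cent_o2 (hK : Ov S K) (hF : ∃ c : Fˣ, c ≠ 1) (hR : S.R.p = 2) {g : G} (hg : g ∈ K) {s : F} (hs : s ≠ 0)
    (h : g * S.o 2 s = S.o 2 s * g) : g ∈ MM S := by
  have h1 : g ∈ S.HO := by
    rw [← S.centralizer_o hs, Subgroup.mem_centralizer_singleton_iff]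
    exact h
  obtain ⟨l, hl, q, hq, rfl⟩ := S.J19_split (HO_le_J S h1)
  have hl' : l ∈ MM S := (sup_le (X1_le S) (X9_le S) : S.LO ≤ MM S) hl
  have hq' : q ∈ K := by
    have := mul_mem (inv_mem (hK.le hl')) hg
    rwa [inv_mul_cancel_left] at this
  exact mul_mem hl' (UO_le_MM S (hK.inf hF hR hq' (J_mono (by norm_num) le_rfl hq)))

theorem ck_MM (k : ℤ) {x : G} : S.ck k x ∈ MM S ↔ x ∈ MM S := by
  have h1 : ∀ (k : ℤ) {x : G}, x ∈ MM S → S.ck k x ∈ MM S := fun k x hx =>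
    MM_conj (S := S) (g := S.rot ^ k) (fun a t => S.rotk_o k a t) hx
  refine ⟨fun h => ?_, h1 k⟩
  have h2 := h1 (-k) h
  rwa [ck_ck, neg_add_cancel, ck_zero] at h2

theorem Ov.map (hK : Ov S K) (k : ℤ) : Ov S (K.map (S.ck k).toMonoidHom) where
  le := fun x hx => ⟨S.ck (-k) x, hK.le ((ck_MM (-k)).2 hx), by
    show S.ck k (S.ck (-k) x) = x
    rw [ck_ck, add_neg_cancel, ck_zero]⟩
  ne := fun h => hK.ne (by
    rw [eq_top_iff]
    intro x _
    have h1 : S.ck k x ∈ K.map (S.ck k).toMonoidHom := by rw [h]; trivial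
    obtain ⟨y, hy, e⟩ := h1
    have : y = x := (S.ck k).injective e
    rw [← this]; exact hy)

theorem Ov.cent_o1 (hK : Ov S K) (hF : ∃ c : Fˣ, c ≠ 1) (hR : S.R.p = 2) {g : G} (hg : g ∈ K) {s : F} (hs : s ≠ 0)
    (h : g * S.o 1 s = S.o 1 s * g) : g ∈ MM S := by
  rw [← ck_MM 1]
  refine (hK.map 1).cent_o2 hF hR ⟨g, hg, rfl⟩ hs ?_
  have := congrArg (S.ck 1) h
  rw [map_mul, map_mul, S.ck_o] at this
  exact this

theorem Ov.cent_o (hK : Ov S K) (hF : ∃ c : Fˣ, c ≠ 1) (hR : S.R.p = 2) {g : G} (hg : g ∈ K) {j : ZMod 8}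
    (hj : j = 1 ∨ j = 2) {s : F} (hs : s ≠ 0) (h : g * S.o j s = S.o j s * g) : g ∈ MM S := by
  rcases hj with rfl | rfl
  · exact hK.cent_o1 hF hR hg hs h
  · exact hK.cent_o2 hF hR hg hs h

/-- `K ∩ N(UO) ≤ N(M)` -/
theorem Ov.norm_MM (hK : Ov S K) (hF : ∃ c : Fˣ, c ≠ 1) (hR : S.R.p = 2) {g : G} (hg : g ∈ K)
    (hN : g ∈ Subgroup.normalizer (UO S : Set G)) : g ∈ Subgroup.normalizer (MM S : Set G) := by
  have key : ∀ (j : ZMod 8) (x : G), j = 1 ∨ j = 2 → x ∈ MM S → x * S.o j 1 = S.o j 1 * x → g * x * g⁻¹ ∈ MM S := by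
    intro j x hj hx hc
    have hxK : g * x * g⁻¹ ∈ K := mul_mem (mul_mem hg (hK.le hx)) (inv_mem hg)
    have hc' : (g * x * g⁻¹) * (g * S.o j 1 * g⁻¹) = (g * S.o j 1 * g⁻¹) * (g * x * g⁻¹) := by
      calc (g * x * g⁻¹) * (g * S.o j 1 * g⁻¹) = g * (x * S.o j 1) * g⁻¹ := by group
        _ = _ := by rw [hc]; group
    have h1 : g * S.o j 1 * g⁻¹ ≠ 1 := fun h => by
      rw [mul_inv_eq_one, mul_eq_left] at h
      exact one_ne_zero (S.o_eq_one h)
    rcases conj_o hN hj 1 with ⟨t', h⟩ | ⟨t', h⟩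
    · rw [h] at hc' h1
      refine hK.cent_o1 hF hR hxK ?_ hc'
      rintro rfl
      exact h1 (S.o_zero 1)
    · rw [h] at hc' h1
      refine hK.cent_o2 hF hR hxK ?_ hc'
      rintro rfl
      exact h1 (S.o_zero 2)
  refine norm_of_le fun x hx => ?_
  have h6 : MM S ≤ (MM S).comap (MulAut.conj g).toMonoidHom := by
    refine MM_le_of_six (fun t => ?_) (fun t => ?_) (fun t => ?_) (fun t => ?_) (fun t => ?_) (fun t => ?_)
    · exact key 2 _ (Or.inr rfl) (o_mem_MM S 0 t) (S.o_o2 0 t 1)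
    · exact key 2 _ (Or.inr rfl) (o_mem_MM S 1 t) (S.o_o1 1 t 1)
    · exact key 1 _ (Or.inl rfl) (o_mem_MM S 2 t) (S.o_o1 1 1 t).symm
    · exact key 1 _ (Or.inl rfl) (o_mem_MM S 3 t) (S.o_o2 1 1 t).symm
    · exact key 2 _ (Or.inr rfl) (o_mem_MM S 4 t) (S.o_o2 2 1 t).symm
    · exact key 1 _ (Or.inl rfl) (o_mem_MM S 7 t) (S.o_o2 7 t 1)
  exact h6 hx

end

/-! ### the two kinds of involutions of `M` -/

variable (S) in
/-- non-trivial elements of `X_3 ∪ X_5` -/
def Sg (z : G) : Prop := ∃ (j : ZMod 8) (s : F), (j = 1 ∨ j = 2) ∧ s ≠ 0 ∧ z = S.o j s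

variable (S) in
/-- elements of `X_3X_5` which are in neither -/
def Db (z : G) : Prop := ∃ a b : F, a ≠ 0 ∧ b ≠ 0 ∧ z = S.o 1 a * S.o 2 b

theorem Sg.sq {z : G} (h : Sg S z) : z * z = 1 := by
  obtain ⟨j, s, -, -, rfl⟩ := h
  exact o_sq S _ _

theorem Sg.ne {z : G} (h : Sg S z) : z ≠ 1 := by
  obtain ⟨j, s, -, hs, rfl⟩ := h
  exact fun h => hs (S.o_eq_one h)

theorem Sg.mem {z : G} (h : Sg S z) : z ∈ UO S := by
  obtain ⟨j, s, rfl | rfl, hs, rfl⟩ := h
  · exact o1_UO S s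
  · exact o2_UO S s

theorem Db.mem {z : G} (h : Db S z) : z ∈ UO S := by
  obtain ⟨a, b, -, -, rfl⟩ := h
  exact mul_mem (o1_UO S a) (o2_UO S b)

theorem comm_center {x : G} (hx : x ∈ UO S) (a b : F) : x * (S.o 1 a * S.o 2 b) = (S.o 1 a * S.o 2 b) * x := by
  obtain ⟨a', b', c', d', e⟩ := hx
  rw [← e, o12_pU, pU_mul, pU_mul]
  simp only [map_zero, zero_mul, mul_zero, add_zero, zero_add]
  rw [add_comm b' a, add_comm c' b]

theorem Sg.form {z : G} (h : Sg S z) : ∃ a b : F, (a = 0 ∨ b = 0) ∧ z = S.o 1 a * S.o 2 b := by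
  obtain ⟨j, s, rfl | rfl, hs, rfl⟩ := h
  · exact ⟨s, 0, Or.inr rfl, o1_eq s⟩
  · exact ⟨0, s, Or.inl rfl, o2_eq s⟩

theorem Sg.comm {z : G} (h : Sg S z) {x : G} (hx : x ∈ UO S) : x * z = z * x := by
  obtain ⟨a, b, -, rfl⟩ := h.form
  exact comm_center hx a b

theorem Db.comm {z : G} (h : Db S z) {x : G} (hx : x ∈ UO S) : x * z = z * x := by
  obtain ⟨a, b, -, -, rfl⟩ := h
  exact comm_center hx a b

theorem Sg.not_Db {z : G} (h : Sg S z) (h' : Db S z) : False := by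
  obtain ⟨a, b, h1, rfl⟩ := h.form
  obtain ⟨a', b', ha, hb, h2⟩ := h'
  rw [o12_pU, o12_pU] at h2
  obtain ⟨-, h3, h4, -⟩ := pU_inj S h2
  rcases h1 with rfl | rfl
  · exact ha h3.symm
  · exact hb h4.symm

theorem sg_or_db {a b : F} (h : S.o 1 a * S.o 2 b ≠ 1) : Sg S (S.o 1 a * S.o 2 b) ∨ Db S (S.o 1 a * S.o 2 b) := by
  by_cases ha : a = 0
  · subst ha
    left
    refine ⟨2, b, Or.inr rfl, ?_, (o2_eq b).symm⟩
    rintro rfl
    exact h (by rw [S.o_zero, S.o_zero, one_mul])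
  by_cases hb : b = 0
  · subst hb
    exact Or.inl ⟨1, a, Or.inl rfl, ha, (o1_eq a).symm⟩
  exact Or.inr ⟨a, b, ha, hb, rfl⟩

theorem conj_ne_one {G : Type*} [Group G] {m z : G} (h : z ≠ 1) : m * z * m⁻¹ ≠ 1 := fun h' => by
  rw [mul_inv_eq_one, mul_eq_left] at h'
  exact h h'

/-- **(E)** the involutions of `M` -/
theorem inv_class [Finite F] [Finite G] (hF : ∃ c : Fˣ, c ≠ 1) (hR : S.R.p = 2) {z : G} (hz : z ∈ MM S)
    (hz2 : z * z = 1) (hz1 : z ≠ 1) : ∃ m ∈ MM S, Sg S (m * z * m⁻¹) ∨ Db S (m * z * m⁻¹) := by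
  have h2 : IsPGroup 2 (Subgroup.zpowers z) := by
    rintro ⟨x, hx⟩
    obtain ⟨n, rfl⟩ := Subgroup.mem_zpowers_iff.1 hx
    refine ⟨1, Subtype.ext ?_⟩
    show (z ^ n) ^ (2 ^ 1) = 1
    rw [pow_one, pow_two, ← zpow_add, ← two_mul, zpow_mul, zpow_two, hz2, one_zpow]
  obtain ⟨m, hm, hU⟩ := conj_UO S hF hR le_rfl (UO_le_MM S) h2 (Subgroup.zpowers_le.2 hz)
  have hU' := hU z (Subgroup.mem_zpowers z)
  have key : ∀ n ∈ MM S, (∃ a b, n * (m * z * m⁻¹) * n⁻¹ = S.o 1 a * S.o 2 b) →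
      ∃ m ∈ MM S, Sg S (m * z * m⁻¹) ∨ Db S (m * z * m⁻¹) := by
    rintro n hn ⟨a, b, h⟩
    refine ⟨n * m, mul_mem hn hm, ?_⟩
    have e : n * m * z * (n * m)⁻¹ = n * (m * z * m⁻¹) * n⁻¹ := by group
    rw [e, h]
    refine sg_or_db ?_
    rw [← h]
    exact conj_ne_one (conj_ne_one hz1)
  obtain ⟨a, b, c, d, e⟩ := hU'
  have hsq : pU S a b c d * pU S a b c d = 1 := by
    rw [e]
    calc m * z * m⁻¹ * (m * z * m⁻¹) = m * (z * z) * m⁻¹ := by group
      _ = 1 := by rw [hz2]; group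
  have had : a = 0 ∨ d = 0 := by
    rw [pU_mul] at hsq
    have := (pU_eq_one S hsq).2.1
    rw [char2 S, zero_add] at this
    rcases mul_eq_zero.1 this with h | h
    · exact Or.inl ((map_eq_zero σ).1 h)
    · exact Or.inr h
  by_cases ha : a = 0
  · by_cases hd : d = 0
    · subst ha hd
      exact key 1 (one_mem _) ⟨b, c, by rw [← e, o12_pU]; group⟩
    · subst ha
      -- kill `b`
      obtain ⟨s, hs⟩ := σ_surj σ (b * d⁻¹)
      have hn : S.n1 * S.o 0 s ∈ MM S := mul_mem (n1_mem_MM S) (o_mem_MM S 0 s)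
      refine key _ hn ⟨d, c + s * σ d, ?_⟩
      have e1 : S.o 0 s * pU S 0 b c d * (S.o 0 s)⁻¹ = S.o 2 (c + s * σ d) * S.o 3 d := by
        rw [o_inv S, o0_pU, pU_mul, pU_mul, o2_pU, o3_pU, pU_mul]
        simp only [map_zero, mul_zero, add_zero, zero_add]
        rw [char2 S, hs, inv_mul_cancel_right₀ hd, char2 S]
      rw [← e]
      have e2 : S.n1 * S.o 0 s * pU S 0 b c d * (S.n1 * S.o 0 s)⁻¹ =
          S.n1 * (S.o 0 s * pU S 0 b c d * (S.o 0 s)⁻¹) * S.n1⁻¹ := by group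
      have e3 : S.n1 * (S.o 2 (c + s * σ d) * S.o 3 d) * S.n1⁻¹ =
          (S.n1 * S.o 2 (c + s * σ d) * S.n1⁻¹) * (S.n1 * S.o 3 d * S.n1⁻¹) := by group
      rw [e2, e1, e3, S.n1_o, S.n1_o]
      exact (S.o_o1 1 d _).symm
  · have hd := had.resolve_left ha
    subst hd
    obtain ⟨s, hs⟩ := σ_surj σ (c * a⁻¹)
    have hn : mJ S * S.o 3 s ∈ MM S := mul_mem (mJ_mem_MM S) (o_mem_MM S 3 s)
    refine key _ hn ⟨b + σ a * s, a, ?_⟩
    have e1 : S.o 3 s * pU S a b c 0 * (S.o 3 s)⁻¹ = S.o 0 a * S.o 1 (b + σ a * s) := by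
      rw [o_inv S, o3_pU, pU_mul, pU_mul, o0_pU, o1_pU, pU_mul]
      simp only [map_zero, zero_mul, mul_zero, add_zero, zero_add]
      rw [char2 S, hs]
      have : c + a * (c * a⁻¹) = 0 := by
        rw [mul_comm c, mul_inv_cancel_left₀ ha, char2 S]
      rw [this]
    rw [← e]
    have e2 : mJ S * S.o 3 s * pU S a b c 0 * (mJ S * S.o 3 s)⁻¹ =
        mJ S * (S.o 3 s * pU S a b c 0 * (S.o 3 s)⁻¹) * (mJ S)⁻¹ := by group
    have e3 : mJ S * (S.o 0 a * S.o 1 (b + σ a * s)) * (mJ S)⁻¹ =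
        (mJ S * S.o 0 a * (mJ S)⁻¹) * (mJ S * S.o 1 (b + σ a * s) * (mJ S)⁻¹) := by group
    rw [e2, e1, e3, mJ_o, mJ_o]
    exact (S.o_o1 1 _ _).symm

section

variable [Finite F] [Finite G] {K : Subgroup G}

/-- **(A)** -/
theorem Ov.cent_Sg (hK : Ov S K) (hF : ∃ c : Fˣ, c ≠ 1) (hR : S.R.p = 2) {g z : G} (hg : g ∈ K) (hz : Sg S z)
    (h : g * z = z * g) : g ∈ MM S := by
  obtain ⟨j, s, hj, hs, rfl⟩ := hz
  exact hK.cent_o hF hR hg hj hs h

/-- **(K)** the two kinds are not fused in `K` -/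
theorem Ov.not_fused (hK : Ov S K) (hF : ∃ c : Fˣ, c ≠ 1) (hR : S.R.p = 2) {g z w : G} (hg : g ∈ K) (hz : Sg S z)
    (hw : Db S w) : g * w * g⁻¹ ≠ z := by
  intro h
  have hM₀ : K ⊓ Subgroup.centralizer {z} ≤ MM S := fun x hx =>
    hK.cent_Sg hF hR hx.1 hz (Subgroup.mem_centralizer_singleton_iff.1 hx.2)
  have hU₀ : UO S ≤ K ⊓ Subgroup.centralizer {z} := fun x hx =>
    ⟨hK.le (UO_le_MM S hx), Subgroup.mem_centralizer_singleton_iff.2 (hz.comm hx)⟩
  have hQ : IsPGroup 2 ((UO S).map (MulAut.conj g).toMonoidHom) := (UO_two S hR).map _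
  have hQM : (UO S).map (MulAut.conj g).toMonoidHom ≤ K ⊓ Subgroup.centralizer {z} := by
    rintro _ ⟨x, hx, rfl⟩
    refine Subgroup.mem_inf.2 ⟨mul_mem (mul_mem hg (hK.le (UO_le_MM S hx))) (inv_mem hg),
      Subgroup.mem_centralizer_singleton_iff.2 ?_⟩
    show g * x * g⁻¹ * z = z * (g * x * g⁻¹)
    rw [← h]
    calc g * x * g⁻¹ * (g * w * g⁻¹) = g * (x * w) * g⁻¹ := by group
      _ = _ := by rw [hw.comm hx]; group
  obtain ⟨m, hm, hU⟩ := conj_UO S hF hR hM₀ hU₀ hQ hQM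
  have hn : m * g ∈ Subgroup.normalizer (UO S : Set G) := norm_of_le fun x hx => by
    have := hU (g * x * g⁻¹) ⟨x, hx, rfl⟩
    have e : m * (g * x * g⁻¹) * m⁻¹ = m * g * x * (m * g)⁻¹ := by group
    rwa [e] at this
  obtain ⟨a, b, ha, hb, rfl⟩ := hw
  obtain ⟨a', b', ha', hb', h1⟩ := conj_isC hn ha hb
  have hmz := Subgroup.mem_centralizer_singleton_iff.1 hm.2
  have h2 : m * g * (S.o 1 a * S.o 2 b) * (m * g)⁻¹ = z := by
    calc m * g * (S.o 1 a * S.o 2 b) * (m * g)⁻¹ = m * (g * (S.o 1 a * S.o 2 b) * g⁻¹) * m⁻¹ := by group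
      _ = z := by rw [h, hmz, mul_inv_cancel_right]
  rw [h2] at h1
  exact hz.not_Db ⟨a', b', ha', hb', h1⟩

theorem MM_le_norm : MM S ≤ Subgroup.normalizer (MM S : Set G) := Subgroup.le_normalizer

/-- **(C)** for elements of the first kind -/
theorem Ov.mem_norm_Sg (hK : Ov S K) (hF : ∃ c : Fˣ, c ≠ 1) (hR : S.R.p = 2) {g z : G} (hg : g ∈ K) (hz : Sg S z)
    (h : g * z * g⁻¹ ∈ MM S) : g ∈ Subgroup.normalizer (MM S : Set G) := by
  obtain ⟨m, hm, hc⟩ := inv_class hF hR h (by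
    calc g * z * g⁻¹ * (g * z * g⁻¹) = g * (z * z) * g⁻¹ := by group
      _ = 1 := by rw [hz.sq]; group) (conj_ne_one hz.ne)
  have e : m * (g * z * g⁻¹) * m⁻¹ = (m * g) * z * (m * g)⁻¹ := by group
  rw [e] at hc
  have hmg : m * g ∈ K := mul_mem (hK.le hm) hg
  rcases hc with hc | hc
  · have hQ : IsPGroup 2 ((UO S).map (MulAut.conj (m * g)).toMonoidHom) := (UO_two S hR).map _
    have hQM : (UO S).map (MulAut.conj (m * g)).toMonoidHom ≤ MM S := by
      rintro _ ⟨x, hx, rfl⟩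
      refine hK.cent_Sg hF hR (mul_mem (mul_mem hmg (hK.le (UO_le_MM S hx))) (inv_mem hmg)) hc ?_
      show (m * g) * x * (m * g)⁻¹ * ((m * g) * z * (m * g)⁻¹) = (m * g) * z * (m * g)⁻¹ * ((m * g) * x * (m * g)⁻¹)
      calc (m * g) * x * (m * g)⁻¹ * ((m * g) * z * (m * g)⁻¹) = (m * g) * (x * z) * (m * g)⁻¹ := by group
        _ = _ := by rw [hz.comm hx]; group
    obtain ⟨m', hm', hU⟩ := conj_UO S hF hR le_rfl (UO_le_MM S) hQ hQM
    have hn : m' * (m * g) ∈ Subgroup.normalizer (UO S : Set G) := norm_of_le fun x hx => by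
      have := hU ((m * g) * x * (m * g)⁻¹) ⟨x, hx, rfl⟩
      have e : m' * ((m * g) * x * (m * g)⁻¹) * m'⁻¹ = m' * (m * g) * x * (m' * (m * g))⁻¹ := by group
      rwa [e] at this
    have h1 := hK.norm_MM hF hR (mul_mem (hK.le hm') hmg) hn
    have h2 := mul_mem (inv_mem (mul_mem (MM_le_norm hm') (MM_le_norm hm))) h1
    have e2 : (m' * m)⁻¹ * (m' * (m * g)) = g := by group
    rwa [e2] at h2
  · exfalso
    refine hK.not_fused hF hR (inv_mem hmg) hz hc ?_
    group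

/-- Frattini -/
theorem frattini (hF : ∃ c : Fˣ, c ≠ 1) (hR : S.R.p = 2) {g : G} (hN : g ∈ Subgroup.normalizer (MM S : Set G)) :
    ∃ m ∈ MM S, m * g ∈ Subgroup.normalizer (UO S : Set G) := by
  have hQ : IsPGroup 2 ((UO S).map (MulAut.conj g).toMonoidHom) := (UO_two S hR).map _
  have hQM : (UO S).map (MulAut.conj g).toMonoidHom ≤ MM S := by
    rintro _ ⟨x, hx, rfl⟩
    exact (Subgroup.mem_normalizer_iff.1 hN x).1 (UO_le_MM S hx)
  obtain ⟨m', hm', hU⟩ := conj_UO S hF hR le_rfl (UO_le_MM S) hQ hQM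
  refine ⟨m', hm', norm_of_le fun x hx => ?_⟩
  have := hU (g * x * g⁻¹) ⟨x, hx, rfl⟩
  have e : m' * (g * x * g⁻¹) * m'⁻¹ = m' * g * x * (m' * g)⁻¹ := by group
  rwa [e] at this

/-- **(F)** -/
theorem Ov.prod (hK : Ov S K) (hF : ∃ c : Fˣ, c ≠ 1) (hR : S.R.p = 2) {g h : G} (hg : g ∈ K) (hh : h ∈ K)
    (hgN : g ∈ Subgroup.normalizer (MM S : Set G)) (hhN : h ∈ Subgroup.normalizer (MM S : Set G)) (hgM : g ∉ MM S)
    (hhM : h ∉ MM S) : g * h ∈ MM S := by
  have ty2 : ∀ g ∈ K, g ∈ Subgroup.normalizer (MM S : Set G) → g ∉ MM S → ∃ m ∈ MM S, m * g ∈ K ∧ Ty2 S (m * g) := by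
    intro g hg hgN hgM
    obtain ⟨m, hm, hn⟩ := frattini hF hR hgN
    have hmK := mul_mem (hK.le hm) hg
    refine ⟨m, hm, hmK, (type hn).resolve_left fun h1 => hgM ?_⟩
    have h2 := mul_mem (inv_mem hm) (hK.ty1 hF hR hmK h1)
    rwa [inv_mul_cancel_left] at h2
  obtain ⟨m, hm, hmK, h1⟩ := ty2 g hg hgN hgM
  obtain ⟨n, hn, hnK, h2⟩ := ty2 h hh hhN hhM
  have h3 := hK.ty1 hF hR (mul_mem hmK hnK) (h1.mul h2)
  have h4 := (Subgroup.mem_normalizer_iff.1 hgN n).1 hn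
  have e : g * h = (g * n * g⁻¹)⁻¹ * (m⁻¹ * (m * g * (n * h))) := by group
  rw [e]
  exact mul_mem (inv_mem h4) (mul_mem (inv_mem hm) h3)

theorem Ov.pick (hK : Ov S K) (hF : ∃ c : Fˣ, c ≠ 1) (hR : S.R.p = 2) {g : G} (hg : g ∈ K)
    (h : ∀ r, g * S.o 1 r * g⁻¹ ∈ Subgroup.normalizer (MM S : Set G)) : g ∈ Subgroup.normalizer (MM S : Set G) := by
  have hK' : ∀ r, g * S.o 1 r * g⁻¹ ∈ K := fun r => mul_mem (mul_mem hg (hK.le (o_mem_MM S 1 r))) (inv_mem hg)
  have done : ∀ r, r ≠ 0 → g * S.o 1 r * g⁻¹ ∈ MM S → g ∈ Subgroup.normalizer (MM S : Set G) := fun r hr h1 =>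
    hK.mem_norm_Sg hF hR hg ⟨1, r, Or.inl rfl, hr, rfl⟩ h1
  by_cases h1 : g * S.o 1 1 * g⁻¹ ∈ MM S
  · exact done 1 one_ne_zero h1
  obtain ⟨c, hc⟩ := hF
  by_cases h2 : g * S.o 1 c * g⁻¹ ∈ MM S
  · exact done c c.ne_zero h2
  have h3 := hK.prod ⟨c, hc⟩ hR (hK' 1) (hK' c) (h 1) (h c) h1 h2
  have e : g * S.o 1 1 * g⁻¹ * (g * S.o 1 c * g⁻¹) = g * S.o 1 (1 + c) * g⁻¹ := by rw [← S.o_add]; group
  rw [e] at h3
  refine done (1 + c) (fun h0 => hc (Units.ext ?_)) h3
  rw [Units.val_one]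
  exact (add_eq_zero' S h0).symm

theorem e3_o1 (q v t : F) : (S.e 3 q v)⁻¹ * S.o 1 t * S.e 3 q v = S.o 1 t * S.e 2 0 (t * q) := by
  have h : S.o 1 t * S.e 3 q v = S.e 3 q v * S.o 1 t * S.e 2 0 (t * q) := S.o_e2 1 t q v
  rw [mul_assoc, h]; group

theorem e4_o1 (q v t : F) : (S.e 4 q v)⁻¹ * S.o 1 t * S.e 4 q v =
    S.o 1 t * S.e 2 0 (σ t * q) * S.o 2 (t * σ q) * S.e 3 0 (t * q * σ q + t * v) := by
  have h : S.o 1 t * S.e 4 q v = S.e 4 q v * S.o 1 t * S.e 2 0 (σ t * q) * S.o 2 (t * σ q) *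
    S.e 3 0 (t * q * σ q + t * v) := S.o_e3 1 t q v
  rw [mul_assoc, h]; group

/-- the conjugating element for `(D)` -/
theorem exists_y {s t : F} (hs : s ≠ 0) : ∃ y ∈ J S.XZ 0 8, y⁻¹ * S.o 1 s * y = S.o 1 s * S.o 2 t ∧
    ∀ r, y * S.o 1 r * y⁻¹ ∈ Layers.NZ S 1 := by
  obtain ⟨q, hq⟩ := σ_surj σ (t * s⁻¹)
  set p := σ s * q * s⁻¹ with hp
  have hsp : s * p = σ s * q := by rw [hp]; field_simp
  have hsq : s * σ q = t := by rw [hq]; field_simp
  set e := S.e 4 q (q * σ q) with he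
  set f := S.e 3 p 0 with hf
  have hei : e⁻¹ = S.e 4 q 0 := by rw [he, e_inv S, char2 S]
  have hfi : f⁻¹ = S.e 3 p (p * σ p) := by rw [hf, e_inv S, zero_add]
  refine ⟨e * f, mul_mem (mem_J (S.mX8 _ _) (by norm_num) (by norm_num)) (mem_J (S.mX6 _ _) (by norm_num) (by norm_num)),
    ?_, fun r => ?_⟩
  · have h1 : e⁻¹ * S.o 1 s * e = S.o 1 s * S.e 2 0 (σ s * q) * S.o 2 t := by
      rw [he, e4_o1, hsq]
      have : s * q * σ q + s * (q * σ q) = 0 := by rw [mul_assoc, char2 S]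
      rw [this, S.e_zero, mul_one]
    have h2 : f⁻¹ * S.o 1 s * f = S.o 1 s * S.e 2 0 (σ s * q) := by rw [hf, e3_o1, hsp]
    have h3 : f⁻¹ * S.e 2 0 (σ s * q) * f = S.e 2 0 (σ s * q) := by
      have : S.e 2 0 (σ s * q) * f = f * S.e 2 0 (σ s * q) * S.o 2 (0 * p) := S.e_e1 2 0 (σ s * q) p 0
      rw [zero_mul, S.o_zero, mul_one] at this
      rw [mul_assoc, this]; group
    have h4 : f⁻¹ * S.o 2 t * f = S.o 2 t := by
      have : S.o 2 t * f = f * S.o 2 t := S.o_e1 2 t p 0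
      rw [mul_assoc, this]; group
    calc (e * f)⁻¹ * S.o 1 s * (e * f) = f⁻¹ * (e⁻¹ * S.o 1 s * e) * f := by group
      _ = (f⁻¹ * S.o 1 s * f) * (f⁻¹ * S.e 2 0 (σ s * q) * f) * (f⁻¹ * S.o 2 t * f) := by rw [h1]; group
      _ = S.o 1 s * (S.e 2 0 (σ s * q) * S.e 2 0 (σ s * q)) * S.o 2 t := by rw [h2, h3, h4]; group
      _ = _ := by rw [z_sq S, mul_one]
  · have hN : ∀ x, x ∈ J S.XZ 0 6 → (∀ u, S.o 1 u * x = x * S.o 1 u) → x ∈ Layers.NZ S 1 := by
      intro x hx hc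
      refine ⟨hx, Subgroup.mem_centralizer_iff.2 fun y hy => ?_⟩
      obtain ⟨u, rfl⟩ := S.X3 hy
      exact hc u
    have n1 : S.o 1 r ∈ Layers.NZ S 1 := hN _ (mem_J (S.mX3 r) (by norm_num) (by norm_num)) fun u => by
      rw [S.o_add, S.o_add, add_comm]
    have n2 : ∀ v, S.e 2 0 v ∈ Layers.NZ S 1 := fun v => hN _ (mem_J (S.mX4 0 v) (by norm_num) (by norm_num)) fun u =>
      S.o_e1 1 u 0 v
    have n3 : ∀ v, S.o 2 v ∈ Layers.NZ S 1 := fun v => hN _ (mem_J (S.mX5 v) (by norm_num) (by norm_num)) fun u =>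
      S.o_o1 1 u v
    have n4 : ∀ v, S.e 3 0 v ∈ Layers.NZ S 1 := fun v => hN _ (mem_J (S.mX6 0 v) (by norm_num) (by norm_num)) fun u => by
      have : S.o 1 u * S.e 3 0 v = S.e 3 0 v * S.o 1 u * S.e 2 0 (u * 0) := S.o_e2 1 u 0 v
      rwa [mul_zero, S.e_zero, mul_one] at this
    have h1 : f * S.o 1 r * f⁻¹ = S.o 1 r * S.e 2 0 (r * p) := by
      have := e3_o1 (S := S) p (p * σ p) r
      rw [← hfi, inv_inv] at this
      exact this
    have h2 : e * S.o 1 r * e⁻¹ = S.o 1 r * S.e 2 0 (σ r * q) * S.o 2 (r * σ q) * S.e 3 0 (r * q * σ q + r * 0) := by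
      have := e4_o1 (S := S) q 0 r
      rw [← hei, inv_inv] at this
      exact this
    have h3 : e * S.e 2 0 (r * p) * e⁻¹ = S.e 2 0 (r * p) := by
      have : S.e 2 0 (r * p) * e = e * S.e 2 0 (r * p) := S.e_e2 2 0 (r * p) q (q * σ q)
      rw [← this, mul_inv_cancel_right]
    have h4 : (e * f) * S.o 1 r * (e * f)⁻¹ = (e * S.o 1 r * e⁻¹) * (e * S.e 2 0 (r * p) * e⁻¹) := by
      calc (e * f) * S.o 1 r * (e * f)⁻¹ = e * (f * S.o 1 r * f⁻¹) * e⁻¹ := by group
        _ = _ := by rw [h1]; group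
    rw [h4, h2, h3]
    exact mul_mem (mul_mem (mul_mem (mul_mem n1 (n2 _)) (n3 _)) (n4 _)) (n2 _)

/-- **(D)** -/
theorem Ov.cent_Db (hK : Ov S K) (hF : ∃ c : Fˣ, c ≠ 1) (hR : S.R.p = 2) {g w : G} (hg : g ∈ K) (hw : Db S w)
    (h : g * w = w * g) : g ∈ Subgroup.normalizer (MM S : Set G) := by
  obtain ⟨s, t, hs, ht, rfl⟩ := hw
  obtain ⟨y, hy, hys, hyr⟩ := exists_y (S := S) (t := t) hs
  have hgH : y * g * y⁻¹ ∈ Layers.HZ S 1 := by
    rw [← Layers.centralizer_o S 1 hs, Subgroup.mem_centralizer_singleton_iff]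
    show y * g * y⁻¹ * S.o 1 s = S.o 1 s * (y * g * y⁻¹)
    have e1 : y * (S.o 1 s * S.o 2 t) = S.o 1 s * y := by rw [← hys]; group
    calc y * g * y⁻¹ * S.o 1 s = y * g * (y⁻¹ * S.o 1 s * y) * y⁻¹ := by group
      _ = y * (g * (S.o 1 s * S.o 2 t)) * y⁻¹ := by rw [hys]; group
      _ = (y * (S.o 1 s * S.o 2 t)) * g * y⁻¹ := by rw [h]; group
      _ = _ := by rw [e1]; group
  refine hK.pick hF hR hg fun r => ?_
  have hK' : g * S.o 1 r * g⁻¹ ∈ K := mul_mem (mul_mem hg (hK.le (o_mem_MM S 1 r))) (inv_mem hg)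
  refine hK.norm_MM hF hR hK' (hK.norm_of_P hF hR hK' (PL_le_P S ?_))
  have h1 := Layers.N_norm S 1 hgH (hyr r)
  have h2 : y * g * y⁻¹ * (y * S.o 1 r * y⁻¹) * (y * g * y⁻¹)⁻¹ ∈ J S.XZ 0 8 :=
    J_mono (by norm_num) (by norm_num) h1.1
  have e : g * S.o 1 r * g⁻¹ = y⁻¹ * (y * g * y⁻¹ * (y * S.o 1 r * y⁻¹) * (y * g * y⁻¹)⁻¹) * y := by group
  rw [e]
  exact mul_mem (mul_mem (inv_mem hy) h2) hy

/-- **(C)** for all involutions of `M` -/
theorem Ov.mem_norm (hK : Ov S K) (hF : ∃ c : Fˣ, c ≠ 1) (hR : S.R.p = 2) {g z : G} (hg : g ∈ K) (hz : z ∈ MM S)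
    (hz2 : z * z = 1) (hz1 : z ≠ 1) (h : g * z * g⁻¹ ∈ MM S) : g ∈ Subgroup.normalizer (MM S : Set G) := by
  obtain ⟨m, hm, hc⟩ := inv_class hF hR hz hz2 hz1
  obtain ⟨n, hn, hd⟩ := inv_class hF hR h (by
    calc g * z * g⁻¹ * (g * z * g⁻¹) = g * (z * z) * g⁻¹ := by group
      _ = 1 := by rw [hz2]; group) (conj_ne_one hz1)
  -- `k = n g m⁻¹`
  have hk : n * g * m⁻¹ ∈ K := mul_mem (mul_mem (hK.le hn) hg) (inv_mem (hK.le hm))
  have e : n * (g * z * g⁻¹) * n⁻¹ = (n * g * m⁻¹) * (m * z * m⁻¹) * (n * g * m⁻¹)⁻¹ := by group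
  rw [e] at hd
  have back : n * g * m⁻¹ ∈ Subgroup.normalizer (MM S : Set G) → g ∈ Subgroup.normalizer (MM S : Set G) := by
    intro h1
    have h2 := mul_mem (mul_mem (inv_mem (MM_le_norm hn)) h1) (MM_le_norm hm)
    have e2 : n⁻¹ * (n * g * m⁻¹) * m = g := by group
    rwa [e2] at h2
  apply back
  rcases hc with hc | hc
  · refine hK.mem_norm_Sg hF hR hk hc ?_
    rcases hd with hd | hd
    · exact UO_le_MM S hd.mem
    · exact UO_le_MM S hd.mem
  · rcases hd with hd | hd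
    · exact (hK.not_fused hF hR hk hd hc rfl).elim
    · refine hK.pick hF hR hk fun r => ?_
      refine hK.cent_Db hF hR (mul_mem (mul_mem hk (hK.le (o_mem_MM S 1 r))) (inv_mem hk)) hd ?_
      have h1 := hc.comm (o1_UO S r)
      calc n * g * m⁻¹ * S.o 1 r * (n * g * m⁻¹)⁻¹ * (n * g * m⁻¹ * (m * z * m⁻¹) * (n * g * m⁻¹)⁻¹) =
          n * g * m⁻¹ * (S.o 1 r * (m * z * m⁻¹)) * (n * g * m⁻¹)⁻¹ := by group
        _ = _ := by rw [h1]; group

/-- **(H)** -/
theorem Ov.outer (hK : Ov S K) (hF : ∃ c : Fˣ, c ≠ 1) (hR : S.R.p = 2) {i : G} (hi : i ∈ K)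
    (hiN : i ∈ Subgroup.normalizer (MM S : Set G)) (hiM : i ∉ MM S) (hi2 : i * i = 1) :
    ∃ x ∈ MM S, ∃ y ∈ MM S, x * x = 1 ∧ y * y = 1 ∧ x ≠ 1 ∧ y ≠ 1 ∧ x * y = y * x ∧ x * y ≠ 1 ∧ i * x = x * i ∧
      i * y = y * i := by
  have hfact : Fact (Nat.Prime 2) := ⟨Nat.prime_two⟩
  set L : Subgroup G := K ⊓ Subgroup.normalizer (MM S : Set G) with hL
  have hUL : UO S ≤ L := fun x hx => ⟨hK.le (UO_le_MM S hx), MM_le_norm (UO_le_MM S hx)⟩
  have hVs : IsPGroup 2 ((UO S).subgroupOf L) := (UO_two S hR).of_equiv (Subgroup.subgroupOfEquivOfLe hUL).symm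
  obtain ⟨P0, hP0⟩ := hVs.exists_le_sylow
  have hiL : i ∈ L := ⟨hi, hiN⟩
  have hQ : IsPGroup 2 (Subgroup.zpowers (⟨i, hiL⟩ : L)) := by
    rintro ⟨x, hx⟩
    obtain ⟨n, rfl⟩ := Subgroup.mem_zpowers_iff.1 hx
    refine ⟨1, Subtype.ext ?_⟩
    have h2 : (⟨i, hiL⟩ : L) * ⟨i, hiL⟩ = 1 := Subtype.ext hi2
    show ((⟨i, hiL⟩ : L) ^ n) ^ (2 ^ 1) = 1
    rw [pow_one, pow_two, ← zpow_add, ← two_mul, zpow_mul, zpow_two, h2, one_zpow]
  obtain ⟨P1, hP1⟩ := hQ.exists_le_sylow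
  obtain ⟨k, hk⟩ := MulAction.exists_smul_eq L P1 P0
  have h1 : k * ⟨i, hiL⟩ * k⁻¹ ∈ (P0 : Subgroup L) := by
    have h2 : (⟨i, hiL⟩ : L) ∈ (P1 : Subgroup L) := hP1 (Subgroup.mem_zpowers _)
    rw [← hk, Sylow.smul_def]
    exact Subgroup.smul_mem_pointwise_smul _ (MulAut.conj k) _ h2
  -- `P0 ∩ M = UO`
  set A : Subgroup G := (P0 : Subgroup L).map L.subtype ⊓ MM S with hA
  have hA2 : IsPGroup 2 A := (P0.2.map L.subtype).to_le inf_le_left
  have hUA : UO S ≤ A := fun x hx => ⟨⟨⟨x, hUL hx⟩, hP0 hx, rfl⟩, UO_le_MM S hx⟩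
  have hAU : UO S = A := by
    obtain ⟨m, hm, hmA⟩ := conj_UO S hF hR le_rfl (UO_le_MM S) hA2 inf_le_right
    refine Subgroup.eq_of_le_of_card_ge hUA ?_
    have ec : Nat.card (A.map (MulAut.conj m).toMonoidHom) = Nat.card A := by
      rw [Subgroup.card_map_of_injective (MulAut.conj m).injective]
    rw [← ec]
    refine Subgroup.card_le_of_le ?_
    rintro _ ⟨x, hx, rfl⟩
    exact hmA x hx
  have hnorm : ∀ x : L, x ∈ (P0 : Subgroup L) → (x : G) ∈ Subgroup.normalizer (UO S : Set G) := by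
    intro x hx
    refine norm_of_le fun u hu => ?_
    rw [hAU]
    refine ⟨⟨x * ⟨u, hUL hu⟩ * x⁻¹, mul_mem (mul_mem hx (hP0 hu)) (inv_mem hx), rfl⟩, ?_⟩
    exact (Subgroup.mem_normalizer_iff.1 x.2.2 u).1 (UO_le_MM S hu)
  have h3 := hnorm _ h1
  set l : G := (k : G) with hl
  have hlK : l ∈ K := k.2.1
  have hlN : l ∈ Subgroup.normalizer (MM S : Set G) := k.2.2
  set j : G := l * i * l⁻¹ with hj
  have h4 : j ∈ Subgroup.normalizer (UO S : Set G) := h3
  have hjK : j ∈ K := mul_mem (mul_mem hlK hi) (inv_mem hlK)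
  have hj2 : j * j = 1 := by
    calc l * i * l⁻¹ * (l * i * l⁻¹) = l * (i * i) * l⁻¹ := by group
      _ = 1 := by rw [hi2]; group
  have hjM : j ∉ MM S := fun h => hiM ((Subgroup.mem_normalizer_iff.1 hlN i).2 h)
  have hty := (type h4).resolve_left fun h => hjM (hK.ty1 hF hR hjK h)
  -- the elements
  have hx : ∀ r : F, ∃ r' : F, j * (S.o 1 r * S.o 2 r') = (S.o 1 r * S.o 2 r') * j := by
    intro r
    obtain ⟨r', hr'⟩ := hty.1 r
    refine ⟨r', ?_⟩
    have e1 : j * S.o 1 r = S.o 2 r' * j := by rw [← hr']; group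
    have hji : j⁻¹ = j := inv_eq_of_mul_eq_one_left hj2
    have e2 : j * S.o 2 r' = S.o 1 r * j := by
      rw [← hr', hji]
      calc j * (j * S.o 1 r * j) = (j * j) * S.o 1 r * j := by group
        _ = _ := by rw [hj2, one_mul]
    calc j * (S.o 1 r * S.o 2 r') = (j * S.o 1 r) * S.o 2 r' := by group
      _ = S.o 2 r' * (j * S.o 2 r') := by rw [e1]; group
      _ = (S.o 2 r' * S.o 1 r) * j := by rw [e2]; group
      _ = _ := by rw [o2_o1]
  obtain ⟨c, hc⟩ := hF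
  obtain ⟨r1, hr1⟩ := hx 1
  obtain ⟨r2, hr2⟩ := hx c
  have hM : ∀ a b : F, l⁻¹ * (S.o 1 a * S.o 2 b) * l ∈ MM S := fun a b => by
    have h5 := (Subgroup.mem_normalizer_iff.1 (inv_mem hlN) (S.o 1 a * S.o 2 b)).1
      (mul_mem (o_mem_MM S 1 a) (o_mem_MM S 2 b))
    rwa [inv_inv] at h5
  have hsq : ∀ a b : F, l⁻¹ * (S.o 1 a * S.o 2 b) * l * (l⁻¹ * (S.o 1 a * S.o 2 b) * l) = 1 := fun a b => by
    have e : S.o 1 a * S.o 2 b * (S.o 1 a * S.o 2 b) = 1 := by
      rw [o12_pU, pU_mul]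
      simp only [map_zero, mul_zero, add_zero]
      rw [char2 S, char2 S, pU_zero]
    calc l⁻¹ * (S.o 1 a * S.o 2 b) * l * (l⁻¹ * (S.o 1 a * S.o 2 b) * l) =
        l⁻¹ * (S.o 1 a * S.o 2 b * (S.o 1 a * S.o 2 b)) * l := by group
      _ = 1 := by rw [e]; group
  have hne : ∀ a b : F, a ≠ 0 → l⁻¹ * (S.o 1 a * S.o 2 b) * l ≠ 1 := fun a b ha h5 => by
    have e : S.o 1 a * S.o 2 b = 1 := by
      have : S.o 1 a * S.o 2 b = l * (l⁻¹ * (S.o 1 a * S.o 2 b) * l) * l⁻¹ := by group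
      rw [this, h5]; group
    rw [o12_pU] at e
    exact ha (pU_eq_one S e).2.1
  have hcomm : ∀ a b : F, j * (S.o 1 a * S.o 2 b) = (S.o 1 a * S.o 2 b) * j →
      i * (l⁻¹ * (S.o 1 a * S.o 2 b) * l) = (l⁻¹ * (S.o 1 a * S.o 2 b) * l) * i := fun a b h5 => by
    have e : i = l⁻¹ * j * l := by rw [hj]; group
    calc i * (l⁻¹ * (S.o 1 a * S.o 2 b) * l) = l⁻¹ * (j * (S.o 1 a * S.o 2 b)) * l := by rw [e]; group
      _ = _ := by rw [h5, e]; group
  have hmul : ∀ a b a' b' : F, l⁻¹ * (S.o 1 a * S.o 2 b) * l * (l⁻¹ * (S.o 1 a' * S.o 2 b') * l) =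
      l⁻¹ * (S.o 1 (a + a') * S.o 2 (b + b')) * l := fun a b a' b' => by
    have e : S.o 1 a * S.o 2 b * (S.o 1 a' * S.o 2 b') = S.o 1 (a + a') * S.o 2 (b + b') := by
      rw [o12_pU, o12_pU, o12_pU, pU_mul]
      simp only [map_zero, mul_zero, add_zero]
    rw [← e]; group
  refine ⟨_, hM 1 r1, _, hM c r2, hsq _ _, hsq _ _, hne _ _ one_ne_zero, hne _ _ c.ne_zero, ?_, ?_, hcomm _ _ hr1,
    hcomm _ _ hr2⟩
  · rw [hmul, hmul, add_comm 1, add_comm r1]
  · rw [hmul]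
    refine hne _ _ fun h0 => hc (Units.ext ?_)
    rw [Units.val_one]
    exact (add_eq_zero' S h0).symm

end

/-! ### dihedral groups -/

theorem dihedral {G : Type*} [Group G] [Finite G] {x y : G} (hx : x * x = 1) (hy : y * y = 1) :
    (∃ n : ℕ, (x * y) ^ n * x * ((x * y) ^ n)⁻¹ = y) ∨
    ∃ n : ℕ, (x * y) ^ n ≠ 1 ∧ (x * y) ^ n * (x * y) ^ n = 1 ∧ (x * y) ^ n * x = x * (x * y) ^ n ∧
      (x * y) ^ n * y = y * (x * y) ^ n := by
  set a := x * y with ha
  have hxi : x⁻¹ = x := inv_eq_of_mul_eq_one_left hx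
  have hyi : y⁻¹ = y := inv_eq_of_mul_eq_one_left hy
  have h1 : x * a * x⁻¹ = a⁻¹ := by
    rw [ha, mul_inv_rev, hxi, hyi]
    calc x * (x * y) * x = (x * x) * y * x := by group
      _ = y * x := by rw [hx, one_mul]
  have h2 : y * a * y⁻¹ = a⁻¹ := by
    rw [ha, mul_inv_rev, hxi, hyi]
    calc y * (x * y) * y = y * x * (y * y) := by group
      _ = y * x := by rw [hy, mul_one]
  have h1n : ∀ n : ℕ, x * a ^ n * x⁻¹ = (a ^ n)⁻¹ := fun n => by rw [← conj_pow, h1, inv_pow]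
  have h2n : ∀ n : ℕ, y * a ^ n * y⁻¹ = (a ^ n)⁻¹ := fun n => by rw [← conj_pow, h2, inv_pow]
  rcases Nat.even_or_odd' (orderOf a) with ⟨n, hn | hn⟩
  · right
    have hpos := orderOf_pos a
    have h3 : a ^ n * a ^ n = 1 := by rw [← pow_add, ← two_mul, ← hn, pow_orderOf_eq_one]
    have h4 : (a ^ n)⁻¹ = a ^ n := inv_eq_of_mul_eq_one_left h3
    refine ⟨n, fun h => ?_, h3, ?_, ?_⟩
    · have := Nat.le_of_dvd (by omega) (orderOf_dvd_of_pow_eq_one h)
      omega
    · have := h1n n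
      rw [h4, mul_inv_eq_iff_eq_mul] at this
      exact this.symm
    · have := h2n n
      rw [h4, mul_inv_eq_iff_eq_mul] at this
      exact this.symm
  · left
    refine ⟨n, ?_⟩
    have h3 : a ^ n * a ^ n * a = 1 := by rw [← pow_add, ← pow_succ, ← two_mul, ← hn, pow_orderOf_eq_one]
    have h4 : x * (a ^ n)⁻¹ = a ^ n * x := by
      have := h1n n
      have h5 : x * (a ^ n)⁻¹ * x⁻¹ = a ^ n := by
        calc x * (a ^ n)⁻¹ * x⁻¹ = (x * a ^ n * x⁻¹)⁻¹ := by group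
          _ = a ^ n := by rw [this, inv_inv]
      rwa [mul_inv_eq_iff_eq_mul] at h5
    have h6 : a ^ n * a ^ n = a⁻¹ := eq_inv_of_mul_eq_one_left h3
    calc a ^ n * x * (a ^ n)⁻¹ = a ^ n * (x * (a ^ n)⁻¹) := by group
      _ = (a ^ n * a ^ n) * x := by rw [h4]; group
      _ = y := by
        rw [h6, ha, mul_inv_rev, hxi, hyi, mul_assoc, hx, mul_one]

section

variable [Finite F] [Finite G] {K : Subgroup G}

/-- **the proper overgroups of `M` normalise `M`** -/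
theorem Ov.le_norm (hK : Ov S K) (hF : ∃ c : Fˣ, c ≠ 1) (hR : S.R.p = 2) :
    K ≤ Subgroup.normalizer (MM S : Set G) := by
  intro g hg
  by_contra hgN
  have hw : Db S (S.o 1 1 * S.o 2 1) := ⟨1, 1, one_ne_zero, one_ne_zero, rfl⟩
  have hz : Sg S (S.o 1 1) := ⟨1, 1, Or.inl rfl, one_ne_zero, rfl⟩
  have hwK : S.o 1 1 * S.o 2 1 ∈ K := hK.le (UO_le_MM S hw.mem)
  have hzK : g * S.o 1 1 * g⁻¹ ∈ K := mul_mem (mul_mem hg (hK.le (UO_le_MM S hz.mem))) (inv_mem hg)
  have hw2 : S.o 1 1 * S.o 2 1 * (S.o 1 1 * S.o 2 1) = 1 := by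
    rw [o12_pU, pU_mul]
    simp only [map_zero, mul_zero, add_zero]
    rw [char2 S, pU_zero]
  have hz2 : g * S.o 1 1 * g⁻¹ * (g * S.o 1 1 * g⁻¹) = 1 := by
    calc g * S.o 1 1 * g⁻¹ * (g * S.o 1 1 * g⁻¹) = g * (S.o 1 1 * S.o 1 1) * g⁻¹ := by group
      _ = 1 := by rw [o_sq S]; group
  have hgN' : g⁻¹ ∉ Subgroup.normalizer (MM S : Set G) := fun h => hgN (by
    have := inv_mem h
    rwa [inv_inv] at this)
  rcases dihedral hw2 hz2 with ⟨n, hn⟩ | ⟨n, hn1, hn2, hnx, hny⟩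
  · set k := (S.o 1 1 * S.o 2 1 * (g * S.o 1 1 * g⁻¹)) ^ n with hk
    have hkK : k ∈ K := pow_mem (mul_mem hwK hzK) n
    refine hK.not_fused hF hR (mul_mem (inv_mem hg) hkK) hz hw ?_
    calc g⁻¹ * k * (S.o 1 1 * S.o 2 1) * (g⁻¹ * k)⁻¹ = g⁻¹ * (k * (S.o 1 1 * S.o 2 1) * k⁻¹) * g := by group
      _ = S.o 1 1 := by rw [hn]; group
  · set i := (S.o 1 1 * S.o 2 1 * (g * S.o 1 1 * g⁻¹)) ^ n with hi
    have hiK : i ∈ K := pow_mem (mul_mem hwK hzK) n
    have hiN := hK.cent_Db hF hR hiK hw hnx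
    set j := g⁻¹ * i * g with hj
    have hjK : j ∈ K := mul_mem (mul_mem (inv_mem hg) hiK) hg
    have hjM : j ∈ MM S := by
      refine hK.cent_Sg hF hR hjK hz ?_
      calc g⁻¹ * i * g * S.o 1 1 = g⁻¹ * (i * (g * S.o 1 1 * g⁻¹)) * g := by group
        _ = S.o 1 1 * (g⁻¹ * i * g) := by rw [hny]; group
    have hj2 : j * j = 1 := by
      calc g⁻¹ * i * g * (g⁻¹ * i * g) = g⁻¹ * (i * i) * g := by group
        _ = 1 := by rw [hn2]; group
    have hj1 : j ≠ 1 := fun h => hn1 (by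
      have : i = g * (g⁻¹ * i * g) * g⁻¹ := by group
      rw [this, ← hj, h]; group)
    have hgj : g * j * g⁻¹ = i := by rw [hj]; group
    by_cases hiM : i ∈ MM S
    · exact hgN (hK.mem_norm hF hR hg hjM hj2 hj1 (by rw [hgj]; exact hiM))
    obtain ⟨x, hx, y, hy, hx2, hy2, hx1, hy1, hxy, hxy1, hix, hiy⟩ := hK.outer hF hR hiK hiN hiM hn2
    obtain ⟨m, hm, hc⟩ := inv_class hF hR hjM hj2 hj1
    -- the contradiction
    have bad : ∀ v ∈ MM S, v * v = 1 → v ≠ 1 → g⁻¹ * v * g ∈ MM S → False := fun v hv hv2 hv1 h =>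
      hgN' (hK.mem_norm hF hR (inv_mem hg) hv hv2 hv1 (by rwa [inv_inv]))
    have hcom : ∀ v, i * v = v * i → (m * (g⁻¹ * v * g) * m⁻¹) * (m * j * m⁻¹) = (m * j * m⁻¹) * (m * (g⁻¹ * v * g) * m⁻¹) := by
      intro v hv
      calc (m * (g⁻¹ * v * g) * m⁻¹) * (m * j * m⁻¹) = m * g⁻¹ * (v * i) * g * m⁻¹ := by rw [hj]; group
        _ = _ := by rw [← hv, hj]; group
    have hvK : ∀ v ∈ MM S, g⁻¹ * v * g ∈ K := fun v hv => mul_mem (mul_mem (inv_mem hg) (hK.le hv)) hg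
    have hmvK : ∀ v ∈ MM S, m * (g⁻¹ * v * g) * m⁻¹ ∈ K := fun v hv =>
      mul_mem (mul_mem (hK.le hm) (hvK v hv)) (inv_mem (hK.le hm))
    rcases hc with hc | hc
    · have h1 := hK.cent_Sg hF hR (hmvK x hx) hc (hcom x hix)
      refine bad x hx hx2 hx1 ?_
      have h2 := mul_mem (mul_mem (inv_mem hm) h1) hm
      have e : m⁻¹ * (m * (g⁻¹ * x * g) * m⁻¹) * m = g⁻¹ * x * g := by group
      rwa [e] at h2
    · have hN : ∀ v ∈ MM S, i * v = v * i → g⁻¹ * v * g ∈ Subgroup.normalizer (MM S : Set G) := by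
        intro v hv hiv
        have h1 := hK.cent_Db hF hR (hmvK v hv) hc (hcom v hiv)
        have h2 := mul_mem (mul_mem (inv_mem (MM_le_norm hm)) h1) (MM_le_norm hm)
        have e : m⁻¹ * (m * (g⁻¹ * v * g) * m⁻¹) * m = g⁻¹ * v * g := by group
        rwa [e] at h2
      by_cases h1 : g⁻¹ * x * g ∈ MM S
      · exact bad x hx hx2 hx1 h1
      by_cases h2 : g⁻¹ * y * g ∈ MM S
      · exact bad y hy hy2 hy1 h2
      have h3 := hK.prod hF hR (hvK x hx) (hvK y hy) (hN x hx hix) (hN y hy hiy) h1 h2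
      have e : g⁻¹ * x * g * (g⁻¹ * y * g) = g⁻¹ * (x * y) * g := by group
      rw [e] at h3
      refine bad (x * y) (mul_mem hx hy) ?_ hxy1 h3
      calc x * y * (x * y) = x * (y * x) * y := by group
        _ = (x * x) * (y * y) := by rw [← hxy]; group
        _ = 1 := by rw [hx2, hy2, one_mul]

theorem norm_MM_ne_top (hF : ∃ c : Fˣ, c ≠ 1) (hR : S.R.p = 2) : Subgroup.normalizer (MM S : Set G) ≠ ⊤ := by
  intro h
  have hK : Ov S (MM S) := ⟨le_rfl, MM_ne_top S hF hR⟩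
  have h1 : (S.e 3 1 0)⁻¹ ∈ Subgroup.normalizer (MM S : Set G) := by rw [h]; trivial
  have h2 := (Subgroup.mem_normalizer_iff.1 h1 _).1 (o_mem_MM S 1 1)
  rw [inv_inv, e3_o1] at h2
  have h3 := mul_mem (inv_mem (o_mem_MM S 1 1)) h2
  rw [inv_mul_cancel_left] at h3
  have h4 := (S.e_eq_one (hK.e_one hF h3)).2
  rw [one_mul] at h4
  exact one_ne_zero h4

theorem ov_norm (hF : ∃ c : Fˣ, c ≠ 1) (hR : S.R.p = 2) : Ov S (Subgroup.normalizer (MM S : Set G)) :=
  ⟨MM_le_norm, norm_MM_ne_top hF hR⟩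

/-- **`N(M)` is a maximal subgroup** -/
theorem coatom (hF : ∃ c : Fˣ, c ≠ 1) (hR : S.R.p = 2) : IsCoatom (Subgroup.normalizer (MM S : Set G)) := by
  refine ⟨norm_MM_ne_top hF hR, fun K hlt => ?_⟩
  by_contra hne
  have hK : Ov S K := ⟨MM_le_norm.trans hlt.le, hne⟩
  exact absurd (hK.le_norm hF hR) (not_le_of_gt hlt)

end

end Cfsg.Agent.H136.TwF
end

-- part: H507/Mc/Base
section
/-!
# Subgroups of `SL ι F` with a transvection group (helper507, for S5906, S5907)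

* `Irr K` : `K ≤ SL ι F` is irreducible;
* `top_of_center` : an irreducible subgroup containing all transvections with a given centre is everything;
* `exists_sylow` : a Sylow `p`-subgroup `S` of `PSL ι F` (`p` the characteristic) such that a subgroup containing `S`
  with irreducible preimage is everything.
-/

set_option autoImplicit false
set_option linter.unusedSectionVars false

namespace Cfsg.Agent.H507.Mc

open Matrix Subgroup
open Cfsg.Agent.ClassicalGeometry.AutPSL.Root (tr coe_tr tr_mulVec sl_ext sl_mul_mulVec tr_mul_same_axis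
  tr_mul_same_center transvection_eq_tr pr pr_surjective)

variable {ι F : Type*} [Fintype ι] [DecidableEq ι] [Field F]

/-- `K` has no invariant subspaces -/
def Irr (K : Subgroup (Matrix.SpecialLinearGroup ι F)) : Prop :=
  ∀ W : Submodule F (ι → F), (∀ g ∈ K, ∀ w ∈ W, (g : Matrix ι ι F) *ᵥ w ∈ W) → W = ⊥ ∨ W = ⊤

theorem Irr.mono {K L : Subgroup (Matrix.SpecialLinearGroup ι F)} (h : Irr K) (hKL : K ≤ L) : Irr L :=
  fun W hW => h W fun g hg => hW g (hKL hg)

theorem inv_mulVec (g : Matrix.SpecialLinearGroup ι F) (x : ι → F) :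
    ((g⁻¹ : Matrix.SpecialLinearGroup ι F) : Matrix ι ι F) *ᵥ ((g : Matrix ι ι F) *ᵥ x) = x := by
  rw [← sl_mul_mulVec, inv_mul_cancel, Matrix.SpecialLinearGroup.coe_one, one_mulVec]

theorem mulVec_inv (g : Matrix.SpecialLinearGroup ι F) (x : ι → F) :
    (g : Matrix ι ι F) *ᵥ (((g⁻¹ : Matrix.SpecialLinearGroup ι F) : Matrix ι ι F) *ᵥ x) = x := by
  rw [← sl_mul_mulVec, mul_inv_cancel, Matrix.SpecialLinearGroup.coe_one, one_mulVec]

/-- conjugates of irreducible subgroups are irreducible -/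
theorem Irr.conj {K : Subgroup (Matrix.SpecialLinearGroup ι F)} (h : Irr K) (g : Matrix.SpecialLinearGroup ι F)
    {L : Subgroup (Matrix.SpecialLinearGroup ι F)} (hL : ∀ x ∈ K, g * x * g⁻¹ ∈ L) : Irr L := by
  intro W hW
  set f : (ι → F) ≃ₗ[F] (ι → F) := Matrix.SpecialLinearGroup.toLin' g with hf
  have hfa : ∀ x, f x = (g : Matrix ι ι F) *ᵥ x := fun x => Matrix.SpecialLinearGroup.toLin'_apply g x
  have h1 := h (W.comap (f : (ι → F) →ₗ[F] (ι → F))) fun x hx w hw => by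
    rw [Submodule.mem_comap] at hw ⊢
    change f ((x : Matrix ι ι F) *ᵥ w) ∈ W
    change f w ∈ W at hw
    have h2 := hW _ (hL x hx) _ hw
    rw [hfa, sl_mul_mulVec, sl_mul_mulVec, inv_mulVec] at h2
    rwa [hfa]
  rcases h1 with h1 | h1
  · left
    rw [eq_bot_iff]
    intro w hw
    have h2 : f.symm w ∈ W.comap (f : (ι → F) →ₗ[F] (ι → F)) := by
      rw [Submodule.mem_comap]
      change f (f.symm w) ∈ W
      rwa [f.apply_symm_apply]
    rw [h1, Submodule.mem_bot] at h2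
    rw [Submodule.mem_bot]
    have := congrArg f h2
    rwa [f.apply_symm_apply, map_zero] at this
  · right
    rw [eq_top_iff]
    intro w _
    have h2 : f.symm w ∈ W.comap (f : (ι → F) →ₗ[F] (ι → F)) := by
      rw [h1]; exact Submodule.mem_top
    rw [Submodule.mem_comap] at h2
    change f (f.symm w) ∈ W at h2
    rwa [f.apply_symm_apply] at h2

theorem conj_orth (g : Matrix.SpecialLinearGroup ι F) {a φ : ι → F} (h : φ ⬝ᵥ a = 0) :
    (φ ᵥ* ((g⁻¹ : Matrix.SpecialLinearGroup ι F) : Matrix ι ι F)) ⬝ᵥ ((g : Matrix ι ι F) *ᵥ a) = 0 := by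
  rw [← Matrix.dotProduct_mulVec, inv_mulVec, h]

theorem conj_tr (g : Matrix.SpecialLinearGroup ι F) {a φ : ι → F} (h : φ ⬝ᵥ a = 0) :
    g * tr a φ h * g⁻¹ = tr _ _ (conj_orth g h) := by
  rw [mul_inv_eq_iff_eq_mul]
  apply sl_ext
  intro x
  rw [sl_mul_mulVec, sl_mul_mulVec, tr_mulVec, tr_mulVec, mulVec_add, mulVec_smul, ← Matrix.dotProduct_mulVec,
    inv_mulVec]

theorem tr_congr {a b φ ψ : ι → F} {h : φ ⬝ᵥ a = 0} {h' : ψ ⬝ᵥ b = 0} (hab : a = b) (hφ : φ = ψ) :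
    tr a φ h = tr b ψ h' := by subst hab hφ; rfl

theorem tr_smul {a φ : ι → F} (_h : φ ⬝ᵥ a = 0) (c : F) {h' : φ ⬝ᵥ (c • a) = 0} {h'' : (c • φ) ⬝ᵥ a = 0} :
    tr (c • a) φ h' = tr a (c • φ) h'' := by
  apply Subtype.ext
  rw [coe_tr, coe_tr, smul_vecMulVec, vecMulVec_smul]

/-- a linear form with given values -/
theorem exists_form {a b : ι → F} (hb : ∀ c : F, b ≠ c • a) :
    ∃ φ : ι → F, φ ⬝ᵥ a = 0 ∧ φ ⬝ᵥ b = 1 := by
  have h1 : b ∉ Submodule.span F {a} := by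
    rw [Submodule.mem_span_singleton]
    rintro ⟨c, hc⟩
    exact hb c hc.symm
  obtain ⟨f, hf1, hf2⟩ := Submodule.exists_le_ker_of_notMem h1
  have hfa : f a = 0 := hf2 (Submodule.mem_span_singleton_self a)
  have hφ : ∀ x : ι → F, (fun i => f (Pi.single i 1)) ⬝ᵥ x = f x := by
    intro x
    have h2 : x = ∑ i, x i • (Pi.single i 1 : ι → F) := by
      ext j
      simp [Finset.sum_apply, Pi.single_apply]
    conv_rhs => rw [h2]
    simp only [map_sum, dotProduct, map_smul, smul_eq_mul]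
    exact Finset.sum_congr rfl fun i _ => mul_comm _ _
  refine ⟨(f b)⁻¹ • fun i => f (Pi.single i 1), ?_, ?_⟩
  · rw [smul_dotProduct, hφ, hfa, smul_zero]
  · rw [smul_dotProduct, hφ, smul_eq_mul, inv_mul_cancel₀ hf1]

/-- **An irreducible subgroup with a full centre.** -/
theorem top_of_center {K : Subgroup (Matrix.SpecialLinearGroup ι F)} (hK : Irr K) {v : ι → F} (hv : v ≠ 0)
    (h : ∀ (φ : ι → F) (hφ : φ ⬝ᵥ v = 0), tr v φ hφ ∈ K) : K = ⊤ := by
  -- the set of centres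
  let X : Submodule F (ι → F) :=
    { carrier := {w | ∀ (φ : ι → F) (hφ : φ ⬝ᵥ w = 0), tr w φ hφ ∈ K}
      zero_mem' := fun φ hφ => by
        have : tr (0 : ι → F) φ hφ = 1 := by
          apply Subtype.ext
          rw [coe_tr, zero_vecMulVec, add_zero, Matrix.SpecialLinearGroup.coe_one]
        rw [this]
        exact one_mem _
      smul_mem' := fun c w hw φ hφ => by
        have h1 : (c • φ) ⬝ᵥ w = 0 := by
          rw [dotProduct_smul] at hφ
          rw [smul_dotProduct, hφ]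
        by_cases hc : c = 0
        · have : tr (c • w) φ hφ = 1 := by
            apply Subtype.ext
            rw [coe_tr, hc, zero_smul, zero_vecMulVec, add_zero, Matrix.SpecialLinearGroup.coe_one]
          rw [this]
          exact one_mem _
        · have h2 : φ ⬝ᵥ w = 0 := by
            rw [dotProduct_smul, smul_eq_mul] at hφ
            exact (mul_eq_zero.1 hφ).resolve_left hc
          rw [tr_smul (_h := h2) (h'' := h1)]
          exact hw _ _
      add_mem' := fun {w₁ w₂} h₁ h₂ φ hφ => by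
        by_cases hw1 : w₁ = 0
        · rw [tr_congr (b := w₂) (ψ := φ) (h' := by rw [hw1, zero_add] at hφ; exact hφ) (by rw [hw1, zero_add]) rfl]
          exact h₂ _ _
        by_cases hd : ∃ c : F, w₂ = c • w₁
        · obtain ⟨c, hc⟩ := hd
          have e : w₁ + w₂ = (1 + c) • w₁ := by rw [hc, add_smul, one_smul]
          by_cases hc1 : 1 + c = 0
          · have : tr (w₁ + w₂) φ hφ = 1 := by
              apply Subtype.ext
              rw [coe_tr, e, hc1, zero_smul, zero_vecMulVec, add_zero, Matrix.SpecialLinearGroup.coe_one]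
            rw [this]
            exact one_mem _
          · have h2 : φ ⬝ᵥ w₁ = 0 := by
              rw [e, dotProduct_smul, smul_eq_mul] at hφ
              exact (mul_eq_zero.1 hφ).resolve_left hc1
            rw [tr_congr (b := (1 + c) • w₁) (ψ := φ) (h' := by rw [dotProduct_smul, h2, smul_zero]) e rfl,
              tr_smul (_h := h2) (h'' := by rw [smul_dotProduct, h2, smul_zero])]
            exact h₁ _ _
        · push Not at hd
          obtain ⟨ψ, hψ1, hψ2⟩ := exists_form hd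
          -- `tr w₁ ψ` moves `w₂` to `w₁ + w₂`
          have hg := h₁ ψ hψ1
          set g := tr w₁ ψ hψ1 with hgdef
          have hgw : (g : Matrix ι ι F) *ᵥ w₂ = w₁ + w₂ := by
            rw [hgdef, tr_mulVec, hψ2, one_smul, add_comm]
          have h3 : (φ ᵥ* (g : Matrix ι ι F)) ⬝ᵥ w₂ = 0 := by
            rw [← Matrix.dotProduct_mulVec, hgw, hφ]
          have h4 := mul_mem (mul_mem hg (h₂ _ h3)) (inv_mem hg)
          rw [conj_tr] at h4
          have h5 : (φ ᵥ* (g : Matrix ι ι F)) ᵥ* ((g⁻¹ : Matrix.SpecialLinearGroup ι F) : Matrix ι ι F) = φ := by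
            rw [vecMul_vecMul, ← Matrix.SpecialLinearGroup.coe_mul, mul_inv_cancel, Matrix.SpecialLinearGroup.coe_one, vecMul_one]
          rwa [tr_congr (b := w₁ + w₂) (ψ := φ) (h' := hφ) hgw h5] at h4 }
  have hX : X = ⊤ := by
    refine (hK X fun g hg w hw φ hφ => ?_).resolve_left fun h0 => hv ?_
    · have h3 : (φ ᵥ* (g : Matrix ι ι F)) ⬝ᵥ w = 0 := by
        rw [← Matrix.dotProduct_mulVec, hφ]
      have h4 := mul_mem (mul_mem hg (hw _ h3)) (inv_mem hg)
      rw [conj_tr] at h4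
      have h5 : (φ ᵥ* (g : Matrix ι ι F)) ᵥ* ((g⁻¹ : Matrix.SpecialLinearGroup ι F) : Matrix ι ι F) = φ := by
        rw [vecMul_vecMul, ← Matrix.SpecialLinearGroup.coe_mul, mul_inv_cancel, Matrix.SpecialLinearGroup.coe_one, vecMul_one]
      rwa [tr_congr (b := (g : Matrix ι ι F) *ᵥ w) (ψ := φ) (h' := hφ) rfl h5] at h4
    · have : v ∈ X := h
      rw [h0] at this
      exact (Submodule.mem_bot F).1 this
  rw [eq_top_iff, ← LieClassical.SLGen.closure_transvections, closure_le]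
  rintro _ ⟨i, j, hij, c, rfl⟩
  rw [transvection_eq_tr]
  have : (c • Pi.single i 1 : ι → F) ∈ X := by rw [hX]; exact Submodule.mem_top
  exact this _ _

/-- the group of transvections with centre `v` -/
def cen (v : ι → F) : Subgroup (Matrix.SpecialLinearGroup ι F) where
  carrier := {g | ∃ (φ : ι → F) (h : φ ⬝ᵥ v = 0), g = tr v φ h}
  one_mem' := ⟨0, zero_dotProduct _, by
    apply Subtype.ext
    rw [coe_tr, vecMulVec_zero, add_zero, Matrix.SpecialLinearGroup.coe_one]⟩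
  mul_mem' := by
    rintro _ _ ⟨φ, h, rfl⟩ ⟨ψ, h', rfl⟩
    exact ⟨_, _, tr_mul_same_center _ _ _ h h'⟩
  inv_mem' := by
    rintro _ ⟨φ, h, rfl⟩
    refine ⟨-φ, by rw [neg_dotProduct, h, neg_zero], ?_⟩
    rw [inv_eq_iff_mul_eq_one, tr_mul_same_center]
    apply Subtype.ext
    rw [coe_tr, add_neg_cancel, vecMulVec_zero, add_zero, Matrix.SpecialLinearGroup.coe_one]

theorem cen_pow {v : ι → F} {φ : ι → F} (h : φ ⬝ᵥ v = 0) (k : ℕ) :
    tr v φ h ^ k = tr v ((k : F) • φ) (by rw [smul_dotProduct, h, smul_zero]) := by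
  induction k with
  | zero =>
    rw [pow_zero]
    apply Subtype.ext
    rw [coe_tr, Nat.cast_zero, zero_smul, vecMulVec_zero, add_zero, Matrix.SpecialLinearGroup.coe_one]
  | succ k ih =>
    rw [pow_succ, ih, tr_mul_same_center]
    refine tr_congr rfl ?_
    rw [Nat.cast_succ, add_smul, one_smul]

theorem isPGroup_cen {p : ℕ} [CharP F p] (v : ι → F) : IsPGroup p ↥(cen v) := by
  rintro ⟨_, φ, h, rfl⟩
  refine ⟨1, Subtype.ext ?_⟩
  rw [pow_one]
  change tr v φ h ^ p = 1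
  rw [cen_pow]
  apply Subtype.ext
  rw [coe_tr, CharP.cast_eq_zero, zero_smul, vecMulVec_zero, add_zero, Matrix.SpecialLinearGroup.coe_one]

/-- **The Sylow subgroup.** -/
theorem exists_sylow [Finite F] [Nonempty ι] {p : ℕ} [Fact p.Prime] [CharP F p] :
    ∃ S : Sylow p (Matrix.ProjectiveSpecialLinearGroup ι F), ∀ K : Subgroup (Matrix.ProjectiveSpecialLinearGroup ι F),
      (S : Subgroup (Matrix.ProjectiveSpecialLinearGroup ι F)) ≤ K → Irr (K.comap pr) → K = ⊤ := by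
  obtain ⟨i⟩ := ‹Nonempty ι›
  set v : ι → F := Pi.single i 1 with hv
  have hv0 : v ≠ 0 := by rw [hv]; simp
  have h1 : IsPGroup p ↥((cen v).map pr) := (isPGroup_cen v).map _
  obtain ⟨S, hS⟩ := h1.exists_le_sylow
  refine ⟨S, fun K hK hI => ?_⟩
  have h2 : K.comap pr = ⊤ := by
    refine top_of_center hI hv0 fun φ hφ => ?_
    rw [mem_comap]
    exact hK (hS (mem_map_of_mem _ ⟨φ, hφ, rfl⟩))
  rw [eq_top_iff]
  intro x _
  obtain ⟨y, rfl⟩ := pr_surjective x
  have : y ∈ K.comap pr := by rw [h2]; exact mem_top _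
  exact this

end Cfsg.Agent.H507.Mc
end
end

-- part: H823/TwFSzD
section
prune_inst 0x17020441a8002000018058471201c16de000590002b000148430ec006802b82a9400f6185a01103502a820100050048101000d00040000004000000000504010008140690480008000088000084000000000000000000000000000000000004200000000
set_option linter.all false
open scoped Cfsg.Agent.FastGrp

-- part: H823/TwFSz
section
/-!
# The normaliser of `Sz(q) × Sz(q)` in `²F₄(q)`, `q ≥ 8` (helper823, task 1433, S5906, S5907)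

`S : Full σ G`, `RR = ⟨Z_0, Z_4, Z_8, Z_12⟩`.

* `peel` : a torus-invariant subgroup of `J a b` contains the components of its elements at the ends;
* `Hyp.inf_one` : a proper subgroup `K` containing `X_0, X_4, X_8, X_12, T` meets `X_k` trivially, `4 ∤ k`.
-/

set_option autoImplicit false
set_option linter.unusedSectionVars false

namespace Cfsg.Agent.H823.TwFSz

open Subgroup
open Cfsg.Agent.KFacts.TwF4 Cfsg.Agent.KFacts.TwF4.Full Cfsg.Agent.KFacts.TwF4.Arc
open Cfsg.Agent.KFacts.TwF4.Inv Cfsg.Agent.KFacts.TwF4.SylU Cfsg.Agent.KFacts.TwF4.Perf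
open Cfsg.Agent.KFacts.TwF4.Irr
open Cfsg.Agent.SplitTwo Cfsg.Agent.SplitTwo.ZS Cfsg.Agent.TitsThree.RankTwoZ
open Cfsg.Agent.SplitTwo.RootSysZ
open Cfsg.Agent.H99.CL2F4 (nn nn_e e2_word eight eq_top_of_ZO)

universe u

variable {F : Type*} [Field F] {σ : F →+* F} {G : Type u} [Group G] (S : Full σ G)

/-! ### Transitivity of the torus -/

theorem trans_o [Finite F] (b : ZMod 8) {s t : F} (hs : s ≠ 0) (ht : t ≠ 0) :
    ∃ h ∈ S.T, h * S.o b s * h⁻¹ = S.o b t := by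
  obtain ⟨w, hw⟩ := TorEx.exists_pw S (TorEx.pE_EO 0 b) (Units.mk0 t ht / Units.mk0 s hs)
  refine ⟨TorEx.tE S w 0, TorEx.tE_mem S w 0, ?_⟩
  rw [TorEx.tE_o, hw, Units.val_div_eq_div_val]
  congr 1
  show t / s * s = t
  exact div_mul_cancel₀ _ hs

theorem trans_z [Finite F] (b : ZMod 8) {u v : F} (hu : u ≠ 0) (hv : v ≠ 0) :
    ∃ h ∈ S.T, h * S.e b 0 u * h⁻¹ = S.e b 0 v := by
  let f : Fˣ →* Fˣ := MonoidHom.id _ * Units.map (σ : F →* F)
  have hf : Function.Injective f := by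
    rw [injective_iff_map_eq_one]
    intro a ha
    exact S.unit_eq_one ha
  obtain ⟨c, hc⟩ := Finite.surjective_of_injective hf (Units.mk0 v hv / Units.mk0 u hu)
  obtain ⟨w, hw⟩ := TorEx.exists_pw S (TorEx.pO_OE 0 b) c
  refine ⟨TorEx.tO S w 0, TorEx.tO_mem S w 0, ?_⟩
  rw [TorEx.tO_e, hw, mul_zero]
  congr 1
  have h1 : (c : F) * σ (c : F) = v / u := by
    have := congrArg Units.val hc
    rw [Units.val_div_eq_div_val] at this
    exact this
  rw [h1, div_mul_cancel₀ _ hu]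

theorem nn_o (a : ZMod 8) (t : F) : nn S * S.o a t * (nn S)⁻¹ = S.o (-1 - a) t := by
  have h1 : (S.rot ^ (-2 : ℤ))⁻¹ * S.o a t * S.rot ^ (-2 : ℤ) = S.o (a + 2) t := by
    have := S.rotk_o (-2) (a + 2) t
    have e : a + 2 + ((-2 : ℤ) : ZMod 8) = a := by push_cast; ring
    rw [e] at this
    rw [← this]; group
  rw [nn, Cfsg.Agent.H99.CL2F4.conj_conj, h1, S.n2_o, S.rotk_o]
  congr 1
  have : (3 : ZMod 8) - (a + 2) + ((-2 : ℤ) : ZMod 8) = -1 - a := by push_cast; ring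
  rw [this]

/-! ### Peeling -/

section Peel

variable [Finite F] [Finite G]

/-- a non-trivial element of odd prime order of the torus that centralises `X_k` -/
theorem exists_prime (hF : ∃ c : Fˣ, c ≠ 1) (k : ℤ) :
    ∃ (r : ℕ) (t : G), r.Prime ∧ r ≠ 2 ∧ t ∈ S.Tk k ∧ t ≠ 1 ∧ t ^ r = 1 := by
  obtain ⟨w, hw⟩ := hF
  obtain ⟨h, hh, h1, h2⟩ := TorEx.exists_tt S hw k
  have hk : h ∈ S.Tk k := by
    refine mem_inf.mpr ⟨hh, mem_centralizer_iff.2 fun x hx => ?_⟩
    have := h1 k (by simp) x hx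
    rw [mul_inv_eq_iff_eq_mul] at this
    exact this.symm
  have hne : h ≠ 1 := by
    rintro rfl
    obtain ⟨y, hy, hy1⟩ := S.zsys8.exists_ne (k + 1)
    exact hy1 (h2 (k + 1) (by omega) y hy (by simp))
  have hcard : Nat.card (S.Tk k) ≠ 1 := by
    intro hc
    have h3 := (Subgroup.card_eq_one.1 hc)
    rw [h3, mem_bot] at hk
    exact hne hk
  obtain ⟨r, hr, hrd⟩ := Nat.exists_prime_and_dvd hcard
  have := Fact.mk hr
  obtain ⟨x, hx⟩ := exists_prime_orderOf_dvd_card' r hrd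
  have hx1 : (x : G) ≠ 1 := by
    intro hx1
    have h4 : x = 1 := Subtype.ext hx1
    rw [h4, orderOf_one] at hx
    exact hr.one_lt.ne hx
  have hxr : (x : G) ^ r = 1 := by
    have h4 : x ^ r = 1 := by rw [← hx]; exact pow_orderOf_eq_one x
    exact congrArg Subtype.val h4
  refine ⟨r, x, hr, ?_, x.2, hx1, hxr⟩
  rintro rfl
  obtain ⟨c, d, hcd⟩ := S.mem_T.1 (S.Tk_le k x.2)
  rw [← hcd] at hxr
  obtain ⟨h4, h5⟩ := torus_two S (k := 1) (by rw [pow_one]; exact hxr)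
  apply hx1
  rw [← hcd, h4, h5, S.h_one]

/-- **Peeling.** -/
theorem peel (hF : ∃ c : Fˣ, c ≠ 1) (hR : S.R.p = 2) {a b k : ℤ} (hb : b < a + 8) (hk1 : a ≤ k) (hk2 : k ≤ b)
    {W V : Subgroup G} (hW : W ≤ J S.XZ a b) (hWT : ∀ t ∈ S.T, ∀ w ∈ W, t * w * t⁻¹ ∈ W)
    (hWX : ∀ x ∈ S.XZ k, x ∈ W → x = 1) (hVT : ∀ t ∈ S.T, ∀ v ∈ V, t * v * t⁻¹ ∈ V) {x w : G} (hx : x ∈ S.XZ k)
    (hw : w ∈ W) (h : x * w ∈ V) : x ∈ V := by
  classical
  obtain ⟨r, t, hr, hr2, htk, ht1, htr⟩ := exists_prime S hF k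
  have := Fact.mk hr
  have htT : t ∈ S.T := S.Tk_le k htk
  have htx : t * x = x * t := S.Tk_comm htk hx
  let Ω := {g : G // ∃ v ∈ V ⊓ W, g = x * w * v}
  have hc : (x * w)⁻¹ * (t * (x * w) * t⁻¹) ∈ V ⊓ W := by
    refine mem_inf.mpr ⟨mul_mem (inv_mem h) (hVT t htT _ h), ?_⟩
    have e : (x * w)⁻¹ * (t * (x * w) * t⁻¹) = w⁻¹ * (t * w * t⁻¹) := by
      calc (x * w)⁻¹ * (t * (x * w) * t⁻¹) = w⁻¹ * x⁻¹ * ((t * x) * w * t⁻¹) := by group
        _ = w⁻¹ * (t * w * t⁻¹) := by rw [htx]; group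
    rw [e]
    exact mul_mem (inv_mem hw) (hWT t htT w hw)
  let f : Ω → Ω := fun g => ⟨t * g.1 * t⁻¹, by
    obtain ⟨g, v, hv, rfl⟩ := g
    refine ⟨(x * w)⁻¹ * (t * (x * w) * t⁻¹) * (t * v * t⁻¹), mul_mem hc ?_, by group⟩
    obtain ⟨h1, h2⟩ := mem_inf.mp hv
    exact mem_inf.mpr ⟨hVT t htT v h1, hWT t htT v h2⟩⟩
  have hf : Function.Injective f := by
    intro g g' hgg
    have h1 : t * g.1 * t⁻¹ = t * g'.1 * t⁻¹ := congrArg Subtype.val hgg
    exact Subtype.ext (mul_left_cancel (mul_right_cancel h1))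
  let e : Equiv.Perm Ω := Equiv.ofBijective f (Finite.injective_iff_bijective.1 hf)
  have hpow : ∀ (n : ℕ) (g : Ω), ((e ^ n) g).1 = t ^ n * g.1 * (t ^ n)⁻¹ := by
    intro n
    induction n with
    | zero => intro g; simp only [_root_.pow_zero, _root_.Equiv.Perm.coe_one, _root_.id_eq, _root_.one_mul, _root_.inv_one, _root_.mul_one]
    | succ n ih =>
      intro g
      rw [pow_succ', Equiv.Perm.mul_apply]
      show t * ((e ^ n) g).1 * t⁻¹ = _
      rw [ih, pow_succ']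
      group
  have he : e ^ r ^ 1 = 1 := by
    rw [pow_one]
    apply Equiv.ext
    intro g
    apply Subtype.ext
    rw [hpow, htr]
    simp
  have hcardΩ : Nat.card Ω = Nat.card (V ⊓ W : Subgroup G) := by
    refine Nat.card_congr (Equiv.ofBijective (fun g : Ω => (⟨(x * w)⁻¹ * g.1, ?_⟩ : (V ⊓ W : Subgroup G))) ⟨?_, ?_⟩)
    · obtain ⟨g, v, hv, rfl⟩ := g
      rw [inv_mul_cancel_left]
      exact hv
    · intro g g' hgg
      have h1 : (x * w)⁻¹ * g.1 = (x * w)⁻¹ * g'.1 := congrArg Subtype.val hgg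
      exact Subtype.ext (mul_left_cancel h1)
    · rintro ⟨v, hv⟩
      refine ⟨⟨x * w * v, v, hv, rfl⟩, Subtype.ext ?_⟩
      show (x * w)⁻¹ * (x * w * v) = v
      group
  have h2 : IsPGroup 2 (V ⊓ W : Subgroup G) := (two_J S hR hb).to_le (inf_le_right.trans hW)
  have hfact : Fact (Nat.Prime 2) := ⟨Nat.prime_two⟩
  obtain ⟨n, hn⟩ := IsPGroup.iff_card.1 h2
  have hnd : ¬ r ∣ Nat.card Ω := by
    rw [hcardΩ, hn]
    intro hd
    exact hr2 ((Nat.prime_dvd_prime_iff_eq hr Nat.prime_two).1 (hr.dvd_of_dvd_pow hd))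
  have hfin : Fintype Ω := Fintype.ofFinite Ω
  obtain ⟨⟨g, v, hv, hg⟩, hfix⟩ := Equiv.Perm.exists_fixed_point_of_prime (p := r) (n := 1)
    (by rw [← Nat.card_eq_fintype_card]; exact hnd) he
  have hfix' : t * g * t⁻¹ = g := congrArg Subtype.val hfix
  obtain ⟨hvV, hvW⟩ := mem_inf.mp hv
  have hgJ : g ∈ J S.XZ a b := by
    rw [hg]
    exact mul_mem (mul_mem (mem_J hx hk1 hk2) (hW hw)) (hW hvW)
  have hgX := S.fix_J htk ht1 (by omega) (by omega) hb hgJ hfix'
  have h3 : x⁻¹ * g = w * v := by rw [hg]; group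
  have h4 := hWX _ (mul_mem (inv_mem hx) hgX) (by rw [h3]; exact mul_mem hw hvW)
  have h5 : x = g := by
    rw [inv_mul_eq_one] at h4
    exact h4
  rw [h5, hg]
  exact mul_mem h hvV

/-- the first component -/
theorem peel_left (hF : ∃ c : Fˣ, c ≠ 1) (hR : S.R.p = 2) {a b : ℤ} (hab : a ≤ b) (hb : b < a + 8) {V : Subgroup G}
    (hVT : ∀ t ∈ S.T, ∀ v ∈ V, t * v * t⁻¹ ∈ V) {x w : G} (hx : x ∈ S.XZ a) (hw : w ∈ J S.XZ (a + 1) b)
    (h : x * w ∈ V) : x ∈ V :=
  peel S hF hR hb le_rfl hab (J_mono (by omega) le_rfl) (fun t ht w hw => S.T_conj_J ht hw)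
    (fun x hx hx' => S.zsys8.inter a x hx (J_mono le_rfl (by omega) hx')) hVT hx hw h

/-- the last component -/
theorem peel_right (hF : ∃ c : Fˣ, c ≠ 1) (hR : S.R.p = 2) {a b : ℤ} (hab : a ≤ b) (hb : b < a + 8) {V : Subgroup G}
    (hVT : ∀ t ∈ S.T, ∀ v ∈ V, t * v * t⁻¹ ∈ V) {x w : G} (hx : x ∈ S.XZ b) (hw : w ∈ J S.XZ a (b - 1))
    (h : x * w ∈ V) : x ∈ V :=
  peel S hF hR hb hab le_rfl (J_mono le_rfl (by omega)) (fun t ht w hw => S.T_conj_J ht hw)
    (fun x hx hx' => S.zsys8.inter' hx (J_mono (by omega) le_rfl hx')) hVT hx hw h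

/-- an element of an invariant subgroup meeting `X_a` trivially -/
theorem mem_left (hF : ∃ c : Fˣ, c ≠ 1) (hR : S.R.p = 2) {a b : ℤ} (hab : a ≤ b) (hb : b < a + 8) {V : Subgroup G}
    (hVT : ∀ t ∈ S.T, ∀ v ∈ V, t * v * t⁻¹ ∈ V) (hV : ∀ x ∈ S.XZ a, x ∈ V → x = 1) {g : G} (hg : g ∈ V)
    (hgJ : g ∈ J S.XZ a b) : g ∈ J S.XZ (a + 1) b := by
  obtain ⟨x, hx, y, hy, rfl⟩ := S.zsys8.split_ll hab hb hgJ
  rw [hV x hx (peel_left S hF hR hab hb hVT hx hy hg), one_mul]
  exact hy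

theorem mem_right (hF : ∃ c : Fˣ, c ≠ 1) (hR : S.R.p = 2) {a b : ℤ} (hab : a ≤ b) (hb : b < a + 8) {V : Subgroup G}
    (hVT : ∀ t ∈ S.T, ∀ v ∈ V, t * v * t⁻¹ ∈ V) (hV : ∀ x ∈ S.XZ b, x ∈ V → x = 1) {g : G} (hg : g ∈ V)
    (hgJ : g ∈ J S.XZ a b) : g ∈ J S.XZ a (b - 1) := by
  obtain ⟨x, hx, y, hy, rfl⟩ := S.zsys8.split_rl hab hb hgJ
  rw [hV x hx (peel_right S hF hR hab hb hVT hx hy hg), one_mul]
  exact hy

end Peel

/-! ### Step 1 -/

/-- the hypothesis on `K` -/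
structure Hyp (K : Subgroup G) : Prop where
  X0 : S.XZ 0 ≤ K
  X4 : S.XZ 4 ≤ K
  X8 : S.XZ 8 ≤ K
  X12 : S.XZ 12 ≤ K
  T : S.T ≤ K
  ne : K ≠ ⊤

namespace Hyp

variable {S} {K : Subgroup G} (h : Hyp S K)
include h

theorem e0 (p u : F) : S.e 0 p u ∈ K := h.X0 (by have := S.e_mem 0 p u; simpa using this)
theorem e2 (p u : F) : S.e 2 p u ∈ K := h.X4 (by have := S.e_mem 2 p u; push_cast at this; exact this)
theorem e4 (p u : F) : S.e 4 p u ∈ K := h.X8 (by have := S.e_mem 4 p u; push_cast at this; exact this)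
theorem e6 (p u : F) : S.e 6 p u ∈ K := h.X12 (by have := S.e_mem 6 p u; push_cast at this; exact this)

theorem n2_mem : S.n2 ∈ K := by
  rw [S.n2_word]
  exact mul_mem (mul_mem (h.e4 _ _) (h.e0 _ _)) (h.e4 _ _)

theorem nn_mem : nn S ∈ K := by
  have e : nn S = S.e 6 1 0 * S.e 2 0 1 * (S.e 6 1 0)⁻¹ := by
    conv_rhs => rw [e2_word]
    group
  rw [e]
  exact mul_mem (mul_mem (h.e6 _ _) (h.e2 _ _)) (inv_mem (h.e6 _ _))

theorem o_n2 {a : ZMod 8} {t : F} (hm : S.o a t ∈ K) : S.o (3 - a) t ∈ K := by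
  rw [← S.n2_o]
  exact mul_mem (mul_mem h.n2_mem hm) (inv_mem h.n2_mem)

theorem e_n2 {a : ZMod 8} {p u : F} (hm : S.e a p u ∈ K) : S.e (4 - a) p u ∈ K := by
  rw [← S.n2_e]
  exact mul_mem (mul_mem h.n2_mem hm) (inv_mem h.n2_mem)

theorem o_nn {a : ZMod 8} {t : F} (hm : S.o a t ∈ K) : S.o (-1 - a) t ∈ K := by
  rw [← nn_o]
  exact mul_mem (mul_mem h.nn_mem hm) (inv_mem h.nn_mem)

theorem e_nn {a : ZMod 8} {p u : F} (hm : S.e a p u ∈ K) : S.e (-a) p u ∈ K := by
  rw [← nn_e]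
  exact mul_mem (mul_mem h.nn_mem hm) (inv_mem h.nn_mem)

variable [Finite F]

theorem all_o {b : ZMod 8} {s : F} (hs : s ≠ 0) (hm : S.o b s ∈ K) (t : F) : S.o b t ∈ K := by
  by_cases ht : t = 0
  · rw [ht, S.o_zero]
    exact one_mem _
  obtain ⟨g, hg, e⟩ := trans_o S b hs ht
  rw [← e]
  exact mul_mem (mul_mem (h.T hg) hm) (inv_mem (h.T hg))

theorem all_z {b : ZMod 8} {s : F} (hs : s ≠ 0) (hm : S.e b 0 s ∈ K) (t : F) : S.e b 0 t ∈ K := by
  by_cases ht : t = 0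
  · rw [ht, S.e_zero]
    exact one_mem _
  obtain ⟨g, hg, e⟩ := trans_z S b hs ht
  rw [← e]
  exact mul_mem (mul_mem (h.T hg) hm) (inv_mem (h.T hg))

theorem conj_T {t v : G} (ht : t ∈ S.T) (hv : v ∈ K) : t * v * t⁻¹ ∈ K :=
  mul_mem (mul_mem (h.T ht) hv) (inv_mem (h.T ht))

/-- `X_1 ≤ K` is impossible -/
theorem not_o0 [Finite G] (hF : ∃ c : Fˣ, c ≠ 1) (hR : S.R.p = 2) {s : F} (hs : s ≠ 0) (hm : S.o 0 s ∈ K) : False := by
  apply h.ne
  have a0 := h.all_o hs hm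
  have a3 : ∀ t, S.o 3 t ∈ K := fun t => by have := h.o_n2 (a0 t); rwa [sub_zero] at this
  have a7 : ∀ t, S.o 7 t ∈ K := fun t => by
    have := h.o_nn (a0 t); rwa [show (-1 - 0 : ZMod 8) = 7 by decide] at this
  have a4 : ∀ t, S.o 4 t ∈ K := fun t => by
    have := h.o_nn (a3 t); rwa [show (-1 - 3 : ZMod 8) = 4 by decide] at this
  -- the commutator of `X_1` and `X_7`
  have c1 : S.o 1 1 * S.o 2 1 ∈ K := by
    have h1 := S.o_o3 0 1 1
    rw [show (0 : ZMod 8) + 3 = 3 by decide, show (0 : ZMod 8) + 1 = 1 by decide, show (0 : ZMod 8) + 2 = 2 by decide,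
      map_one, mul_one] at h1
    have h2 : S.o 1 1 * S.o 2 1 = (S.o 3 1 * S.o 0 1)⁻¹ * (S.o 0 1 * S.o 3 1) := by rw [h1]; group
    rw [h2]
    exact mul_mem (inv_mem (mul_mem (a3 _) (a0 _))) (mul_mem (a0 _) (a3 _))
  have x3 : S.o 1 1 ∈ K := by
    refine peel_left S hF hR (a := 3) (b := 5) (by norm_num) (by norm_num) (fun t ht v hv => h.conj_T ht hv) ?_ ?_ c1
    · have := S.o_mem 1 1; push_cast at this; exact this
    · have := S.o_mem 2 1
      push_cast at this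
      exact mem_J (k := 5) this (by norm_num) le_rfl
  have a1 := h.all_o one_ne_zero x3
  have a2 : ∀ t, S.o 2 t ∈ K := fun t => by
    have := h.o_n2 (a1 t); rwa [show (3 - 1 : ZMod 8) = 2 by decide] at this
  have a6 : ∀ t, S.o 6 t ∈ K := fun t => by
    have := h.o_nn (a1 t); rwa [show (-1 - 1 : ZMod 8) = 6 by decide] at this
  have a5 : ∀ t, S.o 5 t ∈ K := fun t => by
    have := h.o_nn (a2 t); rwa [show (-1 - 2 : ZMod 8) = 5 by decide] at this
  have z1 : ∀ t, S.e 1 0 t ∈ K := fun t => by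
    have h1 := S.o_e2 0 t 1 0
    rw [show (0 : ZMod 8) + 2 = 2 by decide, show (0 : ZMod 8) + 1 = 1 by decide, mul_one] at h1
    have h2 : S.e 1 0 t = (S.e 2 1 0 * S.o 0 t)⁻¹ * (S.o 0 t * S.e 2 1 0) := by rw [h1]; group
    rw [h2]
    exact mul_mem (inv_mem (mul_mem (h.e2 _ _) (a0 _))) (mul_mem (a0 _) (h.e2 _ _))
  have z3 : ∀ t, S.e 3 0 t ∈ K := fun t => by
    have := h.e_n2 (z1 t); rwa [show (4 - 1 : ZMod 8) = 3 by decide] at this
  have z7 : ∀ t, S.e 7 0 t ∈ K := fun t => by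
    have := h.e_nn (z1 t); rwa [show (-1 : ZMod 8) = 7 by decide] at this
  have z5 : ∀ t, S.e 5 0 t ∈ K := fun t => by
    have := h.e_nn (z3 t); rwa [show (-3 : ZMod 8) = 5 by decide] at this
  refine eq_top_of_ZO S hF ?_ ?_
  · intro a t
    rcases eight a with rfl | rfl | rfl | rfl | rfl | rfl | rfl | rfl
    · exact a0 t
    · exact a1 t
    · exact a2 t
    · exact a3 t
    · exact a4 t
    · exact a5 t
    · exact a6 t
    · exact a7 t
  · intro a t
    rcases eight a with rfl | rfl | rfl | rfl | rfl | rfl | rfl | rfl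
    · exact h.e0 0 t
    · exact z1 t
    · exact h.e2 0 t
    · exact z3 t
    · exact h.e4 0 t
    · exact z5 t
    · exact h.e6 0 t
    · exact z7 t

/-- `Z_2 ≤ K` is impossible -/
theorem not_z1 [Finite G] (hF : ∃ c : Fˣ, c ≠ 1) (hR : S.R.p = 2) {s : F} (hs : s ≠ 0) (hm : S.e 1 0 s ∈ K) : False := by
  have z1 := h.all_z hs hm
  have z7 : ∀ t, S.e 7 0 t ∈ K := fun t => by
    have := h.e_nn (z1 t); rwa [show (-1 : ZMod 8) = 7 by decide] at this
  have h1 := S.e_e3 7 0 1 1 0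
  rw [show (7 : ZMod 8) + 3 = 2 by decide, show (7 : ZMod 8) + 1 = 0 by decide,
    show (7 : ZMod 8) + 2 = 1 by decide] at h1
  simp only [map_one, map_zero, mul_zero, zero_mul, mul_one, one_mul, add_zero, zero_add, S.o_zero] at h1
  have h2 : S.o 7 1 = (S.e 2 1 0 * S.e 7 0 1)⁻¹ * (S.e 7 0 1 * S.e 2 1 0) * (S.e 1 0 1)⁻¹ * (S.e 0 0 1)⁻¹ := by
    rw [h1]; group
  have h3 : S.o 7 1 ∈ K := by
    rw [h2]
    exact mul_mem (mul_mem (mul_mem (inv_mem (mul_mem (h.e2 _ _) (z7 _))) (mul_mem (z7 _) (h.e2 _ _)))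
      (inv_mem (z1 _))) (inv_mem (h.e0 _ _))
  have h4 := h.o_nn h3
  rw [show (-1 - 7 : ZMod 8) = 0 by decide] at h4
  exact h.not_o0 hF hR one_ne_zero h4

/-- `X_3 ≤ K` is impossible -/
theorem not_o1 [Finite G] (hF : ∃ c : Fˣ, c ≠ 1) (hR : S.R.p = 2) {s : F} (hs : s ≠ 0) (hm : S.o 1 s ∈ K) : False := by
  have h1 := S.o_e3 1 s 0 1
  rw [show (1 : ZMod 8) + 3 = 4 by decide, show (1 : ZMod 8) + 1 = 2 by decide,
    show (1 : ZMod 8) + 2 = 3 by decide] at h1
  simp only [map_zero, mul_zero, zero_mul, mul_one, zero_add, S.o_zero, S.e_zero] at h1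
  have h2 : S.e 3 0 s = (S.e 4 0 1 * S.o 1 s)⁻¹ * (S.o 1 s * S.e 4 0 1) := by rw [h1]; group
  have h3 : S.e 3 0 s ∈ K := by
    rw [h2]
    exact mul_mem (inv_mem (mul_mem (h.e4 _ _) hm)) (mul_mem hm (h.e4 _ _))
  have h4 := h.e_n2 h3
  rw [show (4 - 3 : ZMod 8) = 1 by decide] at h4
  exact h.not_z1 hF hR hs h4

theorem not_o [Finite G] (hF : ∃ c : Fˣ, c ≠ 1) (hR : S.R.p = 2) {b : ZMod 8} {s : F} (hs : s ≠ 0)
    (hm : S.o b s ∈ K) : False := by
  rcases eight b with rfl | rfl | rfl | rfl | rfl | rfl | rfl | rfl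
  · exact h.not_o0 hF hR hs hm
  · exact h.not_o1 hF hR hs hm
  · have h1 := h.o_n2 hm
    rw [show (3 - 2 : ZMod 8) = 1 by decide] at h1
    exact h.not_o1 hF hR hs h1
  · have h1 := h.o_n2 hm
    rw [show (3 - 3 : ZMod 8) = 0 by decide] at h1
    exact h.not_o0 hF hR hs h1
  · have h1 := h.o_n2 (h.o_nn hm)
    rw [show (3 - (-1 - 4) : ZMod 8) = 0 by decide] at h1
    exact h.not_o0 hF hR hs h1
  · have h1 := h.o_n2 (h.o_nn hm)
    rw [show (3 - (-1 - 5) : ZMod 8) = 1 by decide] at h1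
    exact h.not_o1 hF hR hs h1
  · have h1 := h.o_nn hm
    rw [show (-1 - 6 : ZMod 8) = 1 by decide] at h1
    exact h.not_o1 hF hR hs h1
  · have h1 := h.o_nn hm
    rw [show (-1 - 7 : ZMod 8) = 0 by decide] at h1
    exact h.not_o0 hF hR hs h1

theorem not_z [Finite G] (hF : ∃ c : Fˣ, c ≠ 1) (hR : S.R.p = 2) {b : ZMod 8} (hb : b = 1 ∨ b = 3 ∨ b = 5 ∨ b = 7)
    {s : F} (hs : s ≠ 0) (hm : S.e b 0 s ∈ K) : False := by
  rcases hb with rfl | rfl | rfl | rfl
  · exact h.not_z1 hF hR hs hm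
  · have h1 := h.e_n2 hm
    rw [show (4 - 3 : ZMod 8) = 1 by decide] at h1
    exact h.not_z1 hF hR hs h1
  · have h1 := h.e_n2 (h.e_nn hm)
    rw [show (4 - (-5) : ZMod 8) = 1 by decide] at h1
    exact h.not_z1 hF hR hs h1
  · have h1 := h.e_nn hm
    rw [show (-7 : ZMod 8) = 1 by decide] at h1
    exact h.not_z1 hF hR hs h1

/-- **Step 1.** `K ∩ X_k = 1` for `4 ∤ k` -/
theorem inf_one [Finite G] (hF : ∃ c : Fˣ, c ≠ 1) (hR : S.R.p = 2) {k : ℤ} (hk : ¬ (4 : ℤ) ∣ k) {x : G}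
    (hx : x ∈ S.XZ k) (hxK : x ∈ K) : x = 1 := by
  by_contra hx1
  obtain ⟨b, hb | hb⟩ := Int.even_or_odd' k
  · rw [hb] at hx
    obtain ⟨p, u, rfl⟩ := (S.mem_XZ_even b x).1 hx
    have hb' : (b : ZMod 8) = 1 ∨ (b : ZMod 8) = 3 ∨ (b : ZMod 8) = 5 ∨ (b : ZMod 8) = 7 := by
      have h1 : b % 8 = 1 ∨ b % 8 = 3 ∨ b % 8 = 5 ∨ b % 8 = 7 := by omega
      have h2 : ((b % 8 : ℤ) : ZMod 8) = (b : ZMod 8) := by
        rw [ZMod.intCast_eq_intCast_iff]
        show b % 8 % ((8 : ℕ) : ℤ) = b % ((8 : ℕ) : ℤ)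
        push_cast
        omega
      rw [← h2]
      rcases h1 with h1 | h1 | h1 | h1 <;> rw [h1]
      · left; rfl
      · right; left; rfl
      · right; right; left; rfl
      · right; right; right; rfl
    by_cases hp : p = 0
    · subst hp
      refine h.not_z hF hR hb' (s := u) ?_ hxK
      rintro rfl
      exact hx1 (S.e_zero _)
    · have h1 := mul_mem hxK hxK
      rw [S.e_mul, char2 S, char2 S, zero_add] at h1
      refine h.not_z hF hR hb' (s := p * σ p) ?_ h1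
      refine mul_ne_zero hp ?_
      rwa [Ne, map_eq_zero]
  · rw [hb] at hx
    obtain ⟨t, rfl⟩ := (S.mem_XZ_odd b x).1 hx
    refine h.not_o hF hR (s := t) ?_ hxK
    rintro rfl
    exact hx1 (S.o_zero _)

/-- **Step 2.** `K ∩ J 1 7 = X_4` -/
theorem inf_Q [Finite G] (hF : ∃ c : Fˣ, c ≠ 1) (hR : S.R.p = 2) {g : G} (hg : g ∈ J S.XZ 1 7) (hgK : g ∈ K) :
    g ∈ S.XZ 4 := by
  have hT : ∀ t ∈ S.T, ∀ v ∈ K, t * v * t⁻¹ ∈ K := fun t ht v hv => h.conj_T ht hv
  have h2 := mem_left S hF hR (a := 1) (b := 7) (by norm_num) (by norm_num) hT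
    (fun x hx hxK => h.inf_one hF hR (by norm_num) hx hxK) hgK hg
  have h3 := mem_left S hF hR (a := 2) (b := 7) (by norm_num) (by norm_num) hT
    (fun x hx hxK => h.inf_one hF hR (by norm_num) hx hxK) hgK h2
  have h4 := mem_left S hF hR (a := 3) (b := 7) (by norm_num) (by norm_num) hT
    (fun x hx hxK => h.inf_one hF hR (by norm_num) hx hxK) hgK h3
  have h5 := mem_right S hF hR (a := 4) (b := 7) (by norm_num) (by norm_num) hT
    (fun x hx hxK => h.inf_one hF hR (by norm_num) hx hxK) hgK h4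
  have h6 := mem_right S hF hR (a := 4) (b := 6) (by norm_num) (by norm_num) hT
    (fun x hx hxK => h.inf_one hF hR (by norm_num) hx hxK) hgK h5
  have h7 := mem_right S hF hR (a := 4) (b := 5) (by norm_num) (by norm_num) hT
    (fun x hx hxK => h.inf_one hF hR (by norm_num) hx hxK) hgK h6
  exact mem_of_J_self h7 (by norm_num)

end Hyp

end Cfsg.Agent.H823.TwFSz
end

-- part: H823/TwFSzB
section
/-!
# The normaliser of `Sz(q) × Sz(q)` in `²F₄(q)`, `q ≥ 8`, II (helper823, task 1433)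

* `X0_le`, … : `X_0, X_4, X_8, X_12, T ≤ N(RR)`;
* `Hyp.cases` : the conjugates of `Z_4` contained in `K`.
-/

set_option autoImplicit false
set_option linter.unusedSectionVars false

namespace Cfsg.Agent.H823.TwFSz

open Subgroup
open scoped commutatorElement
open Cfsg.Agent.KFacts.TwF4 Cfsg.Agent.KFacts.TwF4.Full Cfsg.Agent.KFacts.TwF4.Arc
open Cfsg.Agent.KFacts.TwF4.Inv Cfsg.Agent.KFacts.TwF4.SylU Cfsg.Agent.KFacts.TwF4.Perf
open Cfsg.Agent.KFacts.TwF4.Irr
open Cfsg.Agent.SplitTwo Cfsg.Agent.SplitTwo.ZS Cfsg.Agent.TitsThree.RankTwoZ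
open Cfsg.Agent.SplitTwo.RootSysZ
open Cfsg.Agent.H99.CL2F4 (nn nn_e e2_word eight eq_top_of_ZO cj_eq_of cj_T_Zc cj_e_Zc)
open Cfsg.Agent.H939.KLat (cj mem_cj conj_mem_cj cj_mul cj_cj_inv cj_inv_cj cj_mono cj_one)

universe u

variable {F : Type*} [Field F] {σ : F →+* F} {G : Type u} [Group G] (S : Full σ G)

/-- `Sz(q) × Sz(q)` -/
def RR : Subgroup G := S.Zc 0 ⊔ S.Zc 2 ⊔ S.Zc 4 ⊔ S.Zc 6

theorem Z0_RR : S.Zc 0 ≤ RR S := le_sup_left.trans (le_sup_left.trans le_sup_left)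
theorem Z2_RR : S.Zc 2 ≤ RR S := le_sup_right.trans (le_sup_left.trans le_sup_left)
theorem Z4_RR : S.Zc 4 ≤ RR S := le_sup_right.trans le_sup_left
theorem Z6_RR : S.Zc 6 ≤ RR S := le_sup_right

/-- the elements `e 0 1 0` conjugate `Z_8` into `⟨Z_0, Z_8⟩` -/
theorem conj_w (z : G) (hz : z ∈ S.Zc 4) : (S.e 0 1 0)⁻¹ * z * S.e 0 1 0 ∈ S.Zc 0 ⊔ S.Zc 4 := by
  obtain ⟨u, rfl⟩ := hz
  have h1 : S.e 4 0 u = S.n2 * S.e 0 0 u * S.n2⁻¹ := by rw [S.n2_e, sub_zero]
  have h2 : (S.e 0 1 0)⁻¹ * S.n2 * S.e 0 1 0 = S.e 4 0 1 := by rw [n2_word' S]; group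
  have h3 : (S.e 0 1 0)⁻¹ * S.e 0 0 u * S.e 0 1 0 = S.e 0 0 u := by
    have : S.e 0 0 u * S.e 0 1 0 = S.e 0 1 0 * S.e 0 0 u := by
      rw [S.e_mul, S.e_mul, map_zero, mul_zero, zero_mul, add_zero, add_zero, zero_add, zero_add, add_zero, add_zero]
    rw [mul_assoc, this, inv_mul_cancel_left]
  have h4 : (S.e 0 1 0)⁻¹ * S.e 4 0 u * S.e 0 1 0 = S.e 4 0 1 * S.e 0 0 u * (S.e 4 0 1)⁻¹ := by
    calc (S.e 0 1 0)⁻¹ * S.e 4 0 u * S.e 0 1 0 = ((S.e 0 1 0)⁻¹ * S.n2 * S.e 0 1 0) *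
          ((S.e 0 1 0)⁻¹ * S.e 0 0 u * S.e 0 1 0) * ((S.e 0 1 0)⁻¹ * S.n2 * S.e 0 1 0)⁻¹ := by rw [h1]; group
      _ = _ := by rw [h2, h3]
  rw [h4]
  exact mul_mem (mul_mem (mem_sup_right ⟨_, rfl⟩) (mem_sup_left ⟨_, rfl⟩)) (inv_mem (mem_sup_right ⟨_, rfl⟩))

/-- an element of `X_a` commutes with `Z_{2a}` -/
theorem e_comm (a : ZMod 8) (p u v : F) : S.e a p u * S.e a 0 v = S.e a 0 v * S.e a p u := by
  rw [S.e_mul, S.e_mul, map_zero, mul_zero, zero_mul, add_zero, add_zero, add_zero, zero_add, add_comm]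

theorem conj_sup {A B C : Subgroup G} {x : G} (hA : ∀ a ∈ A, x * a * x⁻¹ ∈ C) (hB : ∀ a ∈ B, x * a * x⁻¹ ∈ C) :
    ∀ y ∈ A ⊔ B, x * y * x⁻¹ ∈ C := by
  have h1 : A ⊔ B ≤ C.comap (MulAut.conj x).toMonoidHom := sup_le hA hB
  exact fun y hy => h1 hy

theorem conj_X0 {x : G} (hx : x ∈ S.XZ 0) : ∀ y ∈ S.Zc 0 ⊔ S.Zc 4, x * y * x⁻¹ ∈ S.Zc 0 ⊔ S.Zc 4 := by
  -- `Z_0`
  have h0 : ∀ p u : F, ∀ a ∈ S.Zc 0, S.e 0 p u * a * (S.e 0 p u)⁻¹ ∈ S.Zc 0 ⊔ S.Zc 4 := by
    rintro p u _ ⟨v, rfl⟩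
    rw [e_comm, mul_inv_cancel_right]
    exact mem_sup_left ⟨_, rfl⟩
  have hz : ∀ u : F, ∀ y ∈ S.Zc 0 ⊔ S.Zc 4, S.e 0 0 u * y * (S.e 0 0 u)⁻¹ ∈ S.Zc 0 ⊔ S.Zc 4 := fun u y hy =>
    mul_mem (mul_mem (mem_sup_left ⟨_, rfl⟩) hy) (inv_mem (mem_sup_left ⟨_, rfl⟩))
  have hwi : ∀ y ∈ S.Zc 0 ⊔ S.Zc 4, (S.e 0 1 0)⁻¹ * y * (S.e 0 1 0)⁻¹⁻¹ ∈ S.Zc 0 ⊔ S.Zc 4 := by
    refine conj_sup ?_ ?_
    · rintro _ ⟨v, rfl⟩
      have := e_comm S 0 1 0 v
      rw [inv_inv, mul_assoc, ← this, inv_mul_cancel_left]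
      exact mem_sup_left ⟨_, rfl⟩
    · intro z hz
      rw [inv_inv]
      exact conj_w S z hz
  have hw : ∀ y ∈ S.Zc 0 ⊔ S.Zc 4, S.e 0 1 0 * y * (S.e 0 1 0)⁻¹ ∈ S.Zc 0 ⊔ S.Zc 4 := by
    intro y hy
    have h1 : S.e 0 1 0 * S.e 0 1 0 = S.e 0 0 1 := by
      rw [S.e_mul, map_one, mul_one, add_zero, zero_add, char2 S]
    have h2 := hwi _ (hz 1 y hy)
    have e : (S.e 0 1 0)⁻¹ * (S.e 0 0 1 * y * (S.e 0 0 1)⁻¹) * (S.e 0 1 0)⁻¹⁻¹ = S.e 0 1 0 * y * (S.e 0 1 0)⁻¹ := by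
      rw [← h1]; group
    rwa [e] at h2
  have hT : ∀ t ∈ S.T, ∀ y ∈ S.Zc 0 ⊔ S.Zc 4, t * y * t⁻¹ ∈ S.Zc 0 ⊔ S.Zc 4 := by
    intro t ht
    exact conj_sup (fun a ha => mem_sup_left (S.T_conj_Zc ht ha)) (fun a ha => mem_sup_right (S.T_conj_Zc ht ha))
  obtain ⟨p, u, rfl⟩ := (mem_X0 S).1 hx
  intro y hy
  by_cases hp : p = 0
  · subst hp
    exact hz u y hy
  -- `e 0 p u = t (e 0 1 0) t⁻¹ (e 0 0 u)`
  set t := S.h (Units.mk0 p hp) 1 with ht
  have htT : t ∈ S.T := S.mem_T.2 ⟨_, _, rfl⟩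
  have h1 : t * S.e 0 1 0 * t⁻¹ = S.e 0 p 0 := by
    rw [ht, S.h_e, chE_zero, mul_one, mul_zero]
    rfl
  have h2 : S.e 0 p u = t * S.e 0 1 0 * t⁻¹ * S.e 0 0 u := by
    rw [h1, S.e_mul, map_zero, mul_zero, add_zero, add_zero, zero_add]
  have h3 := hT t htT _ (hw _ (hT t⁻¹ (inv_mem htT) _ (hz u y hy)))
  have e : t * (S.e 0 1 0 * (t⁻¹ * (S.e 0 0 u * y * (S.e 0 0 u)⁻¹) * t⁻¹⁻¹) * (S.e 0 1 0)⁻¹) * t⁻¹ =
      S.e 0 p u * y * (S.e 0 p u)⁻¹ := by
    rw [h2]; group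
  rwa [e] at h3

/-- `X_0` normalises `RR` -/
theorem conj_X0_RR {x : G} (hx : x ∈ S.XZ 0) : ∀ y ∈ RR S, x * y * x⁻¹ ∈ RR S := by
  have hle : S.Zc 0 ⊔ S.Zc 4 ≤ RR S := sup_le (Z0_RR S) (Z4_RR S)
  have hx' := conj_X0 S hx
  obtain ⟨p, u, rfl⟩ := (mem_X0 S).1 hx
  have h2 : ∀ a ∈ S.Zc 2, S.e 0 p u * a * (S.e 0 p u)⁻¹ ∈ RR S := by
    rintro _ ⟨v, rfl⟩
    have h := S.e_e2 0 p u 0 v
    rw [show (0 : ZMod 8) + 2 = 2 by decide] at h
    rw [h, mul_inv_cancel_right]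
    exact Z2_RR S ⟨_, rfl⟩
  have h6 : ∀ a ∈ S.Zc 6, S.e 0 p u * a * (S.e 0 p u)⁻¹ ∈ RR S := by
    rintro _ ⟨v, rfl⟩
    have h := S.e_e2 6 0 v p u
    rw [show (6 : ZMod 8) + 2 = 0 by decide] at h
    rw [← h, mul_inv_cancel_right]
    exact Z6_RR S ⟨_, rfl⟩
  refine conj_sup (conj_sup (conj_sup ?_ h2) ?_) h6
  · exact fun a ha => hle (hx' a (mem_sup_left ha))
  · exact fun a ha => hle (hx' a (mem_sup_right ha))

/-- `rot²` normalises `RR` -/
theorem rot_RR : ∀ y ∈ RR S, S.ck 2 y ∈ RR S := by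
  have h0 : ∀ a ∈ S.Zc 0, S.rot ^ (2 : ℤ) * a * (S.rot ^ (2 : ℤ))⁻¹ ∈ RR S := by
    rintro _ ⟨v, rfl⟩
    rw [S.rotk_e]
    exact Z2_RR S ⟨v, rfl⟩
  have h2 : ∀ a ∈ S.Zc 2, S.rot ^ (2 : ℤ) * a * (S.rot ^ (2 : ℤ))⁻¹ ∈ RR S := by
    rintro _ ⟨v, rfl⟩
    rw [S.rotk_e]
    exact Z4_RR S ⟨v, rfl⟩
  have h4 : ∀ a ∈ S.Zc 4, S.rot ^ (2 : ℤ) * a * (S.rot ^ (2 : ℤ))⁻¹ ∈ RR S := by
    rintro _ ⟨v, rfl⟩
    rw [S.rotk_e]
    exact Z6_RR S ⟨v, rfl⟩
  have h6 : ∀ a ∈ S.Zc 6, S.rot ^ (2 : ℤ) * a * (S.rot ^ (2 : ℤ))⁻¹ ∈ RR S := by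
    rintro _ ⟨v, rfl⟩
    rw [S.rotk_e]
    exact Z0_RR S ⟨v, rfl⟩
  exact conj_sup (conj_sup (conj_sup h0 h2) h4) h6

theorem rot_RR' : ∀ y ∈ RR S, S.ck (-2) y ∈ RR S := by
  have h0 : ∀ a ∈ S.Zc 0, S.rot ^ (-2 : ℤ) * a * (S.rot ^ (-2 : ℤ))⁻¹ ∈ RR S := by
    rintro _ ⟨v, rfl⟩
    rw [S.rotk_e]
    exact Z6_RR S ⟨v, rfl⟩
  have h2 : ∀ a ∈ S.Zc 2, S.rot ^ (-2 : ℤ) * a * (S.rot ^ (-2 : ℤ))⁻¹ ∈ RR S := by
    rintro _ ⟨v, rfl⟩
    rw [S.rotk_e]
    exact Z0_RR S ⟨v, rfl⟩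
  have h4 : ∀ a ∈ S.Zc 4, S.rot ^ (-2 : ℤ) * a * (S.rot ^ (-2 : ℤ))⁻¹ ∈ RR S := by
    rintro _ ⟨v, rfl⟩
    rw [S.rotk_e]
    exact Z2_RR S ⟨v, rfl⟩
  have h6 : ∀ a ∈ S.Zc 6, S.rot ^ (-2 : ℤ) * a * (S.rot ^ (-2 : ℤ))⁻¹ ∈ RR S := by
    rintro _ ⟨v, rfl⟩
    rw [S.rotk_e]
    exact Z4_RR S ⟨v, rfl⟩
  exact conj_sup (conj_sup (conj_sup h0 h2) h4) h6

/-- rotation of the invariance -/
theorem conj_step {k : ℤ} (h : ∀ x ∈ S.XZ k, ∀ y ∈ RR S, x * y * x⁻¹ ∈ RR S) :
    ∀ x ∈ S.XZ (k + 4), ∀ y ∈ RR S, x * y * x⁻¹ ∈ RR S := by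
  intro x hx y hy
  have h1 := S.rotk_X' (-2) _ hx
  rw [show k + 4 + 2 * -2 = k by ring] at h1
  have h2 := rot_RR S _ (h _ h1 _ (rot_RR' S y hy))
  rw [S.ck_apply, S.ck_apply] at h2
  have e : S.rot ^ (2 : ℤ) * (S.rot ^ (-2 : ℤ) * x * (S.rot ^ (-2 : ℤ))⁻¹ * (S.rot ^ (-2 : ℤ) * y * (S.rot ^ (-2 : ℤ))⁻¹) *
      (S.rot ^ (-2 : ℤ) * x * (S.rot ^ (-2 : ℤ))⁻¹)⁻¹) * (S.rot ^ (2 : ℤ))⁻¹ = x * y * x⁻¹ := by group
  rwa [e] at h2

theorem conj_X4_RR {x : G} (hx : x ∈ S.XZ 4) : ∀ y ∈ RR S, x * y * x⁻¹ ∈ RR S :=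
  conj_step S (k := 0) (fun x hx => conj_X0_RR S hx) x (by simpa using hx)

theorem conj_X8_RR {x : G} (hx : x ∈ S.XZ 8) : ∀ y ∈ RR S, x * y * x⁻¹ ∈ RR S :=
  conj_step S (k := 4) (fun x hx => conj_X4_RR S hx) x (by norm_num; exact hx)

theorem conj_X12_RR {x : G} (hx : x ∈ S.XZ 12) : ∀ y ∈ RR S, x * y * x⁻¹ ∈ RR S :=
  conj_step S (k := 8) (fun x hx => conj_X8_RR S hx) x (by norm_num; exact hx)

theorem conj_T_RR {t : G} (ht : t ∈ S.T) : ∀ y ∈ RR S, t * y * t⁻¹ ∈ RR S :=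
  conj_sup (conj_sup (conj_sup (fun _ ha => Z0_RR S (S.T_conj_Zc ht ha)) (fun _ ha => Z2_RR S (S.T_conj_Zc ht ha)))
    (fun _ ha => Z4_RR S (S.T_conj_Zc ht ha))) (fun _ ha => Z6_RR S (S.T_conj_Zc ht ha))

theorem le_norm_of {L R : Subgroup G} (h : ∀ x ∈ L, ∀ y ∈ R, x * y * x⁻¹ ∈ R) : L ≤ normalizer (R : Set G) := by
  intro x hx
  rw [mem_normalizer_iff]
  intro y
  refine ⟨fun hy => h x hx y hy, fun hy => ?_⟩
  have h1 := h x⁻¹ (inv_mem hx) _ hy
  have e : x⁻¹ * (x * y * x⁻¹) * x⁻¹⁻¹ = y := by group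
  rwa [e] at h1

/-! ### (1) -/

theorem X0_le : S.XZ 0 ≤ normalizer (RR S : Set G) := le_norm_of fun _ hx => conj_X0_RR S hx
theorem X4_le : S.XZ 4 ≤ normalizer (RR S : Set G) := le_norm_of fun _ hx => conj_X4_RR S hx
theorem X8_le : S.XZ 8 ≤ normalizer (RR S : Set G) := le_norm_of fun _ hx => conj_X8_RR S hx
theorem X12_le : S.XZ 12 ≤ normalizer (RR S : Set G) := le_norm_of fun _ hx => conj_X12_RR S hx
theorem T_le : S.T ≤ normalizer (RR S : Set G) := le_norm_of fun _ hx => conj_T_RR S hx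

/-! ### The conjugates of `Z_4` -/

theorem cj_Zc_rot (k : ℤ) (a : ZMod 8) : cj (S.rot ^ k) (S.Zc a) = S.Zc (a + k) := S.map_Zc k a

theorem cj_Zc_n2 (a : ZMod 8) : cj S.n2 (S.Zc a) = S.Zc (4 - a) := by
  have hi : S.n2⁻¹ = S.n2 := inv_eq_of_mul_eq_one_left S.n2_sq
  ext x
  rw [mem_cj, hi]
  constructor
  · rintro ⟨u, hu⟩
    refine ⟨u, ?_⟩
    rw [← S.n2_e, hu, hi]
    calc S.n2 * (S.n2 * x * S.n2) * S.n2 = (S.n2 * S.n2) * x * (S.n2 * S.n2) := by group
      _ = x := by rw [S.n2_sq]; group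
  · rintro ⟨u, rfl⟩
    refine ⟨u, ?_⟩
    have := S.n2_e (4 - a) 0 u
    rw [hi, sub_sub_cancel] at this
    exact this.symm

theorem cj_Zc_PL {y : G} (hy : y ∈ S.PL) : cj y (S.Zc 2) = S.Zc 2 := by
  refine cj_eq_of (fun x hx => ?_) fun x hx => ?_
  · rw [S.comm_PL hy hx, mul_inv_cancel_right]
    exact hx
  · rw [mul_assoc, ← S.comm_PL hy hx, inv_mul_cancel_left]
    exact hx

/-- the form of a conjugate of `Z_4` -/
theorem form (g : G) : ∃ x ∈ S.XZ 8, ∃ y ∈ J S.XZ 1 7, ∃ a : ZMod 8, cj g (S.Zc 2) = cj x (cj y (S.Zc a)) := by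
  obtain ⟨b, hb, t, ht, w, ⟨c, hc | hc⟩, b', hb', rfl⟩ := S.bruhatE g
  · obtain ⟨v, hv⟩ : ∃ v, v = w * S.rot ^ (-c) := ⟨_, rfl⟩
    have hwT : v ∈ S.T := by
      rw [hv, S.T_iff]
      exact (hc.mul (S.rot_maps (-c))).congr fun k => by
        show ((2 * c : ℤ) : ZMod (2 * 8)) + (((2 * -c : ℤ) : ZMod (2 * 8)) + k) = id k
        push_cast
        simp only [id]
        ring
    obtain ⟨x, hx, y, hy, rfl⟩ := S.zsys8.split_rl (a := 1) (b := 8) (by norm_num) (by norm_num) hb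
    refine ⟨x, hx, y, hy, 2 + c, ?_⟩
    have e : x * y * t * w * b' = x * (y * (t * (v * (S.rot ^ c * b')))) := by rw [hv]; group
    rw [e, cj_mul, cj_mul, cj_mul, cj_mul, cj_mul, cj_Zc_PL S (J_mono (by norm_num) le_rfl hb'), cj_Zc_rot,
      cj_T_Zc S hwT, cj_T_Zc S ht]
  · obtain ⟨v, hv⟩ : ∃ v, v = w * (S.n2 * S.rot ^ (4 - c)) := ⟨_, rfl⟩
    have hwT : v ∈ S.T := by
      rw [hv, S.T_iff]
      exact (hc.mul (S.n2_maps.mul (S.rot_maps (4 - c)))).congr fun k => by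
        show ((2 * c : ℤ) : ZMod (2 * 8)) - (8 - (((2 * (4 - c) : ℤ) : ZMod (2 * 8)) + k)) = id k
        push_cast
        simp only [id]
        ring
    obtain ⟨x, hx, y, hy, rfl⟩ := S.zsys8.split_rl (a := 1) (b := 8) (by norm_num) (by norm_num) hb
    have hi : S.n2⁻¹ = S.n2 := inv_eq_of_mul_eq_one_left S.n2_sq
    refine ⟨x, hx, y, hy, 2 + ((-(4 - c) : ℤ) : ZMod 8), ?_⟩
    have e : x * y * t * w * b' = x * (y * (t * (v * (S.rot ^ (-(4 - c)) * (S.n2 * b'))))) := by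
      rw [hv]
      nth_rewrite 2 [← hi]
      group
    rw [e, cj_mul, cj_mul, cj_mul, cj_mul, cj_mul, cj_mul, cj_Zc_PL S (J_mono (by norm_num) le_rfl hb'), cj_Zc_n2,
      show (4 - 2 : ZMod 8) = 2 by decide, cj_Zc_rot, cj_T_Zc S hwT, cj_T_Zc S ht]

theorem X4_sq {q : G} (hq : q ∈ S.XZ 4) (h2 : q * q = 1) : q ∈ S.Zc 2 := by
  obtain ⟨p, u, rfl⟩ := (S.mem_XZ_even 2 q).1 hq
  rw [S.e_mul, char2 S, char2 S, zero_add] at h2
  have h3 := (S.e_eq_one h2).2
  have hp : p = 0 := by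
    rcases mul_eq_zero.1 h3 with h4 | h4
    · exact h4
    · exact (map_eq_zero σ).1 h4
  subst hp
  exact ⟨u, rfl⟩

theorem n2_J17 {y : G} (hy : y ∈ J S.XZ 1 7) : S.n2 * y * S.n2⁻¹ ∈ J S.XZ 1 7 :=
  S.n2_refl.mem_J hy (by norm_num) (by norm_num)

/-- an element of the torus in `⟨Z_0, Z_8⟩` -/
theorem exists_h (hF : ∃ c : Fˣ, c ≠ 1) : ∃ t ∈ S.Tk 4, t ≠ 1 ∧ t ∈ S.Zc 0 ⊔ S.Zc 4 := by
  obtain ⟨c, hc⟩ := hF
  set t0 := S.h c (Units.map (σ : F →* F) c) with ht0
  have ht0T : t0 ∈ S.T := S.mem_T.2 ⟨_, _, rfl⟩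
  have hn2 : S.n2 ∈ S.Zc 0 ⊔ S.Zc 4 := by
    rw [n2_word' S]
    refine conj_X0 S ((mem_X0 S).2 ⟨1, 0, rfl⟩) _ (mem_sup_right ⟨_, rfl⟩)
  have h1 : t0 * S.n2 * t0⁻¹ ∈ S.Zc 0 ⊔ S.Zc 4 :=
    conj_sup (fun a ha => mem_sup_left (S.T_conj_Zc ht0T ha)) (fun a ha => mem_sup_right (S.T_conj_Zc ht0T ha)) _ hn2
  have h2 := mul_mem h1 (inv_mem hn2)
  have e1 : t0 * S.n2 * t0⁻¹ * S.n2⁻¹ = t0 * (S.n2 * t0⁻¹ * S.n2⁻¹) := by group
  rw [e1, ht0, S.h_inv, S.n2_h, S.h_mul, inv_inv] at h2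
  have e2 : (Units.map (σ : F →* F) c)⁻¹ / Units.map (σ : F →* F) c⁻¹ = 1 := by rw [map_inv, div_self']
  rw [e2, mul_one] at h2
  refine ⟨S.h (c * c) (Units.map (σ : F →* F) c), mem_inf.mpr ⟨S.mem_T.2 ⟨_, _, rfl⟩, ?_⟩, ?_, h2⟩
  · have hle : S.Zc 0 ⊔ S.Zc 4 ≤ centralizer (S.XZ 4 : Set G) := by
      refine sup_le ?_ ?_
      · rintro _ ⟨v, rfl⟩
        refine mem_centralizer_iff.2 fun x hx => ?_
        obtain ⟨p, u, rfl⟩ := (S.mem_XZ_even 2 x).1 hx
        have h := S.e_e2 0 0 v p u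
        rw [show (0 : ZMod 8) + 2 = 2 by decide] at h
        exact h.symm
      · rintro _ ⟨v, rfl⟩
        refine mem_centralizer_iff.2 fun x hx => ?_
        obtain ⟨p, u, rfl⟩ := (S.mem_XZ_even 2 x).1 hx
        have h := S.e_e2 2 p u 0 v
        rw [show (2 : ZMod 8) + 2 = 4 by decide] at h
        exact h
    exact hle h2
  · intro h
    have h3 := (S.h_inj _ _ _ _ (h.trans S.h_one.symm)).1
    exact hc (unit_sq S h3)

/-- an element of the torus in `⟨Z_4, Z_12⟩` -/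
theorem exists_h' (hF : ∃ c : Fˣ, c ≠ 1) : ∃ t ∈ S.Tk 8, t ≠ 1 ∧ t ∈ S.Zc 2 ⊔ S.Zc 6 := by
  obtain ⟨t, ht, ht1, htA⟩ := exists_h S hF
  refine ⟨S.ck 2 t, ?_, ?_, ?_⟩
  · have := S.ck_Tk 2 ht
    norm_num at this
    exact this
  · intro h
    exact ht1 ((map_eq_one_iff (S.ck 2) (S.ck 2).injective).1 h)
  · have h1 : S.Zc 0 ⊔ S.Zc 4 ≤ (S.Zc 2 ⊔ S.Zc 6).comap (S.ck 2).toMonoidHom := by
      refine sup_le ?_ ?_
      · rintro _ ⟨v, rfl⟩
        refine mem_sup_left ?_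
        show S.ck 2 (S.e 0 0 v) ∈ S.Zc 2
        rw [S.ck_e]
        exact ⟨v, rfl⟩
      · rintro _ ⟨v, rfl⟩
        refine mem_sup_right ?_
        show S.ck 2 (S.e 4 0 v) ∈ S.Zc 6
        rw [S.ck_e]
        exact ⟨v, rfl⟩
    exact h1 htA

theorem y_comm {y z : G} (hy : y ∈ J S.XZ 1 7) (hz : z ∈ S.Zc 2) : y * z * y⁻¹ = z := by
  rw [S.comm_PL (J_mono (by norm_num) (by norm_num) hy) hz, mul_inv_cancel_right]

namespace Hyp

variable {S} {K : Subgroup G} (h : Hyp S K)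
include h

section Cases

variable [Finite F] [Finite G] (hF : ∃ c : Fˣ, c ≠ 1) (hR : S.R.p = 2)
include hF hR

theorem no_near {y z : G} (hy : y ∈ J S.XZ 1 7) (hz7 : z ∈ J S.XZ 1 7) (hz2 : z * z = 1) (hz4 : z ∉ S.XZ 4)
    (hK : y * z * y⁻¹ ∈ K) : False := by
  have h1 := h.inf_Q hF hR (mul_mem (mul_mem hy hz7) (inv_mem hy)) hK
  have h2 : y * z * y⁻¹ * (y * z * y⁻¹) = 1 := by
    have e : y * z * y⁻¹ * (y * z * y⁻¹) = y * (z * z) * y⁻¹ := by group
    rw [e, hz2]; group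
  have h3 := X4_sq S h1 h2
  have h4 := y_comm S (inv_mem hy) h3
  have e : y⁻¹ * (y * z * y⁻¹) * y⁻¹⁻¹ = z := by group
  rw [e] at h4
  apply hz4
  rw [h4]
  exact h1

theorem no_seven {y : G} (hy : y ∈ J S.XZ 1 7) (hK : ∀ z ∈ S.Zc 7, y * z * y⁻¹ ∈ K) : False := by
  set V := ⁅S.Zc 7, S.Zc 2⁆ with hV
  have hVT : ∀ t ∈ S.T, ∀ v ∈ V, t * v * t⁻¹ ∈ V := by
    intro t ht
    have h1 : V ≤ V.comap (MulAut.conj t).toMonoidHom := by
      rw [hV, commutator_le]
      intro a ha b hb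
      show (MulAut.conj t) ⁅a, b⁆ ∈ (⁅S.Zc 7, S.Zc 2⁆ : Subgroup G)
      rw [map_commutatorElement]
      exact commutator_mem_commutator (S.T_conj_Zc ht ha) (S.T_conj_Zc ht hb)
    exact fun v hv => h1 hv
  have hVK : ∀ v ∈ V, y * v * y⁻¹ ∈ K := by
    have h1 : V ≤ K.comap (MulAut.conj y).toMonoidHom := by
      rw [hV, commutator_le]
      intro a ha b hb
      have hb' : y * b * y⁻¹ ∈ K := by
        rw [y_comm S hy hb]
        obtain ⟨v, rfl⟩ := hb
        exact h.e2 0 v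
      show (MulAut.conj y) ⁅a, b⁆ ∈ K
      rw [map_commutatorElement, commutatorElement_def]
      exact mul_mem (mul_mem (mul_mem (hK a ha) hb') (inv_mem (hK a ha))) (inv_mem hb')
    exact fun v hv => h1 hv
  have hrel := S.e_e3 7 0 1 0 1
  rw [show (7 : ZMod 8) + 3 = 2 by decide, show (7 : ZMod 8) + 1 = 0 by decide,
    show (7 : ZMod 8) + 2 = 1 by decide] at hrel
  simp only [map_one, map_zero, mul_zero, mul_one, add_zero, zero_add, S.o_zero] at hrel
  have hm : S.e 0 0 1 * (S.o 0 1 * S.e 1 0 1) ∈ V := by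
    have h1 : ⁅(S.e 7 0 1)⁻¹, (S.e 2 0 1)⁻¹⁆ ∈ V :=
      commutator_mem_commutator (inv_mem ⟨1, rfl⟩) (inv_mem ⟨1, rfl⟩)
    have e : ⁅(S.e 7 0 1)⁻¹, (S.e 2 0 1)⁻¹⁆ = (S.e 2 0 1 * S.e 7 0 1)⁻¹ * (S.e 7 0 1 * S.e 2 0 1) := by
      rw [commutatorElement_def]; group
    rw [e, hrel] at h1
    have e2 : (S.e 2 0 1 * S.e 7 0 1)⁻¹ * (S.e 2 0 1 * S.e 7 0 1 * S.e 0 0 1 * S.o 0 1 * S.e 1 0 1) =
        S.e 0 0 1 * (S.o 0 1 * S.e 1 0 1) := by group
    rwa [e2] at h1
  have hX0 : S.e 0 0 1 ∈ S.XZ 0 := (mem_X0 S).2 ⟨0, 1, rfl⟩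
  have hX1 : S.o 0 1 ∈ S.XZ 1 := (mem_X1 S).2 ⟨1, rfl⟩
  have hX2 : S.e 1 0 1 ∈ S.XZ 2 := by have := S.e_mem 1 0 1; push_cast at this; exact this
  have h1 := peel_left S hF hR (a := 0) (b := 2) (by norm_num) (by norm_num) hVT hX0
    (mul_mem (mem_J hX1 (by norm_num) (by norm_num)) (mem_J hX2 (by norm_num) (by norm_num))) hm
  have h2 : S.o 0 1 * S.e 1 0 1 ∈ V := (mul_mem_cancel_left h1).1 hm
  have h3 := peel_left S hF hR (a := 1) (b := 2) (by norm_num) (by norm_num) hVT hX1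
    (mem_J hX2 (by norm_num) (by norm_num)) h2
  have h4 := hVK _ h3
  have h5 := h.inf_Q hF hR (mul_mem (mul_mem hy (mem_J hX1 (by norm_num) (by norm_num))) (inv_mem hy)) h4
  obtain ⟨x1, hx1, y', hy', rfl⟩ := S.zsys8.split_ll (a := 1) (b := 7) (by norm_num) (by norm_num) hy
  have h6 := S.zsys8.comm_J_left' (c := 1) (a := 2) (b := 7) (by norm_num) (by norm_num) hy' hX1
  have h7 := S.zsys8.conj_X (a := 2) (b := 6) (k := 1) (by norm_num) (by norm_num) (by norm_num) hx1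
    (by simpa using h6)
  have hc : x1 * S.o 0 1 * x1⁻¹ = S.o 0 1 := by
    obtain ⟨s, rfl⟩ := (mem_X1 S).1 hx1
    rw [S.o_add, add_comm, ← S.o_add, mul_inv_cancel_right]
  have h8 : S.o 0 1 = (x1 * ⁅y', S.o 0 1⁆ * x1⁻¹)⁻¹ * (x1 * y' * S.o 0 1 * (x1 * y')⁻¹) := by
    conv_lhs => rw [← hc]
    rw [commutatorElement_def]
    group
  have h9 : S.o 0 1 ∈ J S.XZ 2 8 := by
    rw [h8]
    exact mul_mem (inv_mem (J_mono le_rfl (by norm_num) h7)) (mem_J h5 (by norm_num) (by norm_num))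
  exact one_ne_zero (S.o_eq_one (S.zsys8.inter 1 _ hX1 (by simpa using h9)))

theorem no_five {y : G} (hy : y ∈ J S.XZ 1 7) (hK : ∀ z ∈ S.Zc 5, y * z * y⁻¹ ∈ K) : False := by
  refine h.no_seven hF hR (n2_J17 S hy) ?_
  rintro _ ⟨v, rfl⟩
  have h1 : S.e 7 0 v = S.n2 * S.e 5 0 v * S.n2⁻¹ := by
    rw [S.n2_e, show (4 - 5 : ZMod 8) = 7 by decide]
  have e : S.n2 * y * S.n2⁻¹ * S.e 7 0 v * (S.n2 * y * S.n2⁻¹)⁻¹ = S.n2 * (y * S.e 5 0 v * y⁻¹) * S.n2⁻¹ := by
    rw [h1]; group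
  rw [e]
  exact mul_mem (mul_mem h.n2_mem (hK _ ⟨v, rfl⟩)) (inv_mem h.n2_mem)

/-- `y Z_12 y⁻¹ ≤ K` only for `y ∈ X_4` -/
theorem six {y : G} (hy : y ∈ J S.XZ 1 7) (hK : ∀ z ∈ S.Zc 6, y * z * y⁻¹ ∈ K) : y ∈ S.XZ 4 := by
  obtain ⟨t, ht, ht1, htC⟩ := exists_h' S hF
  have htT := S.Tk_le _ ht
  have hle : S.Zc 2 ⊔ S.Zc 6 ≤ K.comap (MulAut.conj y).toMonoidHom := by
    refine sup_le ?_ hK
    intro z hz
    show y * z * y⁻¹ ∈ K
    rw [y_comm S hy hz]
    obtain ⟨v, rfl⟩ := hz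
    exact h.e2 0 v
  have h1 : y * t * y⁻¹ ∈ K := hle htC
  have h2 : y * t * y⁻¹ * t⁻¹ ∈ K := mul_mem h1 (inv_mem (h.T htT))
  have h3 : y * t * y⁻¹ * t⁻¹ ∈ J S.XZ 1 7 := by
    have e : y * t * y⁻¹ * t⁻¹ = y * (t * y⁻¹ * t⁻¹) := by group
    rw [e]
    exact mul_mem hy (S.T_conj_J htT (inv_mem hy))
  have h4 := h.inf_Q hF hR h3 h2
  -- a bijection of `X_4`
  let f : S.XZ 4 → S.XZ 4 := fun x => ⟨x * t * (x : G)⁻¹ * t⁻¹, by
    have e : (x : G) * t * (x : G)⁻¹ * t⁻¹ = x * (t * (x : G)⁻¹ * t⁻¹) := by group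
    rw [e]
    exact mul_mem x.2 (S.T_conj htT 4 (inv_mem x.2))⟩
  have hfpf : ∀ j : ℤ, 1 ≤ j → j ≤ 7 → ∀ x ∈ S.XZ j, t * x * t⁻¹ = x → x = 1 := fun j h1 h2 x hx hfix =>
    S.fpf (k := 8) (j := j) (by omega) ht ht1 hx hfix
  have hf : Function.Injective f := by
    intro a b hab
    have h5 : (a : G) * t * (a : G)⁻¹ * t⁻¹ = b * t * (b : G)⁻¹ * t⁻¹ := congrArg Subtype.val hab
    have h6 : t * ((b : G)⁻¹ * a) * t⁻¹ = (b : G)⁻¹ * a := by
      have h7 : (a : G) * t * (a : G)⁻¹ = b * t * (b : G)⁻¹ := mul_right_cancel h5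
      calc t * ((b : G)⁻¹ * a) * t⁻¹ = (b : G)⁻¹ * (b * t * (b : G)⁻¹) * a * t⁻¹ := by group
        _ = (b : G)⁻¹ * (a * t * (a : G)⁻¹) * a * t⁻¹ := by rw [h7]
        _ = _ := by group
    have h8 := hfpf 4 (by norm_num) (by norm_num) _ (mul_mem (inv_mem b.2) a.2) h6
    exact Subtype.ext (inv_mul_eq_one.1 h8).symm
  obtain ⟨⟨x, hx⟩, hxf⟩ := (Finite.injective_iff_surjective.1 hf) ⟨_, h4⟩
  have h5 : x * t * x⁻¹ * t⁻¹ = y * t * y⁻¹ * t⁻¹ := congrArg Subtype.val hxf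
  have h6 : t * (x⁻¹ * y) * t⁻¹ = x⁻¹ * y := by
    have h7 : x * t * x⁻¹ = y * t * y⁻¹ := mul_right_cancel h5
    calc t * (x⁻¹ * y) * t⁻¹ = x⁻¹ * (x * t * x⁻¹) * y * t⁻¹ := by group
      _ = x⁻¹ * (y * t * y⁻¹) * y * t⁻¹ := by rw [h7]
      _ = _ := by group
  have h7 := S.fix_J_one htT (a := 1) (b := 7) (by norm_num) hfpf
    (mul_mem (inv_mem (mem_J hx (by norm_num) (by norm_num))) hy) h6
  rw [inv_mul_eq_one.1 h7] at hx
  exact hx

/-- `y Z_8 y⁻¹ ≤ K` only if `y` centralises `Z_8` -/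
theorem four {y : G} (hy : y ∈ J S.XZ 1 7) (hK : ∀ z ∈ S.Zc 4, y * z * y⁻¹ ∈ K) : ∀ z ∈ S.Zc 4, y * z * y⁻¹ = z := by
  rintro _ ⟨u, rfl⟩
  have hz8 : S.e 4 0 u ∈ S.XZ 8 := (mem_X8 S).2 ⟨0, u, rfl⟩
  have hzK : S.e 4 0 u ∈ K := h.e4 0 u
  set z := S.e 4 0 u with hz
  have hzz : z * z = 1 := z_sq S 4 u
  set q := z⁻¹ * (y * z * y⁻¹) with hq
  have hqK : q ∈ K := mul_mem (inv_mem hzK) (hK _ ⟨u, rfl⟩)
  have hqJ : q ∈ J S.XZ 1 7 := by
    have e : q = (z⁻¹ * y * z⁻¹⁻¹) * y⁻¹ := by rw [hq]; group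
    rw [e]
    exact mul_mem (S.zsys8.conj_X (a := 1) (b := 7) (k := 8) (by norm_num) (by norm_num) (by norm_num)
      (inv_mem hz8) hy) (inv_mem hy)
  have hq4 := h.inf_Q hF hR hqJ hqK
  have hcomm : z * q = q * z := by
    obtain ⟨p, v, hpv⟩ := (S.mem_XZ_even 2 q).1 hq4
    rw [← hpv, hz]
    have h := S.e_e2 2 p v 0 u
    rw [show (2 : ZMod 8) + 2 = 4 by decide] at h
    exact h.symm
  have hyz : y * z * y⁻¹ = z * q := by rw [hq]; group
  have hqq : q * q = 1 := by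
    have h1 : (z * q) * (z * q) = 1 := by
      rw [← hyz]
      have e : y * z * y⁻¹ * (y * z * y⁻¹) = y * (z * z) * y⁻¹ := by group
      rw [e, hzz]; group
    have h2 : (z * q) * (z * q) = (z * z) * (q * q) := by
      calc (z * q) * (z * q) = z * (q * z) * q := by group
        _ = z * (z * q) * q := by rw [hcomm]
        _ = _ := by group
    rw [h2, hzz, one_mul] at h1
    exact h1
  obtain ⟨v, hv⟩ := X4_sq S hq4 hqq
  by_cases hu : u = 0
  · subst hu
    rw [hz, S.e_zero]; group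
  by_cases hv0 : v = 0
  · subst hv0
    rw [hyz, ← hv, S.e_zero, mul_one]
  exfalso
  obtain ⟨w, hw⟩ := TorEx.exists_pw S (e := ((2, 1) : ℤ × ℤ)) (by decide) (Units.mk0 v hv0 / Units.mk0 u hu)
  have hwv : (w : F) * w * σ w * u = v := by
    have h1 := congrArg Units.val hw
    rw [Units.val_div_eq_div_val] at h1
    have h2 : ((TorEx.pw σ w ((2, 1) : ℤ × ℤ) : Fˣ) : F) = (w : F) * w * σ w := by
      unfold TorEx.pw
      rw [Units.val_mul]
      show ((w ^ (2 : ℤ) : Fˣ) : F) * (((Units.map (σ : F →* F) w) ^ (1 : ℤ) : Fˣ) : F) = _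
      rw [zpow_one, show ((2 : ℤ)) = ((2 : ℕ) : ℤ) by rfl, zpow_natCast, pow_two, Units.val_mul]
      rfl
    rw [h2] at h1
    rw [h1]
    show v / u * u = v
    exact div_mul_cancel₀ _ hu
  have hcj : Cj (S.o 3 (w * u)) (z * q) := by
    have := zz_conj S (p := (w : F)) (v := u) w.ne_zero hu
    rwa [hwv, hv, ← hz] at this
  obtain ⟨k, hk⟩ := hcj
  -- `o 3 ~ o 2`, `e 4 ~ e 2`
  have h1 : S.rot ^ (-2 : ℤ) * S.e 4 0 u * (S.rot ^ (-2 : ℤ))⁻¹ = S.e 2 0 u := by
    rw [S.rotk_e, show (4 : ZMod 8) + ((-2 : ℤ) : ZMod 8) = 2 by decide]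
  have h2 : S.rot ^ (-1 : ℤ) * S.o 3 (w * u) * (S.rot ^ (-1 : ℤ))⁻¹ = S.o 2 (w * u) := by
    rw [S.rotk_o, show (3 : ZMod 8) + ((-1 : ℤ) : ZMod 8) = 2 by decide]
  refine S.not_conj (z := S.e 2 0 u) ⟨u, rfl⟩ (s := w * u) (mul_ne_zero w.ne_zero hu)
    (S.rot ^ (-1 : ℤ) * k⁻¹ * y * (S.rot ^ (-2 : ℤ))⁻¹) ?_
  rw [← h1, ← h2]
  have h3 : k⁻¹ * (y * z * y⁻¹) * k = S.o 3 (w * u) := by
    rw [hyz, ← hk]; group
  rw [← h3, hz]
  group

theorem zero {y : G} (hy : y ∈ J S.XZ 1 7) (hK : ∀ z ∈ S.Zc 0, y * z * y⁻¹ ∈ K) : ∀ z ∈ S.Zc 0, y * z * y⁻¹ = z := by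
  have h1 : ∀ z ∈ S.Zc 4, (S.n2 * y * S.n2⁻¹) * z * (S.n2 * y * S.n2⁻¹)⁻¹ = z := by
    refine h.four hF hR (n2_J17 S hy) ?_
    rintro _ ⟨v, rfl⟩
    have h1 : S.e 4 0 v = S.n2 * S.e 0 0 v * S.n2⁻¹ := by rw [S.n2_e, sub_zero]
    have e : S.n2 * y * S.n2⁻¹ * S.e 4 0 v * (S.n2 * y * S.n2⁻¹)⁻¹ = S.n2 * (y * S.e 0 0 v * y⁻¹) * S.n2⁻¹ := by
      rw [h1]; group
    rw [e]
    exact mul_mem (mul_mem h.n2_mem (hK _ ⟨v, rfl⟩)) (inv_mem h.n2_mem)
  rintro _ ⟨v, rfl⟩
  have h2 := h1 (S.e 4 0 v) ⟨v, rfl⟩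
  have h3 : S.e 4 0 v = S.n2 * S.e 0 0 v * S.n2⁻¹ := by rw [S.n2_e, sub_zero]
  rw [h3] at h2
  have e : S.n2 * y * S.n2⁻¹ * (S.n2 * S.e 0 0 v * S.n2⁻¹) * (S.n2 * y * S.n2⁻¹)⁻¹ =
      S.n2 * (y * S.e 0 0 v * y⁻¹) * S.n2⁻¹ := by group
  rw [e] at h2
  exact mul_left_cancel (mul_right_cancel h2)

end Cases

end Hyp

end Cfsg.Agent.H823.TwFSz
end

-- part: H823/TwFSzC
section
/-!
# The normaliser of `Sz(q) × Sz(q)` in `²F₄(q)`, `q ≥ 8`, III (helper823, task 1433)

* `Hyp.cases` : the conjugates of `Z_4` contained in `K`; `cls`;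
* `le_norm`, `coatom`, `no_sylow`.
-/

set_option autoImplicit false
set_option linter.unusedSectionVars false

namespace Cfsg.Agent.H823.TwFSz

open Subgroup
open scoped commutatorElement
open Cfsg.Agent.KFacts.TwF4 Cfsg.Agent.KFacts.TwF4.Full Cfsg.Agent.KFacts.TwF4.Arc
open Cfsg.Agent.KFacts.TwF4.Inv Cfsg.Agent.KFacts.TwF4.SylU Cfsg.Agent.KFacts.TwF4.Perf
open Cfsg.Agent.KFacts.TwF4.Irr
open Cfsg.Agent.SplitTwo Cfsg.Agent.SplitTwo.ZS Cfsg.Agent.TitsThree.RankTwoZ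
open Cfsg.Agent.SplitTwo.RootSysZ
open Cfsg.Agent.H99.CL2F4 (nn nn_e e2_word eight eq_top_of_ZO cj_eq_of cj_T_Zc cj_e_Zc odd_order)
open Cfsg.Agent.H939.KLat (cj mem_cj conj_mem_cj cj_mul cj_cj_inv cj_inv_cj cj_mono cj_one)

universe u

variable {F : Type*} [Field F] {σ : F →+* F} {G : Type u} [Group G] (S : Full σ G)

/-! ### commutation at 90 degrees -/

theorem cj_eq_of_comm {x : G} {A : Subgroup G} (h : ∀ z ∈ A, x * z = z * x) : cj x A = A := by
  refine cj_eq_of (fun z hz => ?_) fun z hz => ?_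
  · rw [h z hz, mul_inv_cancel_right]
    exact hz
  · rw [mul_assoc, ← h z hz, inv_mul_cancel_left]
    exact hz

theorem X8_Z4 {x : G} (hx : x ∈ S.XZ 8) : cj x (S.Zc 4) = S.Zc 4 := by
  obtain ⟨p, u, rfl⟩ := (mem_X8 S).1 hx
  exact cj_e_Zc S 4 p u

theorem X8_Z2 {x : G} (hx : x ∈ S.XZ 8) : cj x (S.Zc 2) = S.Zc 2 :=
  cj_Zc_PL S (mem_J hx (by norm_num) (by norm_num))

theorem X8_Z6 {x : G} (hx : x ∈ S.XZ 8) : cj x (S.Zc 6) = S.Zc 6 := by
  obtain ⟨p, u, rfl⟩ := (mem_X8 S).1 hx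
  refine cj_eq_of_comm ?_
  rintro _ ⟨v, rfl⟩
  have h := S.e_e2 4 p u 0 v
  rwa [show (4 : ZMod 8) + 2 = 6 by decide] at h

theorem X8_X4 {x y : G} (hx : x ∈ S.XZ 8) (hy : y ∈ S.XZ 4) : x * y = y * x := by
  obtain ⟨p, u, rfl⟩ := (mem_X8 S).1 hx
  obtain ⟨p', u', rfl⟩ := (S.mem_XZ_even 2 y).1 hy
  have h := S.e_e2 2 p' u' p u
  rw [show (2 : ZMod 8) + 2 = 4 by decide] at h
  exact h.symm

theorem X4_Z2 {x : G} (hx : x ∈ S.XZ 4) : cj x (S.Zc 2) = S.Zc 2 :=
  cj_Zc_PL S (mem_J hx (by norm_num) (by norm_num))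

theorem X4_Z4 {x : G} (hx : x ∈ S.XZ 4) : cj x (S.Zc 4) = S.Zc 4 := by
  refine cj_eq_of_comm ?_
  rintro _ ⟨v, rfl⟩
  exact (X8_X4 S ((mem_X8 S).2 ⟨0, v, rfl⟩) hx).symm

theorem X4_Z0 {x : G} (hx : x ∈ S.XZ 4) : cj x (S.Zc 0) = S.Zc 0 := by
  obtain ⟨p, u, rfl⟩ := (S.mem_XZ_even 2 x).1 hx
  refine cj_eq_of_comm ?_
  rintro _ ⟨v, rfl⟩
  have h := S.e_e2 0 0 v p u
  rw [show (0 : ZMod 8) + 2 = 2 by decide] at h
  exact h.symm

theorem Zc0_le : S.Zc 0 ≤ S.XZ 0 := by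
  rintro _ ⟨u, rfl⟩
  exact (mem_X0 S).2 ⟨0, u, rfl⟩

theorem Zc2_le : S.Zc 2 ≤ S.XZ 4 := by
  rintro _ ⟨u, rfl⟩
  exact (S.mem_XZ_even 2 _).2 ⟨0, u, rfl⟩

theorem Zc4_le : S.Zc 4 ≤ S.XZ 8 := by
  rintro _ ⟨u, rfl⟩
  exact (mem_X8 S).2 ⟨0, u, rfl⟩

theorem Zc6_le : S.Zc 6 ≤ S.XZ 12 := by
  rintro _ ⟨u, rfl⟩
  exact (S.mem_XZ_even 6 _).2 ⟨0, u, rfl⟩

theorem cj_le_RR {x : G} (hx : ∀ y ∈ RR S, x * y * x⁻¹ ∈ RR S) {A : Subgroup G} (hA : A ≤ RR S) :
    cj x A ≤ RR S := by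
  rintro _ ⟨a, ha, rfl⟩
  exact hx a (hA ha)

namespace Hyp

variable {S} {K : Subgroup G} (h : Hyp S K)
include h

section Cases

variable [Finite F] [Finite G] (hF : ∃ c : Fˣ, c ≠ 1) (hR : S.R.p = 2)
include hF hR

/-- the conjugates of `Z_4` contained in `K` -/
theorem cases {g : G} (hg : ∀ z ∈ S.Zc 2, g * z * g⁻¹ ∈ K) :
    cj g (S.Zc 2) = S.Zc 2 ∨ cj g (S.Zc 2) = S.Zc 4 ∨ (∃ x ∈ S.XZ 8, cj g (S.Zc 2) = cj x (S.Zc 0)) ∨
      ∃ x ∈ S.XZ 4, cj g (S.Zc 2) = cj x (S.Zc 6) := by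
  obtain ⟨x, hx, y, hy, a, hf⟩ := form S g
  have hyK : ∀ z ∈ S.Zc a, y * z * y⁻¹ ∈ K := by
    intro z hz
    have h1 : x * (y * z * y⁻¹) * x⁻¹ ∈ cj g (S.Zc 2) := by
      rw [hf]
      exact conj_mem_cj (conj_mem_cj hz)
    have h2 : x * (y * z * y⁻¹) * x⁻¹ ∈ K := by
      have h3 := hg _ (mem_cj.1 h1)
      have e : g * (g⁻¹ * (x * (y * z * y⁻¹) * x⁻¹) * g) * g⁻¹ = x * (y * z * y⁻¹) * x⁻¹ := by group
      rwa [e] at h3
    have h3 := mul_mem (mul_mem (inv_mem (h.X8 hx)) h2) (h.X8 hx)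
    have e : x⁻¹ * (x * (y * z * y⁻¹) * x⁻¹) * x = y * z * y⁻¹ := by group
    rwa [e] at h3
  rcases eight a with rfl | rfl | rfl | rfl | rfl | rfl | rfl | rfl
  · right; right; left
    refine ⟨x, hx, ?_⟩
    have h1 := h.zero hF hR hy hyK
    rw [hf, cj_eq_of_comm fun z hz => mul_inv_eq_iff_eq_mul.1 (h1 z hz)]
  · exfalso
    have hz : S.e 1 0 1 ∈ S.XZ 2 := by have := S.e_mem 1 0 1; push_cast at this; exact this
    refine h.no_near hF hR hy (mem_J hz (by norm_num) (by norm_num)) (z_sq S 1 1) (fun h4 => ?_) (hyK _ ⟨1, rfl⟩)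
    exact one_ne_zero (S.e_eq_one (S.zsys8.inter 2 _ hz (mem_J h4 (by norm_num) (by norm_num)))).2
  · left
    rw [hf, cj_Zc_PL S (J_mono (by norm_num) (by norm_num) hy), X8_Z2 S hx]
  · exfalso
    have hz : S.e 3 0 1 ∈ S.XZ 6 := by have := S.e_mem 3 0 1; push_cast at this; exact this
    refine h.no_near hF hR hy (mem_J hz (by norm_num) (by norm_num)) (z_sq S 3 1) (fun h4 => ?_) (hyK _ ⟨1, rfl⟩)
    exact one_ne_zero (S.e_eq_one (S.zsys8.inter 4 _ h4 (mem_J hz (by norm_num) (by norm_num)))).2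
  · right; left
    have h1 := h.four hF hR hy hyK
    rw [hf, cj_eq_of_comm fun z hz => mul_inv_eq_iff_eq_mul.1 (h1 z hz), X8_Z4 S hx]
  · exact (h.no_five hF hR hy hyK).elim
  · right; right; right
    have hy4 := h.six hF hR hy hyK
    refine ⟨y, hy4, ?_⟩
    rw [hf, ← cj_mul, X8_X4 S hx hy4, cj_mul, X8_Z6 S hx]
  · exact (h.no_seven hF hR hy hyK).elim

/-- the conjugates of `Z_4` in `K` -/
theorem cls' {g : G} (hg : ∀ z ∈ S.Zc 2, g * z * g⁻¹ ∈ K) :
    ∃ k ∈ K, ∃ a : ZMod 8, (a = 0 ∨ a = 2 ∨ a = 4 ∨ a = 6) ∧ cj g (S.Zc 2) = cj k (S.Zc a) ∧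
      cj g (S.Zc 2) ≤ RR S := by
  rcases h.cases hF hR hg with h1 | h1 | ⟨x, hx, h1⟩ | ⟨x, hx, h1⟩
  · refine ⟨1, one_mem _, 2, by decide, by rw [h1, cj_one], ?_⟩
    rw [h1]
    exact Z2_RR S
  · refine ⟨1, one_mem _, 4, by decide, by rw [h1, cj_one], ?_⟩
    rw [h1]
    exact Z4_RR S
  · refine ⟨x, h.X8 hx, 0, by decide, h1, ?_⟩
    rw [h1]
    exact cj_le_RR S (conj_X8_RR S hx) (Z0_RR S)
  · refine ⟨x, h.X4 hx, 6, by decide, h1, ?_⟩
    rw [h1]
    exact cj_le_RR S (conj_X4_RR S hx) (Z6_RR S)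

omit [Finite F] [Finite G] hF hR in
theorem Zc_le {a : ZMod 8} (ha : a = 0 ∨ a = 2 ∨ a = 4 ∨ a = 6) : S.Zc a ≤ K := by
  rcases ha with rfl | rfl | rfl | rfl
  · exact (Zc0_le S).trans h.X0
  · exact (Zc2_le S).trans h.X4
  · exact (Zc4_le S).trans h.X8
  · exact (Zc6_le S).trans h.X12

/-- (3) -/
theorem le_norm : K ≤ normalizer (RR S : Set G) := by
  refine le_norm_of fun k hk => ?_
  have key : ∀ a : ZMod 8, (a = 0 ∨ a = 2 ∨ a = 4 ∨ a = 6) → ∀ z ∈ S.Zc a, k * z * k⁻¹ ∈ RR S := by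
    intro a ha z hz
    obtain ⟨c, hc⟩ : ∃ c : ℤ, 2 + (c : ZMod 8) = a := by
      rcases ha with rfl | rfl | rfl | rfl
      · exact ⟨-2, by decide⟩
      · exact ⟨0, by decide⟩
      · exact ⟨2, by decide⟩
      · exact ⟨4, by decide⟩
    have h1 : cj (k * S.rot ^ c) (S.Zc 2) = cj k (S.Zc a) := by
      rw [cj_mul, cj_Zc_rot, hc]
    obtain ⟨k', hk', a', ha', h2, h3⟩ := h.cls' hF hR (g := k * S.rot ^ c) (fun z hz => by
      have h4 : k * S.rot ^ c * z * (k * S.rot ^ c)⁻¹ ∈ cj k (S.Zc a) := by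
        rw [← h1]
        exact conj_mem_cj hz
      have h5 := mul_mem (mul_mem hk (h.Zc_le ha (mem_cj.1 h4))) (inv_mem hk)
      have e : k * (k⁻¹ * (k * S.rot ^ c * z * (k * S.rot ^ c)⁻¹) * k) * k⁻¹ =
          k * S.rot ^ c * z * (k * S.rot ^ c)⁻¹ := by group
      rwa [e] at h5)
    apply h3
    rw [h1]
    exact conj_mem_cj hz
  exact conj_sup (conj_sup (conj_sup (key 0 (by decide)) (key 2 (by decide))) (key 4 (by decide))) (key 6 (by decide))

end Cases

end Hyp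

/-! ### (2), (3), (4) -/

section Main

variable [Finite F] [Finite G]

/-- `Z_0 ∩ X_8 = 1` -/
theorem Z0_X8 {z : G} (h0 : z ∈ S.Zc 0) (h8 : z ∈ S.XZ 8) : z = 1 :=
  (S.J07_inf_UT (Zc0_le S h0) (mem_J h8 (by norm_num) le_rfl) (one_mem _) (mul_one z).symm).1

/-- `Z_0` and `Z_8` do not commute -/
theorem not_comm (hR : S.R.p = 2) (h : ∀ x ∈ S.Zc 4, ∀ y ∈ S.Zc 0, x * y = y * x) : False := by
  have hx1 : S.e 4 0 1 ≠ 1 := fun h => one_ne_zero (S.e_eq_one h).2
  have hy1 : S.e 0 0 1 ≠ 1 := fun h => one_ne_zero (S.e_eq_one h).2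
  have hx : S.e 4 0 1 ∈ S.Zc 4 := ⟨1, rfl⟩
  have hy : S.e 0 0 1 ∈ S.Zc 0 := ⟨1, rfl⟩
  have hodd := odd_order hR hx hy hx1 hy1
  have h2 : (S.e 4 0 1 * S.e 0 0 1) ^ 2 = 1 := by
    calc (S.e 4 0 1 * S.e 0 0 1) ^ 2 = S.e 4 0 1 * (S.e 0 0 1 * S.e 4 0 1) * S.e 0 0 1 := by
          rw [pow_two]; simp only [mul_assoc]
      _ = S.e 4 0 1 * (S.e 4 0 1 * S.e 0 0 1) * S.e 0 0 1 := by rw [h _ hx _ hy]
      _ = (S.e 4 0 1 * S.e 4 0 1) * (S.e 0 0 1 * S.e 0 0 1) := by simp only [mul_assoc]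
      _ = 1 := by rw [z_sq, z_sq, one_mul]
  have h3 : orderOf (S.e 4 0 1 * S.e 0 0 1) ∣ 2 := orderOf_dvd_of_pow_eq_one h2
  have h4 : orderOf (S.e 4 0 1 * S.e 0 0 1) = 1 := by
    rcases (Nat.dvd_prime Nat.prime_two).1 h3 with h4 | h4
    · exact h4
    · rw [h4] at hodd
      exact absurd hodd (by decide)
  rw [orderOf_eq_one_iff] at h4
  apply hy1
  refine Z0_X8 S hy ?_
  rw [← inv_eq_of_mul_eq_one_right h4]
  exact inv_mem (Zc4_le S hx)

/-- `N(RR)` is proper -/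
theorem norm_ne_top (hF : ∃ c : Fˣ, c ≠ 1) (hR : S.R.p = 2) : normalizer (RR S : Set G) ≠ ⊤ := by
  intro htop
  have hn : ∀ g : G, ∀ y ∈ RR S, g * y * g⁻¹ ∈ RR S := fun g y hy =>
    (mem_normalizer_iff.1 (by rw [htop]; exact mem_top g : g ∈ normalizer (RR S : Set G)) y).1 hy
  -- `RR = ⊤`
  have hz : ∀ (a : ZMod 8) (u : F), S.e a 0 u ∈ RR S := by
    intro a u
    obtain ⟨c, hc⟩ := ZMod.intCast_surjective a
    have h1 := hn (S.rot ^ c) _ (Z0_RR S ⟨u, rfl⟩ : S.e 0 0 u ∈ RR S)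
    rwa [S.rotk_e, zero_add, hc] at h1
  have hrel := S.e_e3 7 0 1 0 1
  rw [show (7 : ZMod 8) + 3 = 2 by decide, show (7 : ZMod 8) + 1 = 0 by decide,
    show (7 : ZMod 8) + 2 = 1 by decide] at hrel
  simp only [map_one, map_zero, mul_zero, mul_one, add_zero, zero_add, S.o_zero] at hrel
  have ho0 : S.o 0 1 ∈ RR S := by
    have e : S.o 0 1 = (S.e 2 0 1 * S.e 7 0 1 * S.e 0 0 1)⁻¹ * (S.e 7 0 1 * S.e 2 0 1) * (S.e 1 0 1)⁻¹ := by
      rw [hrel]; group
    rw [e]
    exact mul_mem (mul_mem (inv_mem (mul_mem (mul_mem (hz _ _) (hz _ _)) (hz _ _))) (mul_mem (hz _ _) (hz _ _)))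
      (inv_mem (hz _ _))
  have ho : ∀ (a : ZMod 8) (t : F), S.o a t ∈ RR S := by
    intro a t
    have h1 : S.o 0 t ∈ RR S := by
      by_cases ht : t = 0
      · rw [ht, S.o_zero]
        exact one_mem _
      · obtain ⟨g, -, e⟩ := trans_o S 0 one_ne_zero ht
        rw [← e]
        exact hn g _ ho0
    obtain ⟨c, hc⟩ := ZMod.intCast_surjective a
    have h2 := hn (S.rot ^ c) _ h1
    rwa [S.rotk_o, zero_add, hc] at h2
  have hRR : RR S = ⊤ := eq_top_of_ZO S hF ho hz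
  -- `A = ⟨Z_0, Z_8⟩`, `C = ⟨Z_4, Z_12⟩`
  have comm02 : ∀ x ∈ S.Zc 0, ∀ y ∈ S.Zc 2, x * y = y * x := by
    rintro _ ⟨u, rfl⟩ _ ⟨v, rfl⟩
    have h := S.e_e2 0 0 u 0 v
    rwa [show (0 : ZMod 8) + 2 = 2 by decide] at h
  have comm24 : ∀ x ∈ S.Zc 2, ∀ y ∈ S.Zc 4, x * y = y * x := by
    rintro _ ⟨u, rfl⟩ _ ⟨v, rfl⟩
    have h := S.e_e2 2 0 u 0 v
    rwa [show (2 : ZMod 8) + 2 = 4 by decide] at h
  have comm46 : ∀ x ∈ S.Zc 4, ∀ y ∈ S.Zc 6, x * y = y * x := by
    rintro _ ⟨u, rfl⟩ _ ⟨v, rfl⟩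
    have h := S.e_e2 4 0 u 0 v
    rwa [show (4 : ZMod 8) + 2 = 6 by decide] at h
  have comm60 : ∀ x ∈ S.Zc 6, ∀ y ∈ S.Zc 0, x * y = y * x := by
    rintro _ ⟨u, rfl⟩ _ ⟨v, rfl⟩
    have h := S.e_e2 6 0 u 0 v
    rwa [show (6 : ZMod 8) + 2 = 0 by decide] at h
  have hAC : ∀ a ∈ S.Zc 0 ⊔ S.Zc 4, ∀ c ∈ S.Zc 2 ⊔ S.Zc 6, a * c = c * a := by
    have h1 : S.Zc 2 ⊔ S.Zc 6 ≤ centralizer ((S.Zc 0 ⊔ S.Zc 4 : Subgroup G) : Set G) := by
      rw [le_centralizer_iff]
      refine sup_le ?_ ?_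
      · intro x hx
        rw [mem_centralizer_iff]
        have h2 : S.Zc 2 ⊔ S.Zc 6 ≤ centralizer {x} := by
          refine sup_le ?_ ?_
          · intro y hy
            rw [mem_centralizer_singleton_iff]
            exact (comm02 x hx y hy).symm
          · intro y hy
            rw [mem_centralizer_singleton_iff]
            exact comm60 y hy x hx
        intro y hy
        exact mem_centralizer_singleton_iff.1 (h2 hy)
      · intro x hx
        rw [mem_centralizer_iff]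
        have h2 : S.Zc 2 ⊔ S.Zc 6 ≤ centralizer {x} := by
          refine sup_le ?_ ?_
          · intro y hy
            rw [mem_centralizer_singleton_iff]
            exact comm24 y hy x hx
          · intro y hy
            rw [mem_centralizer_singleton_iff]
            exact (comm46 x hx y hy).symm
        intro y hy
        exact mem_centralizer_singleton_iff.1 (h2 hy)
    intro a ha c hc
    exact mem_centralizer_iff.1 (h1 hc) a ha
  -- `A` is normal
  have hAn : ∀ g : G, ∀ y ∈ S.Zc 0 ⊔ S.Zc 4, g * y * g⁻¹ ∈ S.Zc 0 ⊔ S.Zc 4 := by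
    have h1 : RR S ≤ normalizer ((S.Zc 0 ⊔ S.Zc 4 : Subgroup G) : Set G) := by
      have hA : S.Zc 0 ⊔ S.Zc 4 ≤ normalizer ((S.Zc 0 ⊔ S.Zc 4 : Subgroup G) : Set G) := le_normalizer
      have hC : S.Zc 2 ⊔ S.Zc 6 ≤ normalizer ((S.Zc 0 ⊔ S.Zc 4 : Subgroup G) : Set G) := by
        refine le_norm_of fun c hc y hy => ?_
        rw [← hAC y hy c hc, mul_inv_cancel_right]
        exact hy
      exact sup_le (sup_le (sup_le (le_sup_left.trans hA) (le_sup_left.trans hC)) (le_sup_right.trans hA))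
        (le_sup_right.trans hC)
    intro g y hy
    exact (mem_normalizer_iff.1 (h1 (by rw [hRR]; exact mem_top g)) y).1 hy
  refine not_comm S hR ?_
  rintro _ ⟨u, rfl⟩ _ ⟨v, rfl⟩
  have h6 : S.e 6 0 u ∈ S.Zc 0 ⊔ S.Zc 4 := by
    have h1 := hAn (S.rot ^ (2 : ℤ)) (S.e 4 0 u) (mem_sup_right ⟨u, rfl⟩)
    rwa [S.rotk_e, show (4 : ZMod 8) + ((2 : ℤ) : ZMod 8) = 6 by decide] at h1
  have h7 := hAC _ h6 (S.e 2 0 v) (mem_sup_left ⟨v, rfl⟩)
  have h8 : S.rot ^ (2 : ℤ) * (S.e 4 0 u * S.e 0 0 v) * (S.rot ^ (2 : ℤ))⁻¹ =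
      S.rot ^ (2 : ℤ) * (S.e 0 0 v * S.e 4 0 u) * (S.rot ^ (2 : ℤ))⁻¹ := by
    have e1 : S.rot ^ (2 : ℤ) * (S.e 4 0 u * S.e 0 0 v) * (S.rot ^ (2 : ℤ))⁻¹ =
        (S.rot ^ (2 : ℤ) * S.e 4 0 u * (S.rot ^ (2 : ℤ))⁻¹) * (S.rot ^ (2 : ℤ) * S.e 0 0 v * (S.rot ^ (2 : ℤ))⁻¹) := by
      group
    have e2 : S.rot ^ (2 : ℤ) * (S.e 0 0 v * S.e 4 0 u) * (S.rot ^ (2 : ℤ))⁻¹ =
        (S.rot ^ (2 : ℤ) * S.e 0 0 v * (S.rot ^ (2 : ℤ))⁻¹) * (S.rot ^ (2 : ℤ) * S.e 4 0 u * (S.rot ^ (2 : ℤ))⁻¹) := by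
      group
    rw [e1, e2, S.rotk_e, S.rotk_e, show (4 : ZMod 8) + ((2 : ℤ) : ZMod 8) = 6 by decide,
      show (0 : ZMod 8) + ((2 : ℤ) : ZMod 8) = 2 by decide]
    exact h7
  exact mul_left_cancel (mul_right_cancel h8)

/-- `N(RR)` satisfies the hypotheses -/
theorem hyp_norm (hF : ∃ c : Fˣ, c ≠ 1) (hR : S.R.p = 2) : Hyp S (normalizer (RR S : Set G)) :=
  ⟨X0_le S, X4_le S, X8_le S, X12_le S, T_le S, norm_ne_top S hF hR⟩

/-- (3) -/
theorem le_norm (hF : ∃ c : Fˣ, c ≠ 1) (hR : S.R.p = 2) {K : Subgroup G} (h0 : S.XZ 0 ≤ K) (h4 : S.XZ 4 ≤ K)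
    (h8 : S.XZ 8 ≤ K) (h12 : S.XZ 12 ≤ K) (hT : S.T ≤ K) (hK : K ≠ ⊤) : K ≤ normalizer (RR S : Set G) :=
  (Hyp.mk h0 h4 h8 h12 hT hK).le_norm hF hR

/-- (3) -/
theorem coatom (hF : ∃ c : Fˣ, c ≠ 1) (hR : S.R.p = 2) : IsCoatom (normalizer (RR S : Set G)) := by
  refine ⟨norm_ne_top S hF hR, fun K hK => ?_⟩
  by_contra hne
  have h := le_norm S hF hR ((X0_le S).trans hK.le) ((X4_le S).trans hK.le) ((X8_le S).trans hK.le)
    ((X12_le S).trans hK.le) ((T_le S).trans hK.le) hne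
  exact absurd (lt_of_lt_of_le hK h) (lt_irrefl _)

/-- (4) -/
theorem no_sylow (hF : ∃ c : Fˣ, c ≠ 1) (hR : S.R.p = 2) (g : G) :
    ¬ ((J S.XZ 1 8).map (MulAut.conj g).toMonoidHom ≤ normalizer (RR S : Set G)) := by
  intro hle
  have hH := hyp_norm S hF hR
  set K := normalizer (RR S : Set G) with hK
  obtain ⟨k, hk, a, ha, h1, -⟩ := hH.cls' hF hR (g := g) (fun z hz =>
    hle (conj_mem_cj (mem_J (Zc2_le S hz) (by norm_num) (by norm_num))))
  obtain ⟨c, hc⟩ : ∃ c : ℤ, (2 : ZMod 8) + (2 * c : ℤ) = a := by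
    rcases ha with rfl | rfl | rfl | rfl
    · exact ⟨-1, by decide⟩
    · exact ⟨0, by decide⟩
    · exact ⟨1, by decide⟩
    · exact ⟨2, by decide⟩
  obtain ⟨r, hr⟩ : ∃ r, r = S.rot ^ (2 * c) := ⟨_, rfl⟩
  -- `v = r⁻¹ k⁻¹ g` normalises `Z_4`
  have h2 : cj (r⁻¹ * k⁻¹ * g) (S.Zc 2) = S.Zc 2 := by
    rw [cj_mul, cj_mul, h1, cj_cj_inv, ← hc, ← cj_Zc_rot S (2 * c) 2, ← hr, cj_cj_inv]
  have hz : S.e 2 0 1 ∈ S.Zc 2 := ⟨1, rfl⟩
  have hz1 : S.e 2 0 1 ≠ 1 := fun h => one_ne_zero (S.e_eq_one h).2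
  have h3 : (r⁻¹ * k⁻¹ * g) * S.e 2 0 1 * (r⁻¹ * k⁻¹ * g)⁻¹ ∈ S.Zc 2 := by
    have h4 : (r⁻¹ * k⁻¹ * g) * S.e 2 0 1 * (r⁻¹ * k⁻¹ * g)⁻¹ ∈ cj (r⁻¹ * k⁻¹ * g) (S.Zc 2) := conj_mem_cj hz
    rwa [h2] at h4
  obtain ⟨y, hy, t, ht, hyt⟩ := S.mem_of_conj hz hz1 h3
  -- `X_3` conjugated by `r`
  obtain ⟨x, hx, hx1⟩ := S.zsys8.exists_ne 3
  have hx' : (y * t)⁻¹ * x * (y * t) ∈ J S.XZ 1 7 := by
    have h4 : x ∈ J S.XZ 1 7 := mem_J hx (by norm_num) (by norm_num)
    have h5 := Q_norm S (inv_mem hy) h4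
    have h6 : t⁻¹ * (y⁻¹ * x * y⁻¹⁻¹) * t⁻¹⁻¹ ∈ J S.XZ 1 7 := S.T_conj_J (inv_mem ht) h5
    have e : t⁻¹ * (y⁻¹ * x * y⁻¹⁻¹) * t⁻¹⁻¹ = (y * t)⁻¹ * x * (y * t) := by group
    rwa [e] at h6
  have h7 : g * ((y * t)⁻¹ * x * (y * t)) * g⁻¹ ∈ K :=
    hle (conj_mem_cj (J_mono le_rfl (by norm_num) hx'))
  have h8 : g * ((y * t)⁻¹ * x * (y * t)) * g⁻¹ = k * (r * x * r⁻¹) * k⁻¹ := by
    rw [← hyt]; group
  rw [h8] at h7
  have h9 : r * x * r⁻¹ ∈ K := by
    have h10 := mul_mem (mul_mem (inv_mem hk) h7) hk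
    have e : k⁻¹ * (k * (r * x * r⁻¹) * k⁻¹) * k = r * x * r⁻¹ := by group
    rwa [e] at h10
  have h10 : r * x * r⁻¹ ∈ S.XZ (3 + 2 * (2 * c)) := by
    rw [hr]
    exact S.rotk_X' (2 * c) 3 hx
  have h11 := hH.inf_one hF hR (k := 3 + 2 * (2 * c)) (by omega) h10 h9
  apply hx1
  rw [mul_inv_eq_one, mul_eq_left] at h11
  exact h11

end Main

end Cfsg.Agent.H823.TwFSz
end

-- part: H823/TwFSzD
section
/-!
# The normaliser of `Sz(q) × Sz(q)` in `²F₄(q)`, `q ≥ 8`, IV (helper823, task 1433)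

* `card_Om` : `N(RR)` contains exactly `2 (q² + 1)` conjugates of `Z_4`;
* `not_dvd_of`, `not_dvd`, `not_dvd_three` : prime numbers not dividing `|N(RR)|`.
-/

set_option autoImplicit false
set_option linter.unusedSectionVars false

namespace Cfsg.Agent.H823.TwFSz

open Subgroup
open scoped commutatorElement
open Cfsg.Agent.KFacts.TwF4 Cfsg.Agent.KFacts.TwF4.Full Cfsg.Agent.KFacts.TwF4.Arc
open Cfsg.Agent.KFacts.TwF4.Inv Cfsg.Agent.KFacts.TwF4.SylU Cfsg.Agent.KFacts.TwF4.Perf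
open Cfsg.Agent.KFacts.TwF4.Irr
open Cfsg.Agent.SplitTwo Cfsg.Agent.SplitTwo.ZS Cfsg.Agent.TitsThree.RankTwoZ
open Cfsg.Agent.SplitTwo.RootSysZ
open Cfsg.Agent.H99.CL2F4 (nn nn_e e2_word eight eq_top_of_ZO cj_eq_of cj_T_Zc cj_e_Zc odd_order)
open Cfsg.Agent.H939.KLat (cj mem_cj conj_mem_cj cj_mul cj_cj_inv cj_inv_cj cj_mono cj_one)

universe u

variable {F : Type*} [Field F] {σ : F →+* F} {G : Type u} [Group G] (S : Full σ G)

variable [Finite F] [Finite G]

/-! ### The groups `Z_{2a}` are distinct -/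

theorem Zc_near {c : ℤ} (h1 : 1 ≤ c) (h2 : c ≤ 3) (h : S.Zc 0 = S.Zc (c : ZMod 8)) : False := by
  have h3 : S.e 0 0 1 ∈ S.Zc 0 := ⟨1, rfl⟩
  have h4 : S.e 0 0 1 ∈ S.Zc (c : ZMod 8) := by rw [← h]; exact h3
  obtain ⟨v, hv⟩ := h4
  have h5 : S.e 0 0 1 ∈ S.XZ (2 * c) := by
    rw [← hv]
    exact S.e_mem c 0 v
  exact one_ne_zero (S.e_eq_one (S.zsys8.inter 0 _ (Zc0_le S h3) (mem_J h5 (by omega) (by omega)))).2

theorem Zc_ne0 {c : ZMod 8} (h : S.Zc 0 = S.Zc c) : c = 0 := by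
  have hrot : ∀ (k : ℤ) (a b : ZMod 8), S.Zc a = S.Zc b → S.Zc (a + k) = S.Zc (b + k) := by
    intro k a b hab
    rw [← cj_Zc_rot, ← cj_Zc_rot, hab]
  rcases eight c with rfl | rfl | rfl | rfl | rfl | rfl | rfl | rfl
  · rfl
  · exact (Zc_near S (c := 1) (by norm_num) (by norm_num) (by push_cast; exact h)).elim
  · exact (Zc_near S (c := 2) (by norm_num) (by norm_num) (by push_cast; exact h)).elim
  · exact (Zc_near S (c := 3) (by norm_num) (by norm_num) (by push_cast; exact h)).elim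
  · exfalso
    have h3 : S.e 0 0 1 ∈ S.Zc 0 := ⟨1, rfl⟩
    have h4 : S.e 0 0 1 ∈ S.Zc 4 := by rw [← h]; exact h3
    exact one_ne_zero (S.e_eq_one (Z0_X8 S h3 (Zc4_le S h4))).2
  · exfalso
    have h1 := hrot 3 _ _ h
    rw [show (0 : ZMod 8) + ((3 : ℤ) : ZMod 8) = ((3 : ℤ) : ZMod 8) by decide,
      show (5 : ZMod 8) + ((3 : ℤ) : ZMod 8) = 0 by decide] at h1
    exact Zc_near S (c := 3) (by norm_num) (by norm_num) h1.symm
  · exfalso
    have h1 := hrot 2 _ _ h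
    rw [show (0 : ZMod 8) + ((2 : ℤ) : ZMod 8) = ((2 : ℤ) : ZMod 8) by decide,
      show (6 : ZMod 8) + ((2 : ℤ) : ZMod 8) = 0 by decide] at h1
    exact Zc_near S (c := 2) (by norm_num) (by norm_num) h1.symm
  · exfalso
    have h1 := hrot 1 _ _ h
    rw [show (0 : ZMod 8) + ((1 : ℤ) : ZMod 8) = ((1 : ℤ) : ZMod 8) by decide,
      show (7 : ZMod 8) + ((1 : ℤ) : ZMod 8) = 0 by decide] at h1
    exact Zc_near S (c := 1) (by norm_num) (by norm_num) h1.symm

theorem Zc_inj {a b : ZMod 8} (h : S.Zc a = S.Zc b) : a = b := by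
  obtain ⟨c, hc⟩ := ZMod.intCast_surjective (-a)
  have h1 : S.Zc 0 = S.Zc (b + (c : ZMod 8)) := by
    rw [← cj_Zc_rot, ← h, cj_Zc_rot, hc, add_neg_cancel]
  have h2 := Zc_ne0 S h1
  rw [hc] at h2
  exact (add_neg_eq_zero.1 h2).symm

/-! ### Normalisers -/

theorem norm_Z8 (hR : S.R.p = 2) {x : G} (hx : x ∈ S.Zc 4) (h : cj x (S.Zc 0) = S.Zc 0) : x = 1 := by
  by_contra hx1
  have hy : S.e 0 0 1 ∈ S.Zc 0 := ⟨1, rfl⟩
  have hy1 : S.e 0 0 1 ≠ 1 := fun h => one_ne_zero (S.e_eq_one h).2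
  have hodd := odd_order hR hx hy hx1 hy1
  have hxx : x * x = 1 := by
    obtain ⟨u, rfl⟩ := hx
    exact z_sq S 4 u
  have h2 : x * S.e 0 0 1 * x⁻¹ ∈ S.Zc 0 := by
    have h3 : x * S.e 0 0 1 * x⁻¹ ∈ cj x (S.Zc 0) := conj_mem_cj hy
    rwa [h] at h3
  have h3 : (x * S.e 0 0 1) ^ 2 ∈ S.Zc 0 := by
    have e : (x * S.e 0 0 1) ^ 2 = (x * S.e 0 0 1 * x⁻¹) * (x * x) * S.e 0 0 1 := by rw [pow_two]; group
    rw [e, hxx, mul_one]
    exact mul_mem h2 hy
  have h4 : (x * S.e 0 0 1) ^ 4 = 1 := by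
    obtain ⟨v, hv⟩ := h3
    calc (x * S.e 0 0 1) ^ 4 = (x * S.e 0 0 1) ^ 2 * (x * S.e 0 0 1) ^ 2 := by rw [← pow_add]
      _ = 1 := by rw [← hv, z_sq]
  have h5 : orderOf (x * S.e 0 0 1) ∣ 2 ^ 2 := orderOf_dvd_of_pow_eq_one h4
  have h6 : orderOf (x * S.e 0 0 1) = 1 :=
    Nat.Coprime.eq_one_of_dvd (Nat.Coprime.pow_right 2 hodd.coprime_two_right) h5
  rw [orderOf_eq_one_iff] at h6
  apply hy1
  refine Z0_X8 S hy ?_
  rw [← inv_eq_of_mul_eq_one_right h6]
  exact inv_mem (Zc4_le S hx)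

theorem norm_X8 (hR : S.R.p = 2) {x : G} (hx : x ∈ S.XZ 8) (h : cj x (S.Zc 0) = S.Zc 0) : x = 1 := by
  obtain ⟨p, u, rfl⟩ := (mem_X8 S).1 hx
  have h2 : cj (S.e 4 p u * S.e 4 p u) (S.Zc 0) = S.Zc 0 := by rw [cj_mul, h, h]
  rw [S.e_mul, char2 S, char2 S, zero_add] at h2
  have h3 := norm_Z8 S hR ⟨_, rfl⟩ h2
  have hp : p = 0 := by
    rcases mul_eq_zero.1 (S.e_eq_one h3).2 with h4 | h4
    · exact h4
    · exact (map_eq_zero σ).1 h4
  subst hp
  exact norm_Z8 S hR ⟨u, rfl⟩ h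

theorem norm_X4 (hR : S.R.p = 2) {x : G} (hx : x ∈ S.XZ 4) (h : cj x (S.Zc 6) = S.Zc 6) : x = 1 := by
  have h1 := S.rotk_X' 2 4 hx
  rw [show (4 : ℤ) + 2 * 2 = 8 by norm_num] at h1
  have h2 : cj (S.rot ^ (2 : ℤ)) (S.Zc 6) = S.Zc 0 := by
    rw [cj_Zc_rot, show (6 : ZMod 8) + ((2 : ℤ) : ZMod 8) = 0 by decide]
  have h3 : cj (S.rot ^ (2 : ℤ) * x * (S.rot ^ (2 : ℤ))⁻¹) (S.Zc 0) = S.Zc 0 := by
    rw [cj_mul, cj_mul, ← h2, cj_cj_inv, h]
  have h4 := norm_X8 S hR h1 h3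
  rw [mul_inv_eq_one, mul_eq_left] at h4
  exact h4

/-! ### Counting -/

/-- the conjugates of `Z_4` in `N(RR)` -/
abbrev Om : Type u := {A : Subgroup G // (∃ g, A = cj g (S.Zc 2)) ∧ A ≤ normalizer (RR S : Set G)}

/-- the list of the conjugates -/
def val : (S.XZ 8 ⊕ S.XZ 4) ⊕ Bool → Subgroup G
  | Sum.inl (Sum.inl x) => cj (x : G) (S.Zc 0)
  | Sum.inl (Sum.inr x) => cj (x : G) (S.Zc 6)
  | Sum.inr true => S.Zc 2
  | Sum.inr false => S.Zc 4

theorem val_mem (w : (S.XZ 8 ⊕ S.XZ 4) ⊕ Bool) :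
    (∃ g, val S w = cj g (S.Zc 2)) ∧ val S w ≤ normalizer (RR S : Set G) := by
  have hle : RR S ≤ normalizer (RR S : Set G) := le_normalizer
  rcases w with (x | x) | (_ | _)
  · refine ⟨⟨(x : G) * S.rot ^ (-2 : ℤ), ?_⟩, (cj_le_RR S (conj_X8_RR S x.2) (Z0_RR S)).trans hle⟩
    rw [cj_mul, cj_Zc_rot, show (2 : ZMod 8) + ((-2 : ℤ) : ZMod 8) = 0 by decide]
    rfl
  · refine ⟨⟨(x : G) * S.rot ^ (4 : ℤ), ?_⟩, (cj_le_RR S (conj_X4_RR S x.2) (Z6_RR S)).trans hle⟩
    rw [cj_mul, cj_Zc_rot, show (2 : ZMod 8) + ((4 : ℤ) : ZMod 8) = 6 by decide]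
    rfl
  · refine ⟨⟨S.rot ^ (2 : ℤ), ?_⟩, (Z4_RR S).trans hle⟩
    rw [cj_Zc_rot, show (2 : ZMod 8) + ((2 : ℤ) : ZMod 8) = 4 by decide]
    rfl
  · refine ⟨⟨1, ?_⟩, (Z2_RR S).trans hle⟩
    rw [cj_one]
    rfl

theorem cj_inj {g : G} {A B : Subgroup G} (h : cj g A = cj g B) : A = B := by
  rw [← cj_cj_inv g A, h, cj_cj_inv]

theorem val_inj (hR : S.R.p = 2) : Function.Injective (val S) := by
  -- the mixed cases
  have m1 : ∀ (x : S.XZ 8) (a : ZMod 8), (a = 2 ∨ a = 4) → cj (x : G) (S.Zc 0) = S.Zc a → False := by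
    intro x a ha h
    have h1 : cj (x : G) (S.Zc a) = S.Zc a := by
      rcases ha with rfl | rfl
      · exact X8_Z2 S x.2
      · exact X8_Z4 S x.2
    have h2 := Zc_inj S (cj_inj (h.trans h1.symm))
    rcases ha with rfl | rfl <;> exact absurd h2 (by decide)
  have m2 : ∀ (x : S.XZ 4) (a : ZMod 8), (a = 2 ∨ a = 4) → cj (x : G) (S.Zc 6) = S.Zc a → False := by
    intro x a ha h
    have h1 : cj (x : G) (S.Zc a) = S.Zc a := by
      rcases ha with rfl | rfl
      · exact X4_Z2 S x.2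
      · exact X4_Z4 S x.2
    have h2 := Zc_inj S (cj_inj (h.trans h1.symm))
    rcases ha with rfl | rfl <;> exact absurd h2 (by decide)
  have m3 : ∀ (x : S.XZ 8) (y : S.XZ 4), cj (x : G) (S.Zc 0) = cj (y : G) (S.Zc 6) → False := by
    intro x y h
    have h1 : cj (y : G) (S.Zc 6) = cj (x : G) (cj (y : G) (S.Zc 6)) := by
      rw [← cj_mul, X8_X4 S x.2 y.2, cj_mul, X8_Z6 S x.2]
    have h2 := cj_inj (h.trans h1)
    have h3 := cj_inj ((X4_Z0 S y.2).trans h2)
    exact absurd (Zc_inj S h3) (by decide)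
  have m4 : S.Zc 2 ≠ S.Zc 4 := fun h => absurd (Zc_inj S h) (by decide)
  rintro ((x | x) | (_ | _)) ((y | y) | (_ | _)) hxy
  · have h1 : cj (x : G) (S.Zc 0) = cj (y : G) (S.Zc 0) := hxy
    have h2 : cj ((y : G)⁻¹ * x) (S.Zc 0) = S.Zc 0 := by rw [cj_mul, h1, cj_cj_inv]
    have h3 := norm_X8 S hR (mul_mem (inv_mem y.2) x.2) h2
    rw [inv_mul_eq_one] at h3
    rw [Subtype.ext h3]
  · exact (m3 x y hxy).elim
  · exact (m1 x 4 (by decide) hxy).elim
  · exact (m1 x 2 (by decide) hxy).elim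
  · exact (m3 y x hxy.symm).elim
  · have h1 : cj (x : G) (S.Zc 6) = cj (y : G) (S.Zc 6) := hxy
    have h2 : cj ((y : G)⁻¹ * x) (S.Zc 6) = S.Zc 6 := by rw [cj_mul, h1, cj_cj_inv]
    have h3 := norm_X4 S hR (mul_mem (inv_mem y.2) x.2) h2
    rw [inv_mul_eq_one] at h3
    rw [Subtype.ext h3]
  · exact (m2 x 4 (by decide) hxy).elim
  · exact (m2 x 2 (by decide) hxy).elim
  · exact (m1 y 4 (by decide) hxy.symm).elim
  · exact (m2 y 4 (by decide) hxy.symm).elim
  · rfl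
  · exact (m4 hxy.symm).elim
  · exact (m1 y 2 (by decide) hxy.symm).elim
  · exact (m2 y 2 (by decide) hxy.symm).elim
  · exact (m4 hxy).elim
  · rfl

/-- `N(RR)` contains `2 (q² + 1)` conjugates of `Z_4` -/
theorem card_Om (hF : ∃ c : Fˣ, c ≠ 1) (hR : S.R.p = 2) : Nat.card (Om S) = 2 * Nat.card F ^ 2 + 2 := by
  have h8 := H392.TwFFour.card_even S 4
  have h4 := H392.TwFFour.card_even S 2
  norm_num only [] at h8 h4
  have h1 : Nat.card ((S.XZ 8 ⊕ S.XZ 4) ⊕ Bool) = 2 * Nat.card F ^ 2 + 2 := by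
    have hb : Nat.card Bool = 2 := by rw [Nat.card_eq_fintype_card, Fintype.card_bool]
    rw [Nat.card_sum, Nat.card_sum, h8, h4, hb]
    ring
  rw [← h1]
  symm
  refine Nat.card_congr (Equiv.ofBijective (fun w => (⟨val S w, val_mem S w⟩ : Om S)) ⟨?_, ?_⟩)
  · intro w w' h
    exact val_inj S hR (congrArg Subtype.val h)
  · rintro ⟨A, ⟨g, rfl⟩, hle⟩
    rcases (hyp_norm S hF hR).cases hF hR (g := g) (fun z hz => hle (conj_mem_cj hz)) with
      h1 | h1 | ⟨x, hx, h1⟩ | ⟨x, hx, h1⟩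
    · exact ⟨Sum.inr true, Subtype.ext h1.symm⟩
    · exact ⟨Sum.inr false, Subtype.ext h1.symm⟩
    · exact ⟨Sum.inl (Sum.inl ⟨x, hx⟩), Subtype.ext h1.symm⟩
    · exact ⟨Sum.inl (Sum.inr ⟨x, hx⟩), Subtype.ext h1.symm⟩

/-- prime numbers not dividing `|N(RR)|` -/
theorem not_dvd_of (hF : ∃ c : Fˣ, c ≠ 1) (hR : S.R.p = 2) {u : ℕ} (hu : u.Prime)
    (h1 : ¬ u ∣ 2 * Nat.card F ^ 2 + 2)
    (h2 : ¬ u ∣ Nat.card F ^ 12 * (Nat.card F - 1) ^ 2 * (Nat.card F ^ 2 + 1)) :
    ¬ u ∣ Nat.card (normalizer (RR S : Set G)) := by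
  classical
  intro hdvd
  have := Fact.mk hu
  obtain ⟨⟨x, hx⟩, hxo⟩ := exists_prime_orderOf_dvd_card' u hdvd
  have hxu : x ^ u = 1 := by
    have h3 : (⟨x, hx⟩ : normalizer (RR S : Set G)) ^ u = 1 := by rw [← hxo]; exact pow_orderOf_eq_one _
    exact congrArg Subtype.val h3
  have hx1 : x ≠ 1 := by
    rintro rfl
    have h4 : (⟨1, hx⟩ : normalizer (RR S : Set G)) = 1 := rfl
    rw [h4, orderOf_one] at hxo
    exact hu.one_lt.ne hxo
  let f : Om S → Om S := fun A => ⟨cj x A.1, by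
    obtain ⟨A, ⟨g, rfl⟩, hle⟩ := A
    refine ⟨⟨x * g, (cj_mul _ _ _).symm⟩, ?_⟩
    rintro _ ⟨a, ha, rfl⟩
    exact mul_mem (mul_mem hx (hle ha)) (inv_mem hx)⟩
  have hf : Function.Injective f := by
    intro A B hAB
    exact Subtype.ext (cj_inj (congrArg Subtype.val hAB))
  have hfinO : Finite (Om S) := Subtype.finite
  let e : Equiv.Perm (Om S) := Equiv.ofBijective f (Finite.injective_iff_bijective.1 hf)
  have hpow : ∀ (n : ℕ) (A : Om S), ((e ^ n) A).1 = cj (x ^ n) A.1 := by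
    intro n
    induction n with
    | zero => intro A; rw [pow_zero, pow_zero, cj_one]; rfl
    | succ n ih =>
      intro A
      rw [pow_succ', Equiv.Perm.mul_apply]
      show cj x ((e ^ n) A).1 = _
      rw [ih, pow_succ', cj_mul]
  have he : e ^ u ^ 1 = 1 := by
    rw [pow_one]
    apply Equiv.ext
    intro A
    apply Subtype.ext
    rw [hpow, hxu, cj_one]
    rfl
  have hfin : Fintype (Om S) := Fintype.ofFinite _
  obtain ⟨⟨A, ⟨g, rfl⟩, hle⟩, hfix⟩ := Equiv.Perm.exists_fixed_point_of_prime (p := u) (n := 1)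
    (by rw [← Nat.card_eq_fintype_card, card_Om S hF hR]; exact h1) he
  have hfix' : cj x (cj g (S.Zc 2)) = cj g (S.Zc 2) := congrArg Subtype.val hfix
  have h3 : cj (g⁻¹ * x * g) (S.Zc 2) = S.Zc 2 := by rw [cj_mul, cj_mul, hfix', cj_cj_inv]
  have h4 : g⁻¹ * x * g ∈ H392.TwFFour.P S := by
    refine H392.TwFFour.mem_P_of S (H392.TwFFour.e201 S).1 (H392.TwFFour.e201 S).2 ?_
    have h5 : (g⁻¹ * x * g) * S.e 2 0 1 * (g⁻¹ * x * g)⁻¹ ∈ cj (g⁻¹ * x * g) (S.Zc 2) :=
      conj_mem_cj (H392.TwFFour.e201 S).1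
    rwa [h3] at h5
  apply h2
  rw [← H392.TwFFour.card_P S]
  have h5 : (g⁻¹ * x * g) ^ u = 1 := by
    have e : (g⁻¹ * x * g) ^ u = g⁻¹ * x ^ u * g := by
      have := conj_pow (i := u) (a := g⁻¹) (b := x)
      rwa [inv_inv] at this
    rw [e, hxu]; group
  have h6 : g⁻¹ * x * g ≠ 1 := by
    intro h7
    apply hx1
    have e : x = g * (g⁻¹ * x * g) * g⁻¹ := by group
    rw [e, h7]; group
  have h7 : orderOf (⟨g⁻¹ * x * g, h4⟩ : H392.TwFFour.P S) = u := by
    refine orderOf_eq_prime (Subtype.ext h5) fun h8 => h6 (congrArg Subtype.val h8)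
  rw [← h7]
  exact _root_.orderOf_dvd_natCard _

/-- (5) -/
theorem not_dvd (hF : ∃ c : Fˣ, c ≠ 1) (hR : S.R.p = 2) {a u : ℕ} (hu : H436.Prim 2 (12 * a) u)
    (ha : Nat.card F = 2 ^ a) : ¬ u ∣ Nat.card (normalizer (RR S : Set G)) := by
  have ha0 : 0 < a := by
    rcases Nat.eq_zero_or_pos a with rfl | h
    · rw [pow_zero] at ha
      have : 1 < Nat.card F := Finite.one_lt_card
      omega
    · exact h
  have k1 : ¬ u ∣ Nat.card F ^ 2 + 1 := by
    rw [ha, ← pow_mul]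
    refine hu.not_dvd_add fun h => ?_
    have := Nat.le_of_dvd (by omega) h
    omega
  refine not_dvd_of S hF hR hu.prime ?_ ?_
  · rw [show 2 * Nat.card F ^ 2 + 2 = 2 * (Nat.card F ^ 2 + 1) by ring, hu.prime.dvd_mul]
    exact not_or.2 ⟨hu.not_dvd, k1⟩
  · rw [hu.prime.dvd_mul, hu.prime.dvd_mul]
    refine not_or.2 ⟨not_or.2 ⟨?_, ?_⟩, k1⟩
    · rw [ha, ← pow_mul]
      exact hu.not_dvd_pow _
    · intro h
      have h1 := hu.prime.dvd_of_dvd_pow h
      rw [ha] at h1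
      have h2 := (hu.dvd_iff a).1 h1
      have := Nat.le_of_dvd ha0 h2
      omega

omit [Finite F] [Finite G] in
/-- (1) -/
theorem X_le : S.XZ 0 ≤ normalizer (RR S : Set G) ∧ S.XZ 4 ≤ normalizer (RR S : Set G) ∧
    S.XZ 8 ≤ normalizer (RR S : Set G) ∧ S.XZ 12 ≤ normalizer (RR S : Set G) ∧
    S.T ≤ normalizer (RR S : Set G) :=
  ⟨X0_le S, X4_le S, X8_le S, X12_le S, T_le S⟩

end Cfsg.Agent.H823.TwFSz
end
end

-- part: H136/TwF/Five_mg
section
prune_inst 0x100005405d8002000000000400001802b0000000000b000080a102420208000209000600080000015000000000040000000000800040000004000000000101000000040000400008020008000000000000000000000000000000000000000000000000000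
set_option linter.all false
open scoped Cfsg.Agent.FastGrp

-- part: H136/TwF/Cnt
section
/-!
# The order of `M = ⟨X_odd⟩` in `²F₄(q)` (helper136, task 629)

The number of `M`-conjugates of `X_5` is `1 + q + q² + q³`; a primitive prime divisor `u` of `2^(12 a) - 1`, `q = 2 ^ a`,
does not divide `|N(M)|`.
-/

set_option autoImplicit false
set_option linter.unusedSectionVars false

namespace Cfsg.Agent.H136.TwF

open Cfsg.Agent.KFacts.TwF4 Cfsg.Agent.KFacts.TwF4.Full Cfsg.Agent.KFacts.TwF4.Arc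
open Cfsg.Agent.KFacts.TwF4.Inv Cfsg.Agent.KFacts.TwF4.SylU Cfsg.Agent.KFacts.TwF4.Perf
open Cfsg.Agent.SplitTwo Cfsg.Agent.SplitTwo.ZS Cfsg.Agent.TitsThree.RankTwoZ Cfsg.Agent.TitsThree.RankTwoRGD
open Cfsg.Agent.SplitTwo.RootSysZ
open Cfsg.Agent.H392.TwFFour
open Cfsg.Agent.Nodes.Reps (cj mem_cj conj_mem_cj cj_mul cj_cj_inv cj_inv_cj cj_mono cj_le_cj_iff cj_one cj_eq_of_mem)
open scoped commutatorElement

universe u

/-! ### orbits of subgroups -/

section abs

variable {G : Type u} [Group G]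

/-- the `A`-conjugates of `W` -/
def Orb (A W : Subgroup G) : Set (Subgroup G) := {Z | ∃ u ∈ A, Z = cj u W}

theorem mem_norm_iff {A : Subgroup G} {g : G} : g ∈ Subgroup.normalizer (A : Set G) ↔ cj g A = A := by
  rw [Subgroup.mem_normalizer_iff]
  constructor
  · intro h
    ext x
    rw [mem_cj, h (g⁻¹ * x * g)]
    have e : g * (g⁻¹ * x * g) * g⁻¹ = x := by group
    rw [e]
  · intro h x
    conv_rhs => rw [← h]
    exact conj_mem_cj.symm

theorem card_Orb [Finite G] (A W : Subgroup G) :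
    (Orb A W).ncard * Nat.card ↥(A ⊓ Subgroup.normalizer (W : Set G)) = Nat.card A := by
  let act : MulAction ↥A (Subgroup G) :=
    { smul := fun u Z => cj (u : G) Z
      one_smul := fun Z => cj_one Z
      mul_smul := fun u v Z => cj_mul (u : G) v Z }
  have h1 : Orb A W = MulAction.orbit ↥A W := by
    ext Z
    constructor
    · rintro ⟨u, hu, rfl⟩
      exact ⟨⟨u, hu⟩, rfl⟩
    · rintro ⟨u, rfl⟩
      exact ⟨u.1, u.2, rfl⟩
  have h2 : Nat.card ↥(A ⊓ Subgroup.normalizer (W : Set G)) = Nat.card ↥(MulAction.stabilizer ↥A W) := by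
    refine Nat.card_congr
      { toFun := fun x => ⟨⟨x.1, x.2.1⟩, mem_norm_iff.1 x.2.2⟩
        invFun := fun x => ⟨x.1.1, x.1.2, mem_norm_iff.2 x.2⟩
        left_inv := fun x => rfl
        right_inv := fun x => rfl }
  rw [h1, h2, ← MulAction.index_stabilizer]
  exact Subgroup.index_mul_card _

theorem Orb_eq {A W W' : Subgroup G} {Z : Subgroup G} (h : Z ∈ Orb A W) (h' : Z ∈ Orb A W') : Orb A W = Orb A W' := by
  have key : ∀ W W' : Subgroup G, Z ∈ Orb A W → Z ∈ Orb A W' → Orb A W ⊆ Orb A W' := by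
    rintro W W' ⟨a, ha, rfl⟩ ⟨b, hb, e⟩ _ ⟨c, hc, rfl⟩
    refine ⟨c * a⁻¹ * b, mul_mem (mul_mem hc (inv_mem ha)) hb, ?_⟩
    rw [cj_mul, cj_mul, ← e, cj_inv_cj]
  exact Set.Subset.antisymm (key _ _ h h') (key _ _ h' h)

theorem card_of_param {α : Type*} {f : α → G} (hf : Function.Injective f) {V : Subgroup G}
    (h : ∀ g, g ∈ V ↔ ∃ x, f x = g) : Nat.card V = Nat.card α := by
  refine (Nat.card_congr (Equiv.ofBijective (fun x => (⟨f x, (h _).2 ⟨x, rfl⟩⟩ : V)) ⟨?_, ?_⟩)).symm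
  · intro x y hxy
    exact hf (congrArg Subtype.val hxy)
  · rintro ⟨g, hg⟩
    obtain ⟨x, hx⟩ := (h g).1 hg
    exact ⟨x, Subtype.ext hx⟩

end abs

variable {F : Type*} [Field F] {σ : F →+* F} {G : Type u} [Group G] {S : Full σ G}

/-! ### root elements normalising root groups -/

theorem X_ne {i j : ℤ} (h : (i : ZMod (2 * 8)) ≠ (j : ZMod (2 * 8))) {x : G} (hx : x ∈ S.XZ i) (hx' : x ∈ S.XZ j) :
    x = 1 := S.X_inf h hx hx'

/-- distance 6 -/
theorem dist_a {a : ℤ} {t : F} (h : S.o (a : ZMod 8) t ∈ Subgroup.normalizer (S.XZ (2 * a + 7) : Set G)) : t = 0 := by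
  have hm : S.o ((a : ZMod 8) + 3) 1 ∈ S.XZ (2 * a + 7) := by
    have := S.o_mem (a + 3) (1 : F)
    push_cast at this
    rwa [show 2 * (a + 3) + 1 = 2 * a + 7 by ring] at this
  have h1 := S.o_o3 (a : ZMod 8) t 1
  rw [mul_one, map_one, mul_one] at h1
  have h2 := (Subgroup.mem_normalizer_iff.1 (inv_mem h) _).1 hm
  rw [inv_inv] at h2
  have h3 : (S.o (a : ZMod 8) t)⁻¹ * S.o ((a : ZMod 8) + 3) 1 * S.o (a : ZMod 8) t *
      (S.o ((a : ZMod 8) + 1) (σ t) * S.o ((a : ZMod 8) + 2) t) = S.o ((a : ZMod 8) + 3) 1 := by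
    calc _ = (S.o (a : ZMod 8) t)⁻¹ * (S.o ((a : ZMod 8) + 3) 1 * S.o (a : ZMod 8) t *
        S.o ((a : ZMod 8) + 1) (σ t) * S.o ((a : ZMod 8) + 2) t) := by group
      _ = _ := by rw [← h1]; group
  have h4 : S.o ((a : ZMod 8) + 1) (σ t) * S.o ((a : ZMod 8) + 2) t ∈ S.XZ (2 * a + 7) := by
    have e : S.o ((a : ZMod 8) + 1) (σ t) * S.o ((a : ZMod 8) + 2) t =
        ((S.o (a : ZMod 8) t)⁻¹ * S.o ((a : ZMod 8) + 3) 1 * S.o (a : ZMod 8) t)⁻¹ * S.o ((a : ZMod 8) + 3) 1 :=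
      eq_inv_mul_of_mul_eq h3
    rw [e]
    exact mul_mem (inv_mem h2) hm
  have m1 : S.o ((a : ZMod 8) + 1) (σ t) ∈ S.XZ (2 * a + 3) := by
    have := S.o_mem (a + 1) (σ t)
    push_cast at this
    rwa [show 2 * (a + 1) + 1 = 2 * a + 3 by ring] at this
  have m2 : S.o ((a : ZMod 8) + 2) t ∈ S.XZ (2 * a + 5) := by
    have := S.o_mem (a + 2) t
    push_cast at this
    rwa [show 2 * (a + 2) + 1 = 2 * a + 5 by ring] at this
  have h5 := S.zsys8.inter' h4 (mul_mem (mem_J m1 (by omega) (by omega)) (mem_J m2 (by omega) (by omega)))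
  have h6 : S.o ((a : ZMod 8) + 1) (σ t) = 1 := by
    refine S.zsys8.inter _ _ m1 ?_
    rw [eq_inv_of_mul_eq_one_left h5]
    exact inv_mem (mem_J m2 (by omega) (by omega))
  exact (map_eq_zero σ).1 (S.o_eq_one h6)

theorem dist_b {a : ℤ} {t : F} (h : S.o ((a : ZMod 8) + 3) t ∈ Subgroup.normalizer (S.XZ (2 * a + 1) : Set G)) : t = 0 := by
  have hm : S.o (a : ZMod 8) 1 ∈ S.XZ (2 * a + 1) := S.o_mem a 1
  have h1 := S.o_o3 (a : ZMod 8) 1 t
  rw [map_one, one_mul, one_mul] at h1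
  have h2 := (Subgroup.mem_normalizer_iff.1 (inv_mem h) _).1 hm
  rw [inv_inv] at h2
  have h4 : S.o ((a : ZMod 8) + 1) t * S.o ((a : ZMod 8) + 2) (σ t) ∈ S.XZ (2 * a + 1) := by
    have e : S.o ((a : ZMod 8) + 1) t * S.o ((a : ZMod 8) + 2) (σ t) =
        (S.o (a : ZMod 8) 1)⁻¹ * ((S.o ((a : ZMod 8) + 3) t)⁻¹ * S.o (a : ZMod 8) 1 * S.o ((a : ZMod 8) + 3) t) := by
      rw [mul_assoc (S.o ((a : ZMod 8) + 3) t)⁻¹, h1]; group
    rw [e]
    exact mul_mem (inv_mem hm) h2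
  have m1 : S.o ((a : ZMod 8) + 1) t ∈ S.XZ (2 * a + 3) := by
    have := S.o_mem (a + 1) t
    push_cast at this
    rwa [show 2 * (a + 1) + 1 = 2 * a + 3 by ring] at this
  have m2 : S.o ((a : ZMod 8) + 2) (σ t) ∈ S.XZ (2 * a + 5) := by
    have := S.o_mem (a + 2) (σ t)
    push_cast at this
    rwa [show 2 * (a + 2) + 1 = 2 * a + 5 by ring] at this
  have h5 := S.zsys8.inter _ _ h4 (mul_mem (mem_J m1 (by omega) (by omega)) (mem_J m2 (by omega) (by omega)))
  have h6 : S.o ((a : ZMod 8) + 1) t = 1 := by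
    refine S.zsys8.inter _ _ m1 ?_
    rw [eq_inv_of_mul_eq_one_left h5]
    exact inv_mem (mem_J m2 (by omega) (by omega))
  exact S.o_eq_one h6

/-- opposite root groups -/
theorem dist_opp {a : ℤ} {t : F} (h : S.o (a : ZMod 8) t ∈ Subgroup.normalizer (S.XZ (2 * a + 9) : Set G)) : t = 0 := by
  by_contra ht
  have hm : S.o (a : ZMod 8) t ∈ S.XZ (2 * a + 1) := S.o_mem a t
  have hne : S.o (a : ZMod 8) t ≠ 1 := fun h => ht (S.o_eq_one h)
  obtain ⟨v, hv, v', hv', hr⟩ := S.zsys8.mu _ _ hm hne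
  have e1 : S.XZ (2 * a + 1 - 8) = S.XZ (2 * a + 9) := by
    have := S.zsys8.per' (2 * a + 9)
    rw [← this]
    congr 1
    ring
  rw [e1] at hv hv'
  have hn : v * S.o (a : ZMod 8) t * v' ∈ Subgroup.normalizer (S.XZ (2 * a + 9) : Set G) :=
    mul_mem (mul_mem (Subgroup.le_normalizer hv) h) (Subgroup.le_normalizer hv')
  obtain ⟨x, hx, hx1⟩ := S.zsys8.exists_ne (2 * a + 9)
  have h1 := (Subgroup.mem_normalizer_iff.1 hn x).1 hx
  have h2 := hr.mem hx
  have h3 := X_ne (S := S) (i := 2 * a + 9) (j := 2 * (2 * a + 1) - 8 - (2 * a + 9)) (fun he => ?_) h1 h2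
  · exact conj_ne_one hx1 h3
  · have h4 : ((2 * a + 9 - (2 * (2 * a + 1) - 8 - (2 * a + 9)) : ℤ) : ZMod (2 * 8)) = 0 := by
      rw [Int.cast_sub, he, sub_self]
    rw [ZMod.intCast_zmod_eq_zero_iff_dvd] at h4
    obtain ⟨m, hm⟩ := h4
    have hm' : 2 * a + 9 - (2 * (2 * a + 1) - 8 - (2 * a + 9)) = 16 * m := by rw [hm]; norm_num
    omega

/-! ### the stabilisers in `UO` -/

theorem cj_XZ_of_maps {w : G} {f : ZMod (2 * 8) → ZMod (2 * 8)} (hw : Maps S.R.X w f) {k j : ℤ}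
    (h : f (k : ZMod (2 * 8)) = (j : ZMod (2 * 8))) : cj w (S.XZ k) = S.XZ j := by
  ext x
  rw [mem_cj]
  have h1 := hw (k : ZMod (2 * 8)) (w⁻¹ * x * w)
  rw [h] at h1
  have e : w * (w⁻¹ * x * w) * w⁻¹ = x := by group
  rw [e] at h1
  exact h1.symm

section

variable [Finite F] [Finite G]

/-- the components of an element of a `T`-invariant subgroup of `UO` -/
theorem comp_UO (hF : ∃ c : Fˣ, c ≠ 1) (hR : S.R.p = 2) {V : Subgroup G} (hT : ∀ t ∈ S.T, ∀ x ∈ V, t * x * t⁻¹ ∈ V)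
    {a b c d : F} (h : pU S a b c d ∈ V) : S.o 0 a ∈ V ∧ S.o 1 b ∈ V ∧ S.o 2 c ∈ V ∧ S.o 3 d ∈ V := by
  have j3 : S.o 3 d ∈ J S.XZ 6 8 := mem_J (S.mX7 d) (by norm_num) (by norm_num)
  have j2 : S.o 2 c * S.o 3 d ∈ J S.XZ 4 8 :=
    mul_mem (mem_J (S.mX5 c) (by norm_num) (by norm_num)) (J_mono (by norm_num) le_rfl j3)
  have j1 : S.o 1 b * (S.o 2 c * S.o 3 d) ∈ J S.XZ 2 8 :=
    mul_mem (mem_J (S.mX3 b) (by norm_num) (by norm_num)) (J_mono (by norm_num) le_rfl j2)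
  have h0 := peel S hF hR hT (a := 1) (b := 8) (by norm_num) (S.mX1 a) j1 h
  have k0 := mul_mem (inv_mem h0) h
  unfold pU at k0
  rw [inv_mul_cancel_left] at k0
  have h1 := peel S hF hR hT (a := 3) (b := 8) (by norm_num) (S.mX3 b) j2 k0
  have k1 := mul_mem (inv_mem h1) k0
  rw [inv_mul_cancel_left] at k1
  have h2 := peel S hF hR hT (a := 5) (b := 8) (by norm_num) (S.mX5 c) j3 k1
  have k2 := mul_mem (inv_mem h2) k1
  rw [inv_mul_cancel_left] at k2
  exact ⟨h0, h1, h2, k2⟩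

theorem T_norm_XZ (k : ℤ) : S.T ≤ Subgroup.normalizer (S.XZ k : Set G) := fun _ ht =>
  norm_of_le fun _ hx => S.T_conj ht k hx

theorem comp_norm (hF : ∃ c : Fˣ, c ≠ 1) (hR : S.R.p = 2) (k : ℤ) {a b c d : F}
    (h : pU S a b c d ∈ Subgroup.normalizer (S.XZ k : Set G)) : S.o 0 a ∈ Subgroup.normalizer (S.XZ k : Set G) ∧
      S.o 1 b ∈ Subgroup.normalizer (S.XZ k : Set G) ∧ S.o 2 c ∈ Subgroup.normalizer (S.XZ k : Set G) ∧
      S.o 3 d ∈ Subgroup.normalizer (S.XZ k : Set G) :=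
  comp_UO hF hR (fun _ ht _ hx => mul_mem (mul_mem (T_norm_XZ k ht) hx) (inv_mem (T_norm_XZ k ht))) h

/-- a root element that commutes with a root group normalises it -/
theorem norm_of_comm {a b : ZMod 8} {k : ℤ} (hk : ∀ x ∈ S.XZ k, ∃ s, S.o b s = x)
    (hc : ∀ t s, S.o a t * S.o b s = S.o b s * S.o a t) (t : F) :
    S.o a t ∈ Subgroup.normalizer (S.XZ k : Set G) := by
  refine norm_of_le fun x hx => ?_
  obtain ⟨s, rfl⟩ := hk x hx
  rw [hc, mul_inv_cancel_right]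
  exact hx

theorem X13 {x : G} (hx : x ∈ S.XZ 13) : ∃ t, S.o 6 t = x := (S.mem_XZ_odd 6 x).1 hx

theorem norm1 (hF : ∃ c : Fˣ, c ≠ 1) (hR : S.R.p = 2) {a b c d : F} :
    pU S a b c d ∈ Subgroup.normalizer (S.XZ 1 : Set G) ↔ d = 0 := by
  constructor
  · intro h
    exact dist_b (S := S) (a := 0) (comp_norm hF hR 1 h).2.2.2
  · rintro rfl
    unfold pU
    rw [S.o_zero, mul_one]
    exact mul_mem (Subgroup.le_normalizer (S.mX1 a)) (mul_mem (norm_of_comm (b := 0) (fun _ h => S.X1 h) (o1_o0 S) b)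
      (norm_of_comm (b := 0) (fun _ h => S.X1 h) (o2_o0 S) c))

theorem norm5 (a b c d : F) : pU S a b c d ∈ Subgroup.normalizer (S.XZ 5 : Set G) := by
  refine norm_of_le fun x hx => ?_
  obtain ⟨s, rfl⟩ := S.X5 hx
  have h := comm_center (S := S) (pU_mem S a b c d) 0 s
  rw [S.o_zero, one_mul] at h
  rw [h, mul_inv_cancel_right]
  exact hx

theorem norm9 (hF : ∃ c : Fˣ, c ≠ 1) (hR : S.R.p = 2) {a b c d : F} :
    pU S a b c d ∈ Subgroup.normalizer (S.XZ 9 : Set G) ↔ a = 0 ∧ b = 0 := by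
  constructor
  · intro h
    obtain ⟨h0, h1, h2, h3⟩ := comp_norm hF hR 9 h
    exact ⟨dist_opp (S := S) (a := 0) h0, dist_a (S := S) (a := 1) h1⟩
  · rintro ⟨rfl, rfl⟩
    unfold pU
    rw [S.o_zero, S.o_zero, one_mul, one_mul]
    exact mul_mem (norm_of_comm (b := 4) (fun _ h => S.X9 h) (fun t s => S.o_o2 2 t s) c)
      (norm_of_comm (b := 4) (fun _ h => S.X9 h) (fun t s => S.o_o1 3 t s) d)

theorem norm13 (hF : ∃ c : Fˣ, c ≠ 1) (hR : S.R.p = 2) {a b c d : F} :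
    pU S a b c d ∈ Subgroup.normalizer (S.XZ 13 : Set G) ↔ b = 0 ∧ c = 0 ∧ d = 0 := by
  constructor
  · intro h
    obtain ⟨h0, h1, h2, h3⟩ := comp_norm hF hR 13 h
    refine ⟨dist_b (S := S) (a := -2) ?_, dist_opp (S := S) (a := 2) h2, dist_a (S := S) (a := 3) h3⟩
    have e : ((-2 : ℤ) : ZMod 8) + 3 = 1 := by decide
    have e2 : S.XZ (2 * (-2) + 1) = S.XZ 13 := rfl
    rw [e, e2]
    exact h1
  · rintro ⟨rfl, rfl, rfl⟩
    unfold pU
    rw [S.o_zero, S.o_zero, S.o_zero, one_mul, one_mul, mul_one]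
    exact norm_of_comm (b := 6) (fun _ h => X13 h) (fun t s => (S.o_o2 6 s t).symm) a

/-! ### the orbits of `UO` -/

theorem card_UO : Nat.card (UO S) = Nat.card F ^ 4 := by
  rw [card_of_param (α := F × F × F × F) (f := fun x => pU S x.1 x.2.1 x.2.2.1 x.2.2.2) ?_ fun g => ?_]
  · rw [Nat.card_prod, Nat.card_prod, Nat.card_prod]; ring
  · rintro ⟨a, b, c, d⟩ ⟨a', b', c', d'⟩ h
    obtain ⟨rfl, rfl, rfl, rfl⟩ := pU_inj S h
    rfl
  · constructor
    · rintro ⟨a, b, c, d, rfl⟩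
      exact ⟨(a, b, c, d), rfl⟩
    · rintro ⟨x, rfl⟩
      exact pU_mem S _ _ _ _

theorem stab1 (hF : ∃ c : Fˣ, c ≠ 1) (hR : S.R.p = 2) :
    Nat.card ↥(UO S ⊓ Subgroup.normalizer (S.XZ 1 : Set G)) = Nat.card F ^ 3 := by
  rw [card_of_param (α := F × F × F) (f := fun x => pU S x.1 x.2.1 x.2.2 0) ?_ fun g => ?_]
  · rw [Nat.card_prod, Nat.card_prod]; ring
  · rintro ⟨a, b, c⟩ ⟨a', b', c'⟩ h
    obtain ⟨rfl, rfl, rfl, -⟩ := pU_inj S h
    rfl
  · constructor
    · rintro ⟨⟨a, b, c, d, rfl⟩, h⟩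
      obtain rfl := (norm1 hF hR).1 h
      exact ⟨(a, b, c), rfl⟩
    · rintro ⟨x, rfl⟩
      exact ⟨pU_mem S _ _ _ _, (norm1 hF hR).2 rfl⟩

theorem stab5 : Nat.card ↥(UO S ⊓ Subgroup.normalizer (S.XZ 5 : Set G)) = Nat.card F ^ 4 := by
  have : UO S ⊓ Subgroup.normalizer (S.XZ 5 : Set G) = UO S := by
    refine inf_eq_left.2 ?_
    rintro _ ⟨a, b, c, d, rfl⟩
    exact norm5 a b c d
  rw [this, card_UO]

theorem stab9 (hF : ∃ c : Fˣ, c ≠ 1) (hR : S.R.p = 2) :
    Nat.card ↥(UO S ⊓ Subgroup.normalizer (S.XZ 9 : Set G)) = Nat.card F ^ 2 := by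
  rw [card_of_param (α := F × F) (f := fun x => pU S 0 0 x.1 x.2) ?_ fun g => ?_]
  · rw [Nat.card_prod]; ring
  · rintro ⟨a, b⟩ ⟨a', b'⟩ h
    obtain ⟨-, -, rfl, rfl⟩ := pU_inj S h
    rfl
  · constructor
    · rintro ⟨⟨a, b, c, d, rfl⟩, h⟩
      obtain ⟨rfl, rfl⟩ := (norm9 hF hR).1 h
      exact ⟨(c, d), rfl⟩
    · rintro ⟨x, rfl⟩
      exact ⟨pU_mem S _ _ _ _, (norm9 hF hR).2 ⟨rfl, rfl⟩⟩

theorem stab13 (hF : ∃ c : Fˣ, c ≠ 1) (hR : S.R.p = 2) :
    Nat.card ↥(UO S ⊓ Subgroup.normalizer (S.XZ 13 : Set G)) = Nat.card F := by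
  rw [card_of_param (α := F) (f := fun x => pU S x 0 0 0) ?_ fun g => ?_]
  · intro a a' h
    exact (pU_inj S h).1
  · constructor
    · rintro ⟨⟨a, b, c, d, rfl⟩, h⟩
      obtain ⟨rfl, rfl, rfl⟩ := (norm13 hF hR).1 h
      exact ⟨a, rfl⟩
    · rintro ⟨x, rfl⟩
      exact ⟨pU_mem S _ _ _ _, (norm13 hF hR).2 ⟨rfl, rfl, rfl⟩⟩

theorem q_pos : 0 < Nat.card F := Nat.card_pos

theorem orb1 (hF : ∃ c : Fˣ, c ≠ 1) (hR : S.R.p = 2) : (Orb (UO S) (S.XZ 1)).ncard = Nat.card F := by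
  have h := card_Orb (UO S) (S.XZ 1)
  rw [stab1 hF hR, card_UO] at h
  exact Nat.eq_of_mul_eq_mul_right (pow_pos q_pos 3) (h.trans (by ring))

theorem orb5 : (Orb (UO S) (S.XZ 5)).ncard = 1 := by
  have h := card_Orb (UO S) (S.XZ 5)
  rw [stab5, card_UO] at h
  exact Nat.eq_of_mul_eq_mul_right (pow_pos q_pos 4) (h.trans (by ring))

theorem orb9 (hF : ∃ c : Fˣ, c ≠ 1) (hR : S.R.p = 2) : (Orb (UO S) (S.XZ 9)).ncard = Nat.card F ^ 2 := by
  have h := card_Orb (UO S) (S.XZ 9)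
  rw [stab9 hF hR, card_UO] at h
  exact Nat.eq_of_mul_eq_mul_right (pow_pos q_pos 2) (h.trans (by ring))

theorem orb13 (hF : ∃ c : Fˣ, c ≠ 1) (hR : S.R.p = 2) : (Orb (UO S) (S.XZ 13)).ncard = Nat.card F ^ 3 := by
  have h := card_Orb (UO S) (S.XZ 13)
  rw [stab13 hF hR, card_UO] at h
  exact Nat.eq_of_mul_eq_mul_right q_pos (h.trans (by ring))

theorem cj_W4 {w : G} (hw : IsW4 S w) : cj w (S.XZ 5) = S.XZ 5 ∨ cj w (S.XZ 5) = S.XZ 1 ∨ cj w (S.XZ 5) = S.XZ 9 ∨
    cj w (S.XZ 5) = S.XZ 13 := by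
  obtain ⟨c, hc | hc⟩ := hw
  · rcases four_cases c with h | h | h | h
    · left; exact cj_XZ_of_maps hc (by rw [h]; decide)
    · right; right; left; exact cj_XZ_of_maps hc (by rw [h]; decide)
    · right; right; right; exact cj_XZ_of_maps hc (by rw [h]; decide)
    · right; left; exact cj_XZ_of_maps hc (by rw [h]; decide)
  · have e : ((4 * c + 2 : ℤ) : ZMod (2 * 8)) = ((4 * c : ℤ) : ZMod (2 * 8)) + 2 := by push_cast; ring
    rw [e] at hc
    rcases four_cases c with h | h | h | h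
    · right; right; right; exact cj_XZ_of_maps hc (by rw [h]; decide)
    · right; left; exact cj_XZ_of_maps hc (by rw [h]; decide)
    · left; exact cj_XZ_of_maps hc (by rw [h]; decide)
    · right; right; left; exact cj_XZ_of_maps hc (by rw [h]; decide)

theorem Orb_MM : Orb (MM S) (S.XZ 5) = Orb (UO S) (S.XZ 5) ∪ (Orb (UO S) (S.XZ 1) ∪
    (Orb (UO S) (S.XZ 9) ∪ Orb (UO S) (S.XZ 13))) := by
  apply Set.Subset.antisymm
  · rintro _ ⟨m, hm, rfl⟩
    obtain ⟨b, hb, w, hw, b', hb', rfl⟩ := bruhat_MM S hm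
    have h5 : cj b' (S.XZ 5) = S.XZ 5 := by
      obtain ⟨x, y, z, t, rfl⟩ := hb'
      exact mem_norm_iff.1 (norm5 x y z t)
    rw [cj_mul, cj_mul, h5]
    rcases cj_W4 hw with h | h | h | h <;> rw [h]
    · exact Or.inl ⟨b, hb, rfl⟩
    · exact Or.inr (Or.inl ⟨b, hb, rfl⟩)
    · exact Or.inr (Or.inr (Or.inl ⟨b, hb, rfl⟩))
    · exact Or.inr (Or.inr (Or.inr ⟨b, hb, rfl⟩))
  · have key : ∀ (k : ℤ) (w : G), w ∈ MM S → cj w (S.XZ 5) = S.XZ k → Orb (UO S) (S.XZ k) ⊆ Orb (MM S) (S.XZ 5) := by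
      rintro k w hw h _ ⟨b, hb, rfl⟩
      exact ⟨b * w, mul_mem (UO_le_MM S hb) hw, by rw [cj_mul, h]⟩
    have hm := mJ_maps S
    have hnm := (S.n1_maps).mul hm
    have k1 : cj (mJ S) (S.XZ 5) = S.XZ 1 := cj_XZ_of_maps hm (by decide)
    have k9 : cj (S.n1 * mJ S) (S.XZ 5) = S.XZ 9 := cj_XZ_of_maps hnm (by decide)
    have k13 : cj (S.n1 * mJ S * (S.n1 * mJ S)) (S.XZ 5) = S.XZ 13 := cj_XZ_of_maps (hnm.mul hnm) (by decide)
    have h1 := n1_mem_MM S
    have h2 := mJ_mem_MM S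
    refine Set.union_subset (key 5 1 (one_mem _) (cj_one _)) (Set.union_subset (key 1 _ h2 k1)
      (Set.union_subset (key 9 _ (mul_mem h1 h2) k9) (key 13 _ (mul_mem (mul_mem h1 h2) (mul_mem h1 h2)) k13)))

theorem ncard_Orb (hF : ∃ c : Fˣ, c ≠ 1) (hR : S.R.p = 2) : (Orb (MM S) (S.XZ 5)).ncard =
    1 + (Nat.card F + (Nat.card F ^ 2 + Nat.card F ^ 3)) := by
  have hq : 1 < Nat.card F := Finite.one_lt_card
  have hd : ∀ W W' : Subgroup G, (Orb (UO S) W).ncard ≠ (Orb (UO S) W').ncard → Disjoint (Orb (UO S) W) (Orb (UO S) W') := by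
    intro W W' h
    rw [Set.disjoint_left]
    intro Z h1 h2
    exact h (by rw [Orb_eq h1 h2])
  have e0 := pow_zero (Nat.card F)
  have e1 := pow_one (Nat.card F)
  have hne : ∀ i j : ℕ, i ≠ j → Nat.card F ^ i ≠ Nat.card F ^ j := fun i j hij h => hij (Nat.pow_right_injective hq h)
  have d51 : Disjoint (Orb (UO S) (S.XZ 5)) (Orb (UO S) (S.XZ 1)) := hd _ _ (by
    rw [orb5, orb1 hF hR]; omega)
  have d59 : Disjoint (Orb (UO S) (S.XZ 5)) (Orb (UO S) (S.XZ 9)) := hd _ _ (by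
    rw [orb5, orb9 hF hR, ← e0]; exact hne _ _ (by norm_num))
  have d513 : Disjoint (Orb (UO S) (S.XZ 5)) (Orb (UO S) (S.XZ 13)) := hd _ _ (by
    rw [orb5, orb13 hF hR, ← e0]; exact hne _ _ (by norm_num))
  have d19 : Disjoint (Orb (UO S) (S.XZ 1)) (Orb (UO S) (S.XZ 9)) := hd _ _ (by
    rw [orb1 hF hR, orb9 hF hR]; nth_rw 1 [← e1]; exact hne _ _ (by norm_num))
  have d113 : Disjoint (Orb (UO S) (S.XZ 1)) (Orb (UO S) (S.XZ 13)) := hd _ _ (by
    rw [orb1 hF hR, orb13 hF hR]; nth_rw 1 [← e1]; exact hne _ _ (by norm_num))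
  have d913 : Disjoint (Orb (UO S) (S.XZ 9)) (Orb (UO S) (S.XZ 13)) := hd _ _ (by
    rw [orb9 hF hR, orb13 hF hR]; exact hne _ _ (by norm_num))
  have hfin : ∀ A : Set (Subgroup G), A.Finite := fun A => Set.toFinite A
  rw [Orb_MM, Set.ncard_union_eq (d51.union_right (d59.union_right d513)) (hfin _) (hfin _),
    Set.ncard_union_eq (d19.union_right d113) (hfin _) (hfin _), Set.ncard_union_eq d913 (hfin _) (hfin _), orb5,
    orb1 hF hR, orb9 hF hR, orb13 hF hR]

/-! ### the prime `u` -/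

/-- `N(X_5) ≤ N(J 2 8)` -/
theorem norm_X5_le : Subgroup.normalizer (S.XZ 5 : Set G) ≤ Subgroup.normalizer (J S.XZ 2 8 : Set G) := by
  intro g hg
  have h := (Subgroup.mem_normalizer_iff.1 hg _).1 (S.mX5 1)
  obtain ⟨s', hs'⟩ := S.X5 h
  have h1 : g * (1 * S.o 2 1) * g⁻¹ = 1 * S.o 2 s' := by rw [one_mul, one_mul, hs']
  have hs1 : S.o 2 s' ≠ 1 := by
    rw [hs']
    exact conj_ne_one fun h => one_ne_zero (S.o_eq_one h)
  obtain ⟨y, hy, t, ht, rfl⟩ := S.parab_of_conj (one_mem _) (S.mX5 1) (one_mem _) (S.mX5 s') hs1 h1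
  refine norm_of_le fun x hx => ?_
  have e : y * t * x * (y * t)⁻¹ = y * (t * x * t⁻¹) * y⁻¹ := by group
  rw [e]
  exact S.zsys8.conj_J (a := 2) (b := 8) (c := 1) (d := 9) (by norm_num) (by norm_num) (by norm_num) hy
    (S.T_conj_J ht hx)

/-- **`u` does not divide `|M|`** -/
theorem not_dvd_MM (hF : ∃ c : Fˣ, c ≠ 1) (hR : S.R.p = 2) {u a : ℕ} (hq : Nat.card F = 2 ^ a) (ha : 1 ≤ a)
    (hu : H436.Prim 2 (12 * a) u) (h28 : ¬ u ∣ Nat.card ↥(Subgroup.normalizer (J S.XZ 2 8 : Set G))) :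
    ¬ u ∣ Nat.card (MM S) := by
  intro h
  rw [← card_Orb (MM S) (S.XZ 5), hu.prime.dvd_mul] at h
  rcases h with h | h
  · rw [ncard_Orb hF hR] at h
    have h1 : u ∣ 2 ^ (4 * a) - 1 := by
      have e : 2 ^ (4 * a) - 1 = (Nat.card F - 1) * (1 + (Nat.card F + (Nat.card F ^ 2 + Nat.card F ^ 3))) := by
        have h2 : 1 ≤ Nat.card F := q_pos
        rw [show 2 ^ (4 * a) = Nat.card F ^ 4 by rw [hq, ← pow_mul, mul_comm]]
        zify [h2, Nat.one_le_pow 4 _ h2]
        ring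
      rw [e]
      exact Dvd.dvd.mul_left h _
    have h2 := Nat.le_of_dvd (by omega) ((hu.dvd_iff (4 * a)).1 h1)
    omega
  · exact h28 (h.trans (Subgroup.card_dvd_of_le (inf_le_right.trans norm_X5_le)))

/-- **`u` does not divide `|N(M)|`** -/
theorem not_dvd_norm (hF : ∃ c : Fˣ, c ≠ 1) (hR : S.R.p = 2) {u a : ℕ} (hq : Nat.card F = 2 ^ a) (ha : 1 ≤ a)
    (hu : H436.Prim 2 (12 * a) u) (h28 : ¬ u ∣ Nat.card ↥(Subgroup.normalizer (J S.XZ 2 8 : Set G))) :
    ¬ u ∣ Nat.card ↥(Subgroup.normalizer (MM S : Set G)) := by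
  intro hdvd
  have := Fact.mk hu.prime
  have hu2 : u ≠ 2 := fun h => hu.not_dvd (by rw [h])
  obtain ⟨x, hx⟩ := exists_prime_orderOf_dvd_card' u hdvd
  have hN := ov_norm (S := S) hF hR
  have h2 : (x : G) * x ∈ MM S := by
    by_cases h : (x : G) ∈ MM S
    · exact mul_mem h h
    · exact hN.prod hF hR x.2 x.2 x.2 x.2 h h
  have hodd : Odd u := hu.prime.odd_of_ne_two hu2
  obtain ⟨k, hk⟩ := hodd
  have h3 : (x : G) ^ u = 1 := by
    have : x ^ u = 1 := by rw [← hx, pow_orderOf_eq_one]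
    exact congrArg Subtype.val this
  have h4 : (x : G) ∈ MM S := by
    have h5 := pow_mem h2 (k + 1)
    rw [← pow_two, ← pow_mul, show 2 * (k + 1) = u + 1 by omega, pow_succ, h3, one_mul] at h5
    exact h5
  have h5 : orderOf (⟨x, h4⟩ : MM S) = u := by
    rw [← hx, ← Subgroup.orderOf_coe, ← Subgroup.orderOf_coe]
  exact not_dvd_MM hF hR hq ha hu h28 (h5 ▸ orderOf_dvd_natCard _)

end

end Cfsg.Agent.H136.TwF
end

-- part: H136/TwF/Five
section
/-!
# Five pairwise apart subgroups of `²F₄(q)`, `q ≥ 8` (helper136, task 629, for S5906 and S5907)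

`N(J 2 8)`, `N(J 1 7)`, `N(⟨X_odd⟩)`, `N(⟨Z_0, Z_4, Z_8, Z_12⟩)` (helper823), `⟨x⟩`, `|x|` a primitive prime divisor of
`2 ^ (12 a) - 1`, `q = 2 ^ a`.
-/

set_option autoImplicit false
set_option linter.unusedSectionVars false

namespace Cfsg.Agent.H136.TwF

open Cfsg.Agent.KFacts.TwF4 Cfsg.Agent.KFacts.TwF4.Full Cfsg.Agent.KFacts.TwF4.Arc
open Cfsg.Agent.KFacts.TwF4.Inv Cfsg.Agent.KFacts.TwF4.SylU Cfsg.Agent.KFacts.TwF4.Perf
open Cfsg.Agent.SplitTwo Cfsg.Agent.SplitTwo.ZS Cfsg.Agent.TitsThree.RankTwoZ Cfsg.Agent.TitsThree.RankTwoRGD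
open Cfsg.Agent.SplitTwo.RootSysZ
open Cfsg.Agent.H392.TwFFour
open Cfsg.Agent.H187 Cfsg.Agent.H187.TwF4Par
open Cfsg.Agent.H940.MaxCls

universe u

variable {F : Type*} [Field F] {σ : F →+* F} {G : Type u} [Group G] {S : Full σ G}

theorem n1_P1 [Finite G] : S.n1 ∈ Subgroup.normalizer (J S.XZ 2 8 : Set G) :=
  norm_of_le fun _ hx => S.n1_refl.mem_J hx (by norm_num) (by norm_num)

theorem n2_P2 [Finite G] : S.n2 ∈ Subgroup.normalizer (J S.XZ 1 7 : Set G) :=
  norm_of_le fun _ hx => S.n2_refl.mem_J hx (by norm_num) (by norm_num)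

theorem n1_P2 (h : S.n1 ∈ Subgroup.normalizer (J S.XZ 1 7 : Set G)) : False := by
  have h2 : S.e 1 1 0 ∈ J S.XZ 1 7 := mem_J (S.mX2 1 0) (by norm_num) (by norm_num)
  have h3 := (Subgroup.mem_normalizer_iff.1 h _).1 h2
  rw [S.n1_e, show (5 : ZMod 8) - 1 = 4 by decide] at h3
  have h5 := S.zsys8.inter' (k := 8) (S.mX8 1 0) h3
  exact one_ne_zero (α := F) (S.e_eq_one h5).1

theorem n2_P1 (h : S.n2 ∈ Subgroup.normalizer (J S.XZ 2 8 : Set G)) : False := by
  have h2 : S.o 3 1 ∈ J S.XZ 2 8 := mem_J (S.mX7 1) (by norm_num) (by norm_num)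
  have h3 := (Subgroup.mem_normalizer_iff.1 h _).1 h2
  rw [S.n2_o, show (3 : ZMod 8) - 3 = 0 by decide] at h3
  have h5 := S.zsys8.inter 1 _ (S.mX1 1) h3
  exact one_ne_zero (α := F) (S.o_eq_one h5)

section

variable [Finite F] [Finite G]

theorem coatom_P1 : IsCoatom (Subgroup.normalizer (J S.XZ 2 8 : Set G)) := by
  refine ⟨norm_ne_top1, fun K hlt => ?_⟩
  have hU' : J S.XZ 1 8 ⊓ ⊤ ≤ K := by rw [inf_top_eq]; exact U_le_norm1.trans hlt.le
  rcases Cfsg.Agent.H248.TwF4Over.overgroup (Cfsg.Agent.H248.TwF4Over.cond_top S) hU' with h | h | h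
  · exact top_le_iff.1 h
  · exact absurd h (not_le_of_gt hlt)
  · exact (n1_P2 (h (hlt.le n1_P1))).elim

theorem coatom_P2 : IsCoatom (Subgroup.normalizer (J S.XZ 1 7 : Set G)) := by
  refine ⟨norm_ne_top2, fun K hlt => ?_⟩
  have hU' : J S.XZ 1 8 ⊓ ⊤ ≤ K := by rw [inf_top_eq]; exact U_le_norm2.trans hlt.le
  rcases Cfsg.Agent.H248.TwF4Over.overgroup (Cfsg.Agent.H248.TwF4Over.cond_top S) hU' with h | h | h
  · exact top_le_iff.1 h
  · exact (n2_P1 (h (hlt.le n2_P2))).elim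
  · exact absurd h (not_le_of_gt hlt)

/-- no conjugate of the one maximal parabolic subgroup is in the other -/
theorem not_conj_P (hF : ∃ c : Fˣ, c ≠ 1) (hR : S.R.p = 2) (g : G)
    (h : ∀ x ∈ Subgroup.normalizer (J S.XZ 1 7 : Set G), g * x * g⁻¹ ∈ Subgroup.normalizer (J S.XZ 2 8 : Set G)) :
    False := by
  have hU2 : IsPGroup 2 (J S.XZ 1 8) := two_J S hR (a := 1) (b := 8) (by norm_num)
  have hQ : IsPGroup 2 ((J S.XZ 1 8).map (MulAut.conj g).toMonoidHom) := hU2.map _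
  have hQM : (J S.XZ 1 8).map (MulAut.conj g).toMonoidHom ≤ Subgroup.normalizer (J S.XZ 2 8 : Set G) := by
    rintro _ ⟨x, hx, rfl⟩
    exact h x (U_le_norm2 hx)
  have hn : ∀ y : G, (∀ x ∈ J S.XZ 1 8, y * x * y⁻¹ ∈ J S.XZ 1 8) → ∃ b ∈ J S.XZ 1 8, ∃ t ∈ S.T, y = b * t := by
    intro y hy
    exact norm_U S hF hR fun x => Subgroup.mem_normalizer_iff.1 (norm_of_le hy) x
  obtain ⟨p, hp, hpU⟩ := exists_conj_le (M := Subgroup.normalizer (J S.XZ 2 8 : Set G)) U_le_norm1 hU2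
    (fun y _ hy k hk => by
      obtain ⟨b, hb, t, ht, rfl⟩ := hn y hy
      have hpow : ∀ n : ℕ, ∃ b' ∈ J S.XZ 1 8, (b * t) ^ n = b' * t ^ n := by
        intro n
        induction n with
        | zero => exact ⟨1, one_mem _, by simp⟩
        | succ n ih =>
          obtain ⟨u', hu', e⟩ := ih
          refine ⟨u' * (t ^ n * b * (t ^ n)⁻¹), mul_mem hu' (S.T_conj_J (pow_mem ht n) hb), ?_⟩
          rw [pow_succ, e, pow_succ]; group
      obtain ⟨b', hb', e⟩ := hpow (2 ^ k)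
      rw [hk] at e
      have h1 : t ^ (2 ^ k) = b'⁻¹ := eq_inv_of_mul_eq_one_right e.symm
      have h2 : t ^ (2 ^ k) = 1 := T_inf_J S hR (pow_mem ht _) (by rw [h1]; exact inv_mem hb')
      have h3 := T_pow_two S ht h2
      rw [h3, mul_one]
      exact hb) hQ hQM
  obtain ⟨b, hb, t, ht, e⟩ := hn (p * g) fun x hx => by
    have := hpU (g * x * g⁻¹) ⟨x, hx, rfl⟩
    have e : p * (g * x * g⁻¹) * p⁻¹ = p * g * x * (p * g)⁻¹ := by group
    rwa [e] at this
  have hT2 : S.T ≤ Subgroup.normalizer (J S.XZ 1 7 : Set G) := fun t ht => norm_of_le fun x hx => S.T_conj_J ht hx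
  have hpg : p * g ∈ Subgroup.normalizer (J S.XZ 1 7 : Set G) := by
    rw [e]; exact mul_mem (U_le_norm2 hb) (hT2 ht)
  -- `N(J 1 7) ≤ N(J 2 8)`
  have h1 := h ((p * g)⁻¹ * S.n2 * (p * g)) (mul_mem (mul_mem (inv_mem hpg) n2_P2) hpg)
  have h2 := mul_mem (mul_mem hp h1) (inv_mem hp)
  have e2 : p * (g * ((p * g)⁻¹ * S.n2 * (p * g)) * g⁻¹) * p⁻¹ = S.n2 := by group
  rw [e2] at h2
  exact n2_P1 h2

/-- no conjugate of `Z_4` is in `N(M)` -/
theorem not_conj_Z (hF : ∃ c : Fˣ, c ≠ 1) (hR : S.R.p = 2) (g : G)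
    (h : ∀ x ∈ S.Zc 2, g * x * g⁻¹ ∈ Subgroup.normalizer (MM S : Set G)) : False := by
  have hN := ov_norm (S := S) hF hR
  have key : ∀ v : F, v ≠ 0 → g * S.e 2 0 v * g⁻¹ ∈ MM S → False := by
    intro v hv hM
    have hz1 : S.e 2 0 v ≠ 1 := fun h => hv (S.e_eq_one h).2
    obtain ⟨m, hm, hc⟩ := inv_class hF hR hM (by
      calc g * S.e 2 0 v * g⁻¹ * (g * S.e 2 0 v * g⁻¹) = g * (S.e 2 0 v * S.e 2 0 v) * g⁻¹ := by group
        _ = 1 := by rw [z_sq S]; group) (conj_ne_one hz1)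
    have k2 : ∀ (y : G) (s : F), s ≠ 0 → y * S.e 2 0 v * y⁻¹ ≠ S.o 2 s := fun y s hs =>
      S.not_conj ⟨v, rfl⟩ hs y
    have k1 : ∀ (y : G) (s : F), s ≠ 0 → y * S.e 2 0 v * y⁻¹ ≠ S.o 1 s := fun y s hs h1 => by
      refine k2 (S.rot * y) s hs ?_
      have h2 := S.rot_o 1 s
      rw [← h1, show (1 : ZMod 8) + 1 = 2 by decide] at h2
      rw [← h2]; group
    have e : m * (g * S.e 2 0 v * g⁻¹) * m⁻¹ = (m * g) * S.e 2 0 v * (m * g)⁻¹ := by group
    rw [e] at hc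
    rcases hc with ⟨j, s, rfl | rfl, hs, h1⟩ | ⟨s, t, hs, ht, h1⟩
    · exact k1 _ s hs h1
    · exact k2 _ s hs h1
    · obtain ⟨y, -, hy, -⟩ := exists_y (S := S) (t := t) hs
      refine k1 (y * (m * g)) s hs ?_
      rw [← hy] at h1
      calc y * (m * g) * S.e 2 0 v * (y * (m * g))⁻¹ = y * (m * g * S.e 2 0 v * (m * g)⁻¹) * y⁻¹ := by group
        _ = S.o 1 s := by rw [h1]; group
  obtain ⟨c, hc⟩ := hF
  by_cases h1 : g * S.e 2 0 1 * g⁻¹ ∈ MM S
  · exact key 1 one_ne_zero h1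
  by_cases h2 : g * S.e 2 0 c * g⁻¹ ∈ MM S
  · exact key c c.ne_zero h2
  have a1 := h _ ⟨1, rfl⟩
  have a2 := h _ ⟨(c : F), rfl⟩
  have h3 := hN.prod ⟨c, hc⟩ hR a1 a2 a1 a2 h1 h2
  have e : g * S.e 2 0 1 * g⁻¹ * (g * S.e 2 0 c * g⁻¹) = g * S.e 2 0 (1 + c) * g⁻¹ := by
    have : S.e 2 0 1 * S.e 2 0 c = S.e 2 0 (1 + c) := by rw [S.e_mul, add_zero, zero_mul, add_zero]
    rw [← this]; group
  rw [e] at h3
  refine key (1 + c) (fun h0 => hc (Units.ext ?_)) h3
  rw [Units.val_one]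
  exact (add_eq_zero' S h0).symm

end

/-- a maximal subgroup of order not divisible by `u` and a subgroup of order `u` -/
theorem apart_prime {G : Type*} [Group G] [Finite G] {u : ℕ} {x : G} (hx : orderOf x = u) {A : Subgroup G}
    (hA : IsCoatom A) (h : ¬ u ∣ Nat.card A) : Apart A (Subgroup.zpowers x) := by
  refine apart_of_coatom hA fun g => ⟨x, Subgroup.mem_zpowers x, fun h1 => h ?_⟩
  have h2 : orderOf (⟨g * x * g⁻¹, h1⟩ : A) = u := by
    rw [← Subgroup.orderOf_coe]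
    show orderOf (g * x * g⁻¹) = u
    rw [← hx]
    exact (MulAut.conj g).orderOf_eq x
  exact h2 ▸ orderOf_dvd_natCard _

/-- **five pairwise apart subgroups** -/
theorem sep_full [Finite F] [Finite G] (hF : ∃ c : Fˣ, c ≠ 1) (hR : S.R.p = 2) {u a : ℕ} (hq : Nat.card F = 2 ^ a)
    (ha : 1 ≤ a) (hu : H436.Prim 2 (12 * a) u) (hG : u ∣ Nat.card G)
    (h28 : ¬ u ∣ Nat.card ↥(Subgroup.normalizer (J S.XZ 2 8 : Set G)))
    (h17 : ¬ u ∣ Nat.card ↥(Subgroup.normalizer (J S.XZ 1 7 : Set G))) : Sep 5 G := by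
  have := Fact.mk hu.prime
  obtain ⟨x, hx⟩ := exists_prime_orderOf_dvd_card' u hG
  have c1 := coatom_P1 (S := S)
  have c2 := coatom_P2 (S := S)
  have cA := coatom (S := S) hF hR
  have cB := Cfsg.Agent.H823.TwFSz.coatom S hF hR
  have z1 : S.Zc 2 ≤ Subgroup.normalizer (J S.XZ 2 8 : Set G) := by
    rintro _ ⟨v, rfl⟩
    exact Subgroup.le_normalizer (mem_J (S.mX4 0 v) (by norm_num) (by norm_num))
  have z2 : S.Zc 2 ≤ Subgroup.normalizer (J S.XZ 1 7 : Set G) := by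
    rintro _ ⟨v, rfl⟩
    exact Subgroup.le_normalizer (mem_J (S.mX4 0 v) (by norm_num) (by norm_num))
  have zB : S.Zc 2 ≤ Subgroup.normalizer (Cfsg.Agent.H823.TwFSz.RR S : Set G) := by
    rintro _ ⟨v, rfl⟩
    exact (Cfsg.Agent.H823.TwFSz.X_le S).2.1 (S.mX4 0 v)
  have apA : ∀ B : Subgroup G, S.Zc 2 ≤ B → Apart (Subgroup.normalizer (MM S : Set G)) B := fun B hB =>
    apart_of_coatom cA fun g => by
      by_contra hc
      push Not at hc
      exact not_conj_Z hF hR g fun z hz => hc z (hB hz)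
  have apB : ∀ B : Subgroup G, J S.XZ 1 8 ≤ B → Apart (Subgroup.normalizer (Cfsg.Agent.H823.TwFSz.RR S : Set G)) B :=
    fun B hB => apart_of_coatom cB fun g => by
      by_contra hc
      push Not at hc
      refine Cfsg.Agent.H823.TwFSz.no_sylow S hF hR g ?_
      rintro _ ⟨z, hz, rfl⟩
      exact hc z (hB hz)
  have hD : Subgroup.zpowers x ≠ ⊤ := by
    intro h
    have h1 : Nat.card G = u := by rw [← hx, ← Nat.card_zpowers, h]; simp only [_root_.Subgroup.mem_top, _root_.nonempty_subtype, _root_.exists_const, _root_.Nat.card_subtype_true]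
    have h2 : orderOf (S.o 0 1) = 2 := orderOf_eq_prime (by rw [pow_two]; exact o_sq S 0 1)
      (fun h => one_ne_zero (S.o_eq_one h))
    have h3 : 2 ∣ u := by rw [← h1, ← h2]; exact orderOf_dvd_natCard _
    have h4 := (Nat.prime_dvd_prime_iff_eq Nat.prime_two hu.prime).1 h3
    exact hu.not_dvd (by rw [← h4])
  refine sep_five (A := Subgroup.normalizer (J S.XZ 2 8 : Set G)) (B := Subgroup.normalizer (J S.XZ 1 7 : Set G))
    (C := Subgroup.normalizer (MM S : Set G)) (D := Subgroup.normalizer (Cfsg.Agent.H823.TwFSz.RR S : Set G))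
    (E := Subgroup.zpowers x) c1.1 c2.1 cA.1 cB.1 hD ?_ (apA _ z1).symm (apB _ U_le_norm1).symm (apart_prime hx c1 h28)
    (apA _ z2).symm (apB _ U_le_norm2).symm (apart_prime hx c2 h17) (apA _ zB)
    (apart_prime hx cA (not_dvd_norm hF hR hq ha hu h28))
    (apart_prime hx cB (Cfsg.Agent.H823.TwFSz.not_dvd S hF hR hu hq))
  refine apart_of_coatom c1 fun g => ?_
  by_contra hc
  push Not at hc
  exact not_conj_P hF hR g hc

open Cfsg Cfsg.Lie in
/-- **`Sep 5` for the groups `²F₄(q)`, `q ≥ 8`** -/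
theorem sep_2F4 {T : Type*} [Group T] [Finite T] (h : Cfsg.Lie.Iso2F4 T) : Sep 5 T := by
  obtain ⟨F, i1, i2, m, φ, S, hm, hK, ⟨e⟩, hR, hfin, hF⟩ := exists_full h
  obtain ⟨u, hu⟩ := H436.exists_prim (q := 2) (e := 12 * (2 * m + 1)) le_rfl (by omega) (by omega)
  have hc := S1068.result hK
  set G := ↥(twistedF4 F (2 ^ m)) with hG
  have hu6 : u ∣ (2 ^ (2 * m + 1)) ^ 6 + 1 := by
    have := hu.dvd_add (m := (2 * m + 1) * 6) ⟨1, by ring⟩ (fun h1 => by
      have := Nat.le_of_dvd (by omega) h1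
      omega)
    rwa [pow_mul] at this
  have hc' : Nat.card G = 2 ^ (12 * (2 * m + 1)) * ((2 ^ (2 * m + 1) - 1) * ((2 ^ (2 * m + 1)) ^ 3 + 1) *
      ((2 ^ (2 * m + 1)) ^ 4 - 1) * ((2 ^ (2 * m + 1)) ^ 6 + 1)) := by
    rw [hc, ← pow_mul, mul_comm 12]
    ring
  have hodd : ¬ 2 ∣ ((2 ^ (2 * m + 1) - 1) * ((2 ^ (2 * m + 1)) ^ 3 + 1) *
      ((2 ^ (2 * m + 1)) ^ 4 - 1) * ((2 ^ (2 * m + 1)) ^ 6 + 1)) := by
    have hq : 2 ∣ 2 ^ (2 * m + 1) := dvd_pow_self 2 (by omega)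
    have hq1 : 1 ≤ 2 ^ (2 * m + 1) := Nat.one_le_two_pow
    have a3 : 2 ∣ (2 ^ (2 * m + 1)) ^ 3 := dvd_pow hq (by norm_num)
    have a4 : 2 ∣ (2 ^ (2 * m + 1)) ^ 4 := dvd_pow hq (by norm_num)
    have a6 : 2 ∣ (2 ^ (2 * m + 1)) ^ 6 := dvd_pow hq (by norm_num)
    have b4 : 1 ≤ (2 ^ (2 * m + 1)) ^ 4 := Nat.one_le_pow _ _ (by omega)
    rw [Nat.prime_two.dvd_mul, Nat.prime_two.dvd_mul, Nat.prime_two.dvd_mul]
    omega
  have hq : Nat.card F = 2 ^ (2 * m + 1) := by rw [Nat.card_eq_fintype_card, hK]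
  refine Sep.of_mulEquiv ?_ e.symm
  refine sep_full (S := S) hF hR hq (by omega) hu ?_ ?_ ?_
  · rw [hc]
    exact Dvd.dvd.mul_left hu6 _
  · obtain ⟨a, ha, hVa⟩ := TwF4Par.card_lt hc' hodd hR (TwF4Par.J28_lt (S := S))
    exact not_dvd_card_normalizer hu hVa ha (TwF4Par.cent28 hR)
  · obtain ⟨a, ha, hVa⟩ := TwF4Par.card_lt hc' hodd hR (TwF4Par.J17_lt (S := S))
    exact not_dvd_card_normalizer hu hVa ha (TwF4Par.cent17 hR)

end Cfsg.Agent.H136.TwF
end

-- part: H507/Mc/Sing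
section
/-!
# A Singer element of `SL_n(q)` (helper507, for S5906, S5907)

* `exists_elt` : an element `λ` of norm `1` and order `(q ^ n - 1) / (q - 1)` in the field with `q ^ n` elements;
* `exists_singer` : `y ∈ SL_n(q)`, `⟨y⟩` irreducible, and (`n = 4`) no conjugate of `y` is a similitude of a
  non-degenerate bilinear form.
-/

set_option autoImplicit false
set_option linter.unusedSectionVars false

namespace Cfsg.Agent.H507.Mc

open Matrix Subgroup Polynomial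
open Cfsg.Agent.ClassicalGeometry.AutPSL.Root (tr coe_tr tr_mulVec sl_ext sl_mul_mulVec tr_mul_same_axis
  tr_mul_same_center transvection_eq_tr pr pr_surjective)

section Field

variable {F K : Type*} [Field F] [Field K] [Algebra F K] [Finite K] [FiniteDimensional F K]

theorem card_field : Nat.card K = Nat.card F ^ Module.finrank F K := Module.natCard_eq_pow_finrank

/-- the number `(q ^ n - 1) / (q - 1)` is larger than `q ^ (n - 1)` -/
theorem geom_gt {q n : ℕ} (hq : 2 ≤ q) (hn : 2 ≤ n) : q ^ (n - 1) < (q ^ n - 1) / (q - 1) := by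
  rw [Nat.lt_iff_add_one_le, Nat.le_div_iff_mul_le (by omega)]
  obtain ⟨k, rfl⟩ : ∃ k, n = k + 2 := ⟨n - 2, by omega⟩
  obtain ⟨r, rfl⟩ : ∃ r, q = r + 1 := ⟨q - 1, by omega⟩
  have h1 : (r + 1) ^ (k + 2) = (r + 1) ^ (k + 1) * (r + 1) := pow_succ _ _
  have h2 : r + 1 ≤ (r + 1) ^ (k + 1) := Nat.le_self_pow (by omega) _
  rw [show k + 2 - 1 = k + 1 by omega, h1, Nat.add_sub_cancel]
  have h3 : ((r + 1) ^ (k + 1) + 1) * r + 1 ≤ (r + 1) ^ (k + 1) * (r + 1) := by linarith only [h2]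
  omega

/-- an element of norm one and large order -/
theorem exists_elt (_hn : 2 ≤ Module.finrank F K) :
    ∃ l : K, l ≠ 0 ∧ orderOf l = (Nat.card K - 1) / (Nat.card F - 1) ∧ Algebra.norm F l = 1 := by
  have hF : Finite F := Finite.of_injective _ (algebraMap F K).injective
  have hFi := Fintype.ofFinite F
  have hKi := Fintype.ofFinite K
  have hq : 2 ≤ Nat.card F := by rw [Nat.card_eq_fintype_card]; exact Fintype.one_lt_card
  obtain ⟨u, hu⟩ := IsCyclic.exists_generator (α := Kˣ)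
  have hou : orderOf u = Nat.card K - 1 := by
    rw [orderOf_eq_card_of_forall_mem_zpowers hu, Nat.card_units]
  have hcard := card_field (F := F) (K := K)
  have hdvd : Nat.card F - 1 ∣ Nat.card K - 1 := by
    rw [hcard]
    simpa only [_root_.Nat.card_eq_fintype_card, _root_.one_pow] using Nat.sub_dvd_pow_sub_pow (Nat.card F) 1 (Module.finrank F K)
  have hpos : 0 < Nat.card K - 1 := by
    have : 1 < Nat.card K := Finite.one_lt_card
    omega
  set l : Kˣ := u ^ (Nat.card F - 1) with hl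
  have hol : orderOf l = (Nat.card K - 1) / (Nat.card F - 1) := by
    rw [hl, orderOf_pow' u (by omega), hou, Nat.gcd_eq_right hdvd]
  refine ⟨(l : K), l.ne_zero, by rw [orderOf_units, hol], ?_⟩
  apply (algebraMap F K).injective
  rw [FiniteField.algebraMap_norm_eq_pow, map_one, ← Units.val_pow_eq_pow_val, ← hol, pow_orderOf_eq_one,
    Units.val_one]

/-- it generates the field -/
theorem adjoin_eq_top {l : K} (hn : 2 ≤ Module.finrank F K)
    (hl : orderOf l = (Nat.card K - 1) / (Nat.card F - 1)) (hl0 : l ≠ 0) : Algebra.adjoin F {l} = ⊤ := by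
  have hF : Finite F := Finite.of_injective _ (algebraMap F K).injective
  have hFi := Fintype.ofFinite F
  have hq : 2 ≤ Nat.card F := by rw [Nat.card_eq_fintype_card]; exact Fintype.one_lt_card
  by_contra hcon
  set A := Algebra.adjoin F {l} with hA
  have hlA : l ∈ A := Algebra.subset_adjoin rfl
  have hrank : Module.finrank F A < Module.finrank F K := by
    have h1 : Subalgebra.toSubmodule A ≠ ⊤ := fun h => hcon (Algebra.toSubmodule_eq_top.1 h)
    exact (Submodule.finrank_lt h1 :)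
  -- the powers of `l`
  have h2 : orderOf l ≤ Nat.card A := by
    have h3 : Function.Injective (fun i : Fin (orderOf l) => (⟨l ^ (i : ℕ), pow_mem hlA i⟩ : A)) := by
      intro i j hij
      have h4 : l ^ (i : ℕ) = l ^ (j : ℕ) := congrArg Subtype.val hij
      have h5 := pow_inj_mod (x := Units.mk0 l hl0) (n := (i : ℕ)) (m := (j : ℕ))
      rw [← orderOf_units, Units.val_mk0, Nat.mod_eq_of_lt i.2, Nat.mod_eq_of_lt j.2] at h5
      exact Fin.ext (h5.1 (Units.ext (by rw [Units.val_pow_eq_pow_val, Units.val_pow_eq_pow_val, Units.val_mk0, h4])))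
    have h4 := Nat.card_le_card_of_injective _ h3
    rwa [Nat.card_fin] at h4
  have h3 : Nat.card A ≤ Nat.card F ^ (Module.finrank F K - 1) := by
    rw [Module.natCard_eq_pow_finrank (K := F) (V := A)]
    exact Nat.pow_le_pow_right (by omega) (by omega)
  have h4 := geom_gt hq hn
  rw [hl, card_field (F := F) (K := K)] at h2
  omega

/-- invariant subspaces -/
theorem eq_bot_or_top {l : K} (h : Algebra.adjoin F {l} = ⊤) (W : Submodule F K) (hW : ∀ w ∈ W, l * w ∈ W) :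
    W = ⊥ ∨ W = ⊤ := by
  have h1 : ∀ z : K, ∀ w ∈ W, z * w ∈ W := by
    intro z
    have hz : z ∈ Algebra.adjoin F {l} := by rw [h]; exact Algebra.mem_top
    induction hz using Algebra.adjoin_induction with
    | mem x hx =>
      rw [Set.mem_singleton_iff] at hx
      subst hx
      exact hW
    | algebraMap r =>
      intro w hw
      rw [← Algebra.smul_def]
      exact W.smul_mem r hw
    | add x y _ _ hx hy =>
      intro w hw
      rw [add_mul]
      exact W.add_mem (hx w hw) (hy w hw)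
    | mul x y _ _ hx hy =>
      intro w hw
      rw [mul_assoc]
      exact hx _ (hy w hw)
  by_cases hb : W = ⊥
  · exact Or.inl hb
  · right
    obtain ⟨w, hw, hw0⟩ := (Submodule.ne_bot_iff W).1 hb
    rw [eq_top_iff]
    intro z _
    have := h1 (z * w⁻¹) w hw
    rwa [inv_mul_cancel_right₀ hw0] at this

/-- a generator of the field is not a similitude of a bilinear form: the conjugates -/
theorem exists_pow {l : K} {c : F} (hl0 : l ≠ 0) (s : K → K → F)
    (hs1 : ∀ x y z, s (x + y) z = s x z + s y z) (hs2 : ∀ x y z, s x (y + z) = s x y + s x z)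
    (hs3 : ∀ (a : F) x y, s (a • x) y = a * s x y) (hs4 : ∀ (a : F) x y, s x (a • y) = a * s x y)
    (hnd : ∀ x, (∀ y, s x y = 0) → x = 0) (hs : ∀ x y, s (l * x) (l * y) = c * s x y) :
    ∃ i : ℕ, algebraMap F K c * l⁻¹ = l ^ (Nat.card F ^ i) := by
  have hF : Finite F := Finite.of_injective _ (algebraMap F K).injective
  set m := algebraMap F K c * l⁻¹ with hm
  -- moving `l`
  have h1 : ∀ x y, s x (l * y) = s (m * x) y := by
    intro x y
    have h2 := hs (l⁻¹ * x) y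
    rw [mul_inv_cancel_left₀ hl0] at h2
    rw [h2, ← hs3, hm, mul_assoc, Algebra.smul_def]
  have h2 : ∀ (k : ℕ) x y, s x (l ^ k * y) = s (m ^ k * x) y := by
    intro k
    induction k with
    | zero => intro x y; rw [pow_zero, pow_zero, one_mul, one_mul]
    | succ k ih =>
      intro x y
      rw [pow_succ, mul_assoc, ih, h1, pow_succ, ← mul_assoc, mul_comm m]
  have hz1 : ∀ z, s 0 z = 0 := fun z => by
    have := hs3 0 0 z
    rwa [zero_smul, zero_mul] at this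
  have hz2 : ∀ z, s z 0 = 0 := fun z => by
    have := hs4 0 z 0
    rwa [zero_smul, zero_mul] at this
  have h3 : ∀ (f : F[X]) x y, s x (aeval l f * y) = s (aeval m f * x) y := by
    intro f x y
    induction f using Polynomial.induction_on' with
    | add f g hf hg => rw [map_add, map_add, add_mul, add_mul, hs2, hs1, hf, hg]
    | monomial n a =>
      rw [aeval_monomial, aeval_monomial, mul_assoc, mul_assoc, ← Algebra.smul_def, ← Algebra.smul_def, hs4, hs3, h2]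
  -- `m` is a root of the minimal polynomial of `l`
  have hint : IsIntegral F l := Algebra.IsIntegral.isIntegral l
  have h4 : aeval m (minpoly F l) = 0 := by
    refine hnd _ fun y => ?_
    have h5 := h3 (minpoly F l) 1 y
    rw [minpoly.aeval, zero_mul, hz2, mul_one] at h5
    exact h5.symm
  have h5 : minpoly F m = minpoly F l :=
    (minpoly.eq_of_irreducible_of_monic (minpoly.irreducible hint) h4 (minpoly.monic hint)).symm
  obtain ⟨p, hp⟩ := CharP.exists F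
  have : Fact p.Prime := ⟨CharP.char_is_prime F p⟩
  have : _root_.Normal F K := inferInstance
  obtain ⟨g, hg⟩ := (Normal.minpoly_eq_iff_mem_orbit (F := F) (E := K) (x := m) (y := l)).1 h5
  obtain ⟨i, hi⟩ := FiniteField.exists_forall_apply_eq_pow F p K g
  refine ⟨i, ?_⟩
  rw [← hi l]
  exact hg.symm

theorem pow_card_sub_one {c : F} (hc : c ≠ 0) : (algebraMap F K c) ^ (Nat.card F - 1) = 1 := by
  have hF : Finite F := Finite.of_injective _ (algebraMap F K).injective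
  rw [← map_pow]
  have h1 : (Units.mk0 c hc) ^ (Nat.card Fˣ) = 1 := pow_card_eq_one'
  rw [Nat.card_units] at h1
  have h2 := congrArg Units.val h1
  rw [Units.val_pow_eq_pow_val, Units.val_mk0, Units.val_one] at h2
  rw [h2, map_one]

theorem le_of_pow {l : K} {c : F} (hc : c ≠ 0) {k : ℕ} (h : l ^ (k + 1) = algebraMap F K c) :
    orderOf l ≤ (k + 1) * (Nat.card F - 1) := by
  have hF : Finite F := Finite.of_injective _ (algebraMap F K).injective
  have hq : 1 < Nat.card F := Finite.one_lt_card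
  refine Nat.le_of_dvd (Nat.mul_pos (by omega) (by omega)) (orderOf_dvd_of_pow_eq_one ?_)
  rw [pow_mul, h, pow_card_sub_one hc]

/-- the numerical contradiction in degree four -/
theorem not_pow {l : K} (hl0 : l ≠ 0) (h4 : Module.finrank F K = 4)
    (hl : orderOf l = (Nat.card K - 1) / (Nat.card F - 1)) {c : F} {i : ℕ}
    (h : algebraMap F K c * l⁻¹ = l ^ (Nat.card F ^ i)) : False := by
  have hF : Finite F := Finite.of_injective _ (algebraMap F K).injective
  have hqq : 2 ≤ Nat.card F := Finite.one_lt_card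
  have hK : Nat.card K = Nat.card F ^ 4 := by rw [card_field (F := F), h4]
  have hle' : ∀ k : ℕ, l ^ (k + 1) = algebraMap F K c → orderOf l ≤ (k + 1) * (Nat.card F - 1) := by
    intro k hk
    refine le_of_pow (F := F) ?_ hk
    rintro rfl
    rw [map_zero, zero_mul] at h
    exact pow_ne_zero _ hl0 h.symm
  have hc : c ≠ 0 := by
    rintro rfl
    rw [map_zero, zero_mul] at h
    exact pow_ne_zero _ hl0 h.symm
  have h6 := pow_card_sub_one (F := F) (K := K) hc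
  obtain ⟨q, hq⟩ : ∃ q, Nat.card F = q := ⟨_, rfl⟩
  rw [hq] at hqq hK hle' hl h h6
  have hq2 : 2 ≤ q := hqq
  have hord : q ^ 3 < orderOf l := by
    rw [hl, hK]
    exact geom_gt (q := q) (n := 4) hq2 (by norm_num)
  have hfix : ∀ z : K, z ^ (q ^ 4) = z := by
    intro z
    have := Fintype.ofFinite K
    rw [← hK, Nat.card_eq_fintype_card, FiniteField.pow_card]
  -- reduce the exponent
  have hred : ∀ j : ℕ, l ^ (q ^ (4 * j + i % 4)) = l ^ (q ^ (i % 4)) := by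
    intro j
    induction j with
    | zero => rw [mul_zero, zero_add]
    | succ j ih =>
      rw [show 4 * (j + 1) + i % 4 = 4 * j + i % 4 + 4 by ring, pow_add, pow_mul, ih]
      rw [hfix]
  have h1 : algebraMap F K c = l ^ (q ^ (i % 4) + 1) := by
    have h2 : l ^ (q ^ i) = l ^ (q ^ (i % 4)) := by
      have := hred (i / 4)
      rwa [Nat.div_add_mod] at this
    rw [pow_succ, ← h2, ← h, inv_mul_cancel_right₀ hl0]
  have hi : i % 4 < 4 := Nat.mod_lt _ (by norm_num)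
  have key : ∀ k : ℕ, l ^ (q ^ k + 1) = algebraMap F K c → (q ^ k + 1) * (q - 1) ≤ q ^ 3 → False := by
    intro k hk hle
    have := hle' _ hk
    omega
  have hq1 : 1 ≤ q := by omega
  have h5 : (algebraMap F K c) ^ q = algebraMap F K c := by
    calc (algebraMap F K c) ^ q = (algebraMap F K c) ^ (q - 1) * algebraMap F K c := by
          rw [← pow_succ, Nat.sub_add_cancel hq1]
      _ = algebraMap F K c := by rw [h6, one_mul]
  obtain ⟨r, hr⟩ : ∃ r, q = r + 1 := ⟨q - 1, by omega⟩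
  have hcases : i % 4 = 0 ∨ i % 4 = 1 ∨ i % 4 = 2 ∨ i % 4 = 3 := by omega
  rcases hcases with hj | hj | hj | hj <;> rw [hj] at h1
  · refine key 0 h1.symm ?_
    rw [hr, Nat.add_sub_cancel, pow_zero]
    linarith only [Nat.zero_le (r ^ 3), _root_.sq_nonneg (↑r : ℤ)]
  · refine key 1 h1.symm ?_
    rw [hr, Nat.add_sub_cancel, pow_one]
    linarith only [Nat.zero_le (r ^ 3), _root_.sq_nonneg (↑r : ℤ)]
  · refine key 2 h1.symm ?_
    rw [hr, Nat.add_sub_cancel]
    linarith only [_root_.sq_nonneg (↑r : ℤ)]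
  · -- the third power of Frobenius
    have h2 : l ^ (q + 1) = algebraMap F K c := by
      have h3 : (algebraMap F K c) ^ q = (l ^ (q ^ 3 + 1)) ^ q := congrArg (fun z => z ^ q) h1
      rw [h5, ← pow_mul, add_mul, one_mul, ← pow_succ, pow_add, hfix] at h3
      rw [h3, pow_succ, mul_comm]
    refine key 1 (by rw [pow_one]; exact h2) ?_
    rw [hr, Nat.add_sub_cancel, pow_one]
    linarith only [Nat.zero_le (r ^ 3), _root_.sq_nonneg (↑r : ℤ)]

end Field

/-- **A Singer element.** -/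
theorem exists_singer (F : Type*) [Field F] [Finite F] {n : ℕ} (hn : 2 ≤ n) :
    ∃ y : Matrix.SpecialLinearGroup (Fin n) F, Irr (zpowers y) ∧
      (n = 4 → ∀ (c : F) (s : (Fin n → F) → (Fin n → F) → F), (∀ x y z, s (x + y) z = s x z + s y z) →
        (∀ x y z, s x (y + z) = s x y + s x z) → (∀ (a : F) x y, s (a • x) y = a * s x y) →
        (∀ (a : F) x y, s x (a • y) = a * s x y) → (∀ x, (∀ y, s x y = 0) → x = 0) →
        (∀ u v, s ((y : Matrix (Fin n) (Fin n) F) *ᵥ u) ((y : Matrix (Fin n) (Fin n) F) *ᵥ v) = c * s u v) → False) := by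
  obtain ⟨p, hp⟩ := CharP.exists F
  have hpp : Fact p.Prime := ⟨CharP.char_is_prime F p⟩
  have hn0 : NeZero n := ⟨by omega⟩
  let K := FiniteField.Extension F p n
  have hrank : Module.finrank F K = n := FiniteField.finrank_extension F p n
  have hfin : Finite K := inferInstance
  have hfd : FiniteDimensional F K := Module.finite_of_finrank_pos (by rw [hrank]; omega)
  obtain ⟨l, hl0, hl1, hl2⟩ := exists_elt (F := F) (K := K) (by omega)
  let b : Module.Basis (Fin n) F K := Module.finBasisOfFinrankEq F K hrank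
  set M : Matrix (Fin n) (Fin n) F := Algebra.leftMulMatrix b l with hM
  have hdet : M.det = 1 := by rw [hM, ← Algebra.norm_eq_matrix_det, hl2]
  have hact : ∀ x : K, M *ᵥ (b.equivFun x) = b.equivFun (l * x) := by
    intro x
    exact Algebra.leftMulMatrix_mulVec_repr b l x
  have hact' : ∀ u : Fin n → F, M *ᵥ u = b.equivFun (l * b.equivFun.symm u) := by
    intro u
    rw [← hact, b.equivFun.apply_symm_apply]
  refine ⟨⟨M, hdet⟩, fun W hW => ?_, fun h4 c s hs1 hs2 hs3 hs4 hnd hs => ?_⟩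
  · have h1 := eq_bot_or_top (adjoin_eq_top (by omega) hl1 hl0) (W.comap (b.equivFun : K →ₗ[F] (Fin n → F)))
      fun w hw => by
        rw [Submodule.mem_comap] at hw ⊢
        change b.equivFun (l * w) ∈ W
        rw [← hact]
        exact hW _ (mem_zpowers _) _ hw
    rcases h1 with h1 | h1
    · left
      rw [eq_bot_iff]
      intro w hw
      have h2 : b.equivFun.symm w ∈ W.comap (b.equivFun : K →ₗ[F] (Fin n → F)) := by
        rw [Submodule.mem_comap]
        change b.equivFun (b.equivFun.symm w) ∈ W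
        rwa [b.equivFun.apply_symm_apply]
      rw [h1, Submodule.mem_bot] at h2
      rw [Submodule.mem_bot]
      have := congrArg b.equivFun h2
      rwa [b.equivFun.apply_symm_apply, map_zero] at this
    · right
      rw [eq_top_iff]
      intro w _
      have h2 : b.equivFun.symm w ∈ W.comap (b.equivFun : K →ₗ[F] (Fin n → F)) := by
        rw [h1]; exact Submodule.mem_top
      rw [Submodule.mem_comap] at h2
      change b.equivFun (b.equivFun.symm w) ∈ W at h2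
      rwa [b.equivFun.apply_symm_apply] at h2
  · obtain ⟨i, hi⟩ := exists_pow (F := F) (K := K) (l := l) (c := c) hl0 (fun x y => s (b.equivFun x) (b.equivFun y))
      (fun x y z => by rw [map_add, hs1]) (fun x y z => by rw [map_add, hs2]) (fun a x y => by rw [map_smul, hs3])
      (fun a x y => by rw [map_smul, hs4]) (fun x hx => by
        have := hnd (b.equivFun x) fun y => by
          have := hx (b.equivFun.symm y)
          rwa [b.equivFun.apply_symm_apply] at this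
        exact b.equivFun.map_eq_zero_iff.1 this) (fun x y => by
        rw [← hact, ← hact]
        exact hs _ _)
    exact not_pow hl0 (by rw [hrank, h4]) hl1 hi

end Cfsg.Agent.H507.Mc
end

-- part: H507/Mc/Sp4
section
/-!
# The similitude group of the symplectic form in `SL_4(q)` (helper507, for S5906, S5907)

* `sf` : the alternating form on `F^4`; `Sim F` : its similitudes in `SL_4`;
* `sim_irr` : `Sim F` is irreducible;
* `sim_coatom` : `Sim F` is a maximal subgroup of `SL_4(F)`.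
-/

set_option autoImplicit false
set_option linter.unusedSectionVars false

namespace Cfsg.Agent.H507.Mc

open Matrix Subgroup
open Cfsg.Agent.ClassicalGeometry.AutPSL.Root (tr coe_tr tr_mulVec sl_ext sl_mul_mulVec tr_mul_same_axis
  tr_mul_same_center transvection_eq_tr pr pr_surjective)

variable {F : Type*} [Field F]

/-- the alternating form -/
def sf (u v : Fin 4 → F) : F := u 0 * v 2 - u 2 * v 0 + (u 1 * v 3 - u 3 * v 1)

/-- the linear form `v ↦ sf v a` -/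
def sv (a : Fin 4 → F) : Fin 4 → F := ![a 2, a 3, - a 0, - a 1]

theorem sv_dot (a v : Fin 4 → F) : sv a ⬝ᵥ v = sf v a := by
  simp only [sv, sf, dotProduct, Fin.sum_univ_four, Matrix.cons_val_zero, Matrix.cons_val_one, Matrix.cons_val]
  ring

/-- the inverse of `sv` -/
def vs (a : Fin 4 → F) : Fin 4 → F := ![- a 2, - a 3, a 0, a 1]

theorem sv_vs (a : Fin 4 → F) : sv (vs a) = a := by
  ext i
  (revert i; simp only [sv, vs, _root_.Fin.forall_fin_succ, Fin.isValue, _root_.Matrix.cons_val, _root_.Matrix.cons_val_zero, _root_.neg_neg, _root_.Matrix.cons_val_one, _root_.Matrix.cons_val_succ, _root_.Fin.succ_zero_eq_one, _root_.Fin.succ_one_eq_two, _root_.Matrix.cons_val_fin_one, Fin.reduceSucc, _root_.IsEmpty.forall_iff, _root_.and_self])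

theorem sf_add_left (x y z : Fin 4 → F) : sf (x + y) z = sf x z + sf y z := by
  simp only [sf, Pi.add_apply]; ring

theorem sf_add_right (x y z : Fin 4 → F) : sf x (y + z) = sf x y + sf x z := by
  simp only [sf, Pi.add_apply]; ring

theorem sf_smul_left (a : F) (x y : Fin 4 → F) : sf (a • x) y = a * sf x y := by
  simp only [sf, Pi.smul_apply, smul_eq_mul]; ring

theorem sf_smul_right (a : F) (x y : Fin 4 → F) : sf x (a • y) = a * sf x y := by
  simp only [sf, Pi.smul_apply, smul_eq_mul]; ring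

theorem sf_self (x : Fin 4 → F) : sf x x = 0 := by
  simp only [sf]; ring

theorem sf_swap (x y : Fin 4 → F) : sf y x = - sf x y := by
  simp only [sf]; ring

theorem sf_nondeg {x : Fin 4 → F} (h : ∀ y, sf x y = 0) : x = 0 := by
  have h0 := h (Pi.single 2 1)
  have h1 := h (Pi.single 3 1)
  have h2 := h (Pi.single 0 1)
  have h3 := h (Pi.single 1 1)
  simp [sf] at h0 h1 h2 h3
  ext i
  fin_cases i
  · simpa using h0
  · simpa using h1
  · simpa using h2
  · simpa using h3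

theorem exists_sf_one {x : Fin 4 → F} (hx : x ≠ 0) : ∃ y, sf x y ≠ 0 := by
  by_contra hc
  push Not at hc
  exact hx (sf_nondeg hc)

/-- the determinant and the form -/
theorem det_eq_sf (A : Matrix (Fin 4) (Fin 4) F) :
    A.det = sf (A.col 0) (A.col 2) * sf (A.col 1) (A.col 3) - sf (A.col 0) (A.col 1) * sf (A.col 2) (A.col 3)
      - sf (A.col 0) (A.col 3) * sf (A.col 1) (A.col 2) := by
  simp only [sf, Matrix.col_apply]
  rw [Matrix.det_succ_row_zero]
  simp only [Fin.sum_univ_four, Matrix.det_fin_three, Matrix.submatrix_apply]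
  simp only [Fin.succAbove, Fin.succ, Fin.lt_def, _root_.Nat.succ_eq_add_one, _root_.Nat.reduceAdd, _root_.Fin.isValue, _root_.Fin.coe_ofNat_eq_mod, _root_.Nat.zero_mod, _root_.pow_zero, _root_.one_mul, _root_.zero_add, _root_.Fin.mk_one, _root_.Fin.castSucc_zero, _root_.lt_self_iff_false, ↓ _root_.reduceIte, _root_.Nat.one_mod, _root_.Fin.reduceFinMk, _root_.Fin.castSucc_one, _root_.not_lt_zero, _root_.Nat.mod_succ, _root_.Fin.reduceCastSucc, _root_.pow_one, _root_.neg_mul, _root_.zero_lt_one, _root_.Nat.reduceMod, _root_.Nat.not_ofNat_lt_one, _root_.even_two, _root_.Even.neg_pow, _root_.one_pow, _root_.Order.lt_two_iff, _root_.zero_le, _root_.Std.le_refl, _root_.Nat.ofNat_pos, _root_.Nat.one_lt_ofNat, _root_.Nat.lt_add_one]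
  ring

/-- the similitudes -/
def Sim (F : Type*) [Field F] : Subgroup (Matrix.SpecialLinearGroup (Fin 4) F) where
  carrier := {g | ∃ c : F, c ≠ 0 ∧ ∀ x y, sf ((g : Matrix (Fin 4) (Fin 4) F) *ᵥ x) ((g : Matrix (Fin 4) (Fin 4) F) *ᵥ y) =
    c * sf x y}
  one_mem' := ⟨1, one_ne_zero, fun x y => by
    rw [Matrix.SpecialLinearGroup.coe_one, one_mulVec, one_mulVec, one_mul]⟩
  mul_mem' := by
    rintro g h ⟨c, hc, hg⟩ ⟨d, hd, hh⟩
    refine ⟨c * d, mul_ne_zero hc hd, fun x y => ?_⟩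
    rw [sl_mul_mulVec, sl_mul_mulVec, hg, hh, mul_assoc]
  inv_mem' := by
    rintro g ⟨c, hc, hg⟩
    refine ⟨c⁻¹, inv_ne_zero hc, fun x y => ?_⟩
    have := hg (((g⁻¹ : Matrix.SpecialLinearGroup (Fin 4) F) : Matrix (Fin 4) (Fin 4) F) *ᵥ x)
      (((g⁻¹ : Matrix.SpecialLinearGroup (Fin 4) F) : Matrix (Fin 4) (Fin 4) F) *ᵥ y)
    rw [mulVec_inv, mulVec_inv] at this
    rw [this, inv_mul_cancel_left₀ hc]

theorem sv_smul_orth (a : Fin 4 → F) (c : F) : (c • sv a) ⬝ᵥ a = 0 := by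
  rw [smul_dotProduct, sv_dot, sf_self, smul_zero]

/-- the symplectic transvections -/
theorem tr_mem_sim (a : Fin 4 → F) (c : F) : tr a (c • sv a) (sv_smul_orth a c) ∈ Sim F := by
  refine ⟨1, one_ne_zero, fun x y => ?_⟩
  rw [tr_mulVec, tr_mulVec, smul_dotProduct, smul_dotProduct, sv_dot, sv_dot, sf_add_left, sf_add_right, sf_add_right,
    sf_smul_left, sf_smul_left, sf_smul_right, sf_smul_right, sf_self, sf_swap a y, smul_eq_mul, smul_eq_mul]
  rw [sf_swap y a]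
  ring

/-- the similitude group is irreducible -/
theorem sim_irr : Irr (Sim F) := by
  intro W hW
  by_cases hb : W = ⊥
  · exact Or.inl hb
  · right
    obtain ⟨w, hw, hw0⟩ := (Submodule.ne_bot_iff W).1 hb
    have h1 : ∀ a, sf w a ≠ 0 → a ∈ W := by
      intro a ha
      have h2 := hW _ (tr_mem_sim a 1) w hw
      rw [tr_mulVec, smul_dotProduct, sv_dot, one_smul] at h2
      have h3 := (W.add_mem_iff_right hw).1 h2
      exact (W.smul_mem_iff ha).1 h3
    obtain ⟨b, hb⟩ := exists_sf_one hw0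
    rw [eq_top_iff]
    intro a _
    by_cases ha : sf w a = 0
    · have h2 := h1 (a + b) (by rw [sf_add_right, ha, zero_add]; exact hb)
      exact (W.add_mem_iff_left (h1 b hb)).1 h2
    · exact h1 a ha

/-- a symplectic basis -/
theorem exists_frame {x y : Fin 4 → F} (hx : x ≠ 0) (hxy : ∀ c : F, y ≠ c • x) (h0 : sf x y = 0) :
    ∃ g : Matrix.SpecialLinearGroup (Fin 4) F,
      (∀ u v, sf ((g : Matrix (Fin 4) (Fin 4) F) *ᵥ u) ((g : Matrix (Fin 4) (Fin 4) F) *ᵥ v) = sf u v) ∧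
      (g : Matrix (Fin 4) (Fin 4) F) *ᵥ (Pi.single 0 1) = x ∧ (g : Matrix (Fin 4) (Fin 4) F) *ᵥ (Pi.single 1 1) = y := by
  have hyx : ∀ c : F, x ≠ c • y := by
    intro c hc
    have hc0 : c ≠ 0 := by
      rintro rfl
      rw [zero_smul] at hc
      exact hx hc
    exact hxy c⁻¹ (by rw [hc, smul_smul, inv_mul_cancel₀ hc0, one_smul])
  obtain ⟨φ, hφ1, hφ2⟩ := exists_form hyx
  obtain ⟨ψ, hψ1, hψ2⟩ := exists_form hxy
  rw [← sv_vs φ, sv_dot] at hφ1 hφ2
  rw [← sv_vs ψ, sv_dot] at hψ1 hψ2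
  set x' := vs φ with hx'
  set z := vs ψ with hz
  set y' := z + sf x' z • x with hy'
  have e1 : sf x x' = 1 := hφ2
  have e2 : sf y x' = 0 := hφ1
  have e3 : sf x z = 0 := hψ1
  have e4 : sf y z = 1 := hψ2
  have e5 : sf x y' = 0 := by rw [hy', sf_add_right, sf_smul_right, e3, sf_self, mul_zero, add_zero]
  have e6 : sf y y' = 1 := by
    rw [hy', sf_add_right, sf_smul_right, e4, sf_swap x y, h0, neg_zero, mul_zero, add_zero]
  have e7 : sf x' y' = 0 := by
    rw [hy', sf_add_right, sf_smul_right, sf_swap x x', e1]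
    ring
  set A : Matrix (Fin 4) (Fin 4) F := Matrix.of fun i j => (![x, y, x', y'] : Fin 4 → Fin 4 → F) j i with hA
  have hc0 : A.col 0 = x := rfl
  have hc1 : A.col 1 = y := rfl
  have hc2 : A.col 2 = x' := rfl
  have hc3 : A.col 3 = y' := rfl
  have hdet : A.det = 1 := by
    rw [det_eq_sf, hc0, hc1, hc2, hc3, e1, e6, h0, e5]
    ring
  have hmul : ∀ u : Fin 4 → F, A *ᵥ u = u 0 • x + u 1 • y + u 2 • x' + u 3 • y' := by
    intro u
    ext i
    simp only [mulVec, dotProduct, Fin.sum_univ_four, Pi.add_apply, Pi.smul_apply, smul_eq_mul, hA, Matrix.of_apply,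
      Matrix.cons_val_zero, Matrix.cons_val_one, Matrix.cons_val]
    ring
  refine ⟨⟨A, hdet⟩, fun u v => ?_, ?_, ?_⟩
  · change sf (A *ᵥ u) (A *ᵥ v) = sf u v
    rw [hmul, hmul]
    simp only [sf_add_left, sf_add_right, sf_smul_left, sf_smul_right, sf_self, e1, e2, e5, e6, e7, h0,
      sf_swap x x', sf_swap y x', sf_swap x y', sf_swap y y', sf_swap x' y', sf_swap x y]
    simp only [sf]
    ring
  · change A *ᵥ _ = x
    rw [hmul]
    simp
  · change A *ᵥ _ = y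
    rw [hmul]
    simp

/-- an isometry moves the linear forms -/
theorem sv_vecMul_inv {g : Matrix.SpecialLinearGroup (Fin 4) F}
    (hg : ∀ u v, sf ((g : Matrix (Fin 4) (Fin 4) F) *ᵥ u) ((g : Matrix (Fin 4) (Fin 4) F) *ᵥ v) = sf u v)
    (a : Fin 4 → F) : sv a ᵥ* ((g⁻¹ : Matrix.SpecialLinearGroup (Fin 4) F) : Matrix (Fin 4) (Fin 4) F) =
      sv ((g : Matrix (Fin 4) (Fin 4) F) *ᵥ a) := by
  refine _root_.dotProduct_eq _ _ fun v => ?_
  rw [← Matrix.dotProduct_mulVec, sv_dot, sv_dot, ← hg, mulVec_inv]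

theorem sv_orth {x y : Fin 4 → F} (h : sf x y = 0) : sv y ⬝ᵥ x = 0 := by rw [sv_dot, h]

/-- **The similitude group is maximal.** -/
theorem sim_top {H : Subgroup (Matrix.SpecialLinearGroup (Fin 4) F)} (hle : Sim F ≤ H) (hne : ¬ H ≤ Sim F) :
    H = ⊤ := by
  obtain ⟨h, hH, hS⟩ := SetLike.not_le_iff_exists.1 hne
  -- a transvection which is not symplectic
  obtain ⟨x, y, hx, hxy, h0, hT⟩ : ∃ (x y : Fin 4 → F) (_ : x ≠ 0) (_ : ∀ c : F, y ≠ c • x) (h0 : sf x y = 0),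
      tr x (sv y) (sv_orth h0) ∈ H := by
    by_contra hcon
    push Not at hcon
    -- the adjoint
    set k : (Fin 4 → F) → (Fin 4 → F) := fun a =>
      vs (sv a ᵥ* ((h⁻¹ : Matrix.SpecialLinearGroup (Fin 4) F) : Matrix (Fin 4) (Fin 4) F)) with hk
    have hka : ∀ a v, sf v (k a) = sf (((h⁻¹ : Matrix.SpecialLinearGroup (Fin 4) F) : Matrix (Fin 4) (Fin 4) F) *ᵥ v) a := by
      intro a v
      rw [← sv_dot, hk, sv_vs, ← Matrix.dotProduct_mulVec, sv_dot]
    have h1 : ∀ a, a ≠ 0 → ∃ c : F, k a = c • ((h : Matrix (Fin 4) (Fin 4) F) *ᵥ a) := by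
      intro a ha
      by_contra hc
      push Not at hc
      have h2 : sf ((h : Matrix (Fin 4) (Fin 4) F) *ᵥ a) (k a) = 0 := by
        rw [hka, inv_mulVec, sf_self]
      have h3 : (h : Matrix (Fin 4) (Fin 4) F) *ᵥ a ≠ 0 := by
        intro h4
        have := inv_mulVec h a
        rw [h4, mulVec_zero] at this
        exact ha this.symm
      refine hcon _ _ h3 hc h2 ?_
      have h4 := mul_mem (mul_mem hH (hle (tr_mem_sim a 1))) (inv_mem hH)
      rw [conj_tr] at h4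
      have h5 : (((1 : F) • sv a) ᵥ* ((h⁻¹ : Matrix.SpecialLinearGroup (Fin 4) F) : Matrix (Fin 4) (Fin 4) F)) =
          sv (k a) := by
        rw [one_smul, hk, sv_vs]
      rwa [tr_congr (b := (h : Matrix (Fin 4) (Fin 4) F) *ᵥ a) (ψ := sv (k a)) (h' := sv_orth h2) rfl h5] at h4
    -- a scalar
    let f : (Fin 4 → F) →ₗ[F] (Fin 4 → F) :=
      { toFun := fun a => ((h⁻¹ : Matrix.SpecialLinearGroup (Fin 4) F) : Matrix (Fin 4) (Fin 4) F) *ᵥ k a
        map_add' := fun a b => by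
          rw [← mulVec_add]
          congr 1
          apply sub_eq_zero.1
          rw [← neg_eq_zero]
          refine sf_nondeg fun v => ?_
          have e : sf (k (a + b)) v = sf (k a) v + sf (k b) v := by
            rw [sf_swap v, sf_swap v (k a), sf_swap v (k b), hka, hka, hka, sf_add_right]
            ring
          have e2 : -(k (a + b) - (k a + k b)) = k a + k b + (-1 : F) • k (a + b) := by
            rw [neg_one_smul]; abel
          rw [e2, sf_add_left, sf_add_left, sf_smul_left, e]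
          ring
        map_smul' := fun c a => by
          rw [RingHom.id_apply, ← mulVec_smul]
          congr 1
          apply sub_eq_zero.1
          refine sf_nondeg fun v => ?_
          have e : sf (k (c • a)) v = c * sf (k a) v := by
            rw [sf_swap v, sf_swap v (k a), hka, hka, sf_smul_right]
            ring
          have e2 : k (c • a) - c • k a = k (c • a) + (-c) • k a := by
            rw [neg_smul]; abel
          rw [e2, sf_add_left, sf_smul_left, e]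
          ring }
    obtain ⟨c, hc⟩ := LinearMap.exists_eq_smul_id_of_forall_notLinearIndependent (R := F) (f := f) (fun a => by
      by_cases ha : a = 0
      · intro hl
        have := hl.ne_zero 0
        exact this (by simpa using ha)
      · obtain ⟨c, hc⟩ := h1 a ha
        have h2 : f a = c • a := by
          change ((h⁻¹ : Matrix.SpecialLinearGroup (Fin 4) F) : Matrix (Fin 4) (Fin 4) F) *ᵥ k a = _
          rw [hc, mulVec_smul, inv_mulVec]
        rw [LinearIndependent.pair_iff]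
        push Not
        refine ⟨-c, 1, ?_, fun _ => one_ne_zero⟩
        rw [h2, one_smul, neg_smul, neg_add_cancel])
    have h2 : ∀ a, k a = c • ((h : Matrix (Fin 4) (Fin 4) F) *ᵥ a) := by
      intro a
      have h3 : ((h⁻¹ : Matrix.SpecialLinearGroup (Fin 4) F) : Matrix (Fin 4) (Fin 4) F) *ᵥ k a = c • a :=
        LinearMap.congr_fun hc a
      rw [← mulVec_smul, ← h3, mulVec_inv]
    have h3 : ∀ u v, c * sf ((h : Matrix (Fin 4) (Fin 4) F) *ᵥ u) ((h : Matrix (Fin 4) (Fin 4) F) *ᵥ v) = sf u v := by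
      intro u v
      rw [← sf_smul_right, ← h2, hka, inv_mulVec]
    have hc0 : c ≠ 0 := by
      rintro rfl
      have h4 := h3 (Pi.single 0 1) (Pi.single 2 1)
      rw [zero_mul] at h4
      simp [sf] at h4
    refine hS ⟨c⁻¹, inv_ne_zero hc0, fun u v => ?_⟩
    rw [← h3 u v, inv_mul_cancel_left₀ hc0]
  -- all transvections
  obtain ⟨g, hg, hg0, hg1⟩ := exists_frame hx hxy h0
  have hall : ∀ (u w : Fin 4 → F) (huw : sf u w = 0), u ≠ 0 → (∀ c : F, w ≠ c • u) → tr u (sv w) (sv_orth huw) ∈ H := by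
    intro u w huw hu hw
    obtain ⟨k, hk, hk0, hk1⟩ := exists_frame hu hw huw
    have hgi : ∀ u v, sf (((g⁻¹ : Matrix.SpecialLinearGroup (Fin 4) F) : Matrix (Fin 4) (Fin 4) F) *ᵥ u)
        (((g⁻¹ : Matrix.SpecialLinearGroup (Fin 4) F) : Matrix (Fin 4) (Fin 4) F) *ᵥ v) = sf u v := by
      intro u v
      rw [← hg, mulVec_inv, mulVec_inv]
    set m := k * g⁻¹ with hm
    have hmi : ∀ u v, sf ((m : Matrix (Fin 4) (Fin 4) F) *ᵥ u) ((m : Matrix (Fin 4) (Fin 4) F) *ᵥ v) = sf u v := by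
      intro u v
      rw [hm, sl_mul_mulVec, sl_mul_mulVec, hk, hgi]
    have hmH : m ∈ H := hle ⟨1, one_ne_zero, fun u v => by rw [hmi, one_mul]⟩
    have hmx : (m : Matrix (Fin 4) (Fin 4) F) *ᵥ x = u := by
      rw [hm, sl_mul_mulVec, ← hg0, inv_mulVec, hk0]
    have hmy : (m : Matrix (Fin 4) (Fin 4) F) *ᵥ y = w := by
      rw [hm, sl_mul_mulVec, ← hg1, inv_mulVec, hk1]
    have h4 := mul_mem (mul_mem hmH hT) (inv_mem hmH)
    rw [conj_tr] at h4
    rwa [tr_congr (b := u) (ψ := sv w) (h' := sv_orth huw) hmx (by rw [sv_vecMul_inv hmi, hmy])] at h4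
  rw [eq_top_iff, ← LieClassical.SLGen.closure_transvections, closure_le]
  rintro _ ⟨i, j, hij, c, rfl⟩
  rw [transvection_eq_tr]
  generalize_proofs hp
  revert hp
  generalize (c • Pi.single i 1 : Fin 4 → F) = u
  generalize (Pi.single j 1 : Fin 4 → F) = φ
  intro hp
  by_cases hu : u = 0
  · have : tr u φ hp = 1 := by
      apply Subtype.ext
      rw [coe_tr, hu, zero_vecMulVec, add_zero, Matrix.SpecialLinearGroup.coe_one]
    rw [SetLike.mem_coe, this]
    exact one_mem _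
  have hp' : sf u (vs φ) = 0 := by rw [← sv_dot, sv_vs, hp]
  by_cases hd : ∃ c : F, vs φ = c • u
  · obtain ⟨c, hc⟩ := hd
    have : φ = c • sv u := by
      rw [← sv_vs φ, hc]
      ext i
      (revert i; simp only [sv, _root_.Fin.forall_fin_succ, Fin.isValue, _root_.Pi.smul_apply, _root_.smul_eq_mul, _root_.Matrix.cons_val_zero, _root_.Matrix.cons_val_succ, _root_.mul_neg, _root_.Matrix.cons_val_fin_one, _root_.implies_true, _root_.and_self])
    rw [SetLike.mem_coe, tr_congr (b := u) (ψ := c • sv u) (h' := sv_smul_orth u c) rfl this]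
    exact hle (tr_mem_sim u c)
  · push Not at hd
    have := hall u (vs φ) hp' hu hd
    rwa [tr_congr (b := u) (ψ := φ) (h' := hp) rfl (sv_vs φ)] at this

theorem sim_ne_top : Sim F ≠ ⊤ := by
  intro h
  -- `diag`-like element : the transvection `e₀ ↦ e₀`, `e₁ ↦ e₁ + e₀`
  have h0 : (Pi.single 1 1 : Fin 4 → F) ⬝ᵥ (Pi.single 0 1) = 0 := by simp
  have h1 : tr (Pi.single 0 1 : Fin 4 → F) (Pi.single 1 1) h0 ∈ Sim F := by rw [h]; exact mem_top _
  obtain ⟨c, hc, h2⟩ := h1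
  have h3 := h2 (Pi.single 1 1) (Pi.single 2 1)
  rw [tr_mulVec, tr_mulVec] at h3
  simp [sf] at h3

/-- the centre is contained in the similitude group -/
theorem ker_le_sim : (pr : Matrix.SpecialLinearGroup (Fin 4) F →* _).ker ≤ Sim F := by
  intro x hx
  rw [MonoidHom.mem_ker] at hx
  obtain ⟨c, hc⟩ := Cfsg.Agent.ClassicalGeometry.AutPSL.Root.exists_smul_of_pr_eq (x := 1) (y := x)
    (by rw [map_one, hx])
  rw [Matrix.SpecialLinearGroup.coe_one] at hc
  have hc0 : c ≠ 0 := by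
    rintro rfl
    have h := x.2
    rw [hc, zero_smul, Matrix.det_zero] at h
    exact zero_ne_one h
  refine ⟨c * c, mul_ne_zero hc0 hc0, fun u v => ?_⟩
  rw [hc, smul_mulVec, smul_mulVec, one_mulVec, one_mulVec, sf_smul_left, sf_smul_right, mul_assoc]

end Cfsg.Agent.H507.Mc
end

-- part: H507/Mc/Psl
section
/-!
# Five classes of maximal subgroups in `PSL_n(q)`, `n ≥ 4` (helper507, rows of S5906, S5907)

* `psl_five` : `MaxCls.Sep 5 (PSL (Fin n) F)` for `4 ≤ n` (`F` of any universe).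
-/

set_option autoImplicit false
set_option linter.unusedSectionVars false

namespace Cfsg.Agent.H507.Mc

open Matrix Subgroup
open Cfsg.Agent.ClassicalGeometry.AutPSL.Root (tr coe_tr tr_mulVec sl_ext sl_mul_mulVec tr_mul_same_axis
  tr_mul_same_center transvection_eq_tr pr pr_surjective)
open Cfsg.Agent.H940.MaxCls Cfsg.Agent.H940.SepTyp Cfsg.Agent.Omega.ML.Ex.Typ

section

variable {ι F : Type*} [Fintype ι] [DecidableEq ι] [Field F]

/-- a subgroup with irreducible preimage is apart from the normalizer of the Sylow subgroup -/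
theorem apart_of_irr {p : ℕ} {S : Sylow p (Matrix.ProjectiveSpecialLinearGroup ι F)}
    (hS : ∀ K : Subgroup (Matrix.ProjectiveSpecialLinearGroup ι F),
      (S : Subgroup (Matrix.ProjectiveSpecialLinearGroup ι F)) ≤ K → Irr (K.comap pr) → K = ⊤)
    {D : Subgroup (Matrix.ProjectiveSpecialLinearGroup ι F)} (hD : Irr (D.comap pr)) :
    Apart (normalizer ((S : Subgroup (Matrix.ProjectiveSpecialLinearGroup ι F)) : Set _)) D := by
  intro g K h1 h2
  refine hS K (le_normalizer.trans h1) ?_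
  obtain ⟨h, rfl⟩ := pr_surjective g
  refine hD.conj h fun x hx => ?_
  rw [mem_comap, map_mul, map_mul, map_inv]
  exact h2 _ hx

end

/-- `PSL` is not cyclic -/
theorem zpowers_ne_top {F : Type*} [Field F] [Finite F] {n : ℕ} (hn : 3 ≤ n)
    (x : Matrix.ProjectiveSpecialLinearGroup (Fin n) F) : zpowers x ≠ ⊤ := by
  intro h
  have hcomm : ∀ a b : Matrix.ProjectiveSpecialLinearGroup (Fin n) F, a * b = b * a := by
    intro a b
    obtain ⟨i, rfl⟩ := mem_zpowers_iff.1 (h ▸ mem_top a : a ∈ zpowers x)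
    obtain ⟨j, rfl⟩ := mem_zpowers_iff.1 (h ▸ mem_top b : b ∈ zpowers x)
    rw [← _root_.zpow_add, ← _root_.zpow_add, add_comm]
  have h1 : commutator (Matrix.SpecialLinearGroup (Fin n) F) ≤ center _ := by
    rw [_root_.commutator_def, Subgroup.commutator_le]
    intro a _ b _
    rw [← Cfsg.Agent.ClassicalGeometry.AutPSL.Root.pr_eq_one_iff, map_commutatorElement,
      commutatorElement_eq_one_iff_mul_comm]
    exact hcomm _ _
  rw [LieClassical.SLGen.commutator_eq_top (by rw [Fintype.card_fin]; exact hn)] at h1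
  have h01 : (⟨1, by omega⟩ : Fin n) ≠ ⟨0, by omega⟩ := by
    intro h; simpa using congrArg Fin.val h
  have h0 : (Pi.single (⟨1, by omega⟩ : Fin n) (1 : F) : Fin n → F) ⬝ᵥ (Pi.single (⟨0, by omega⟩ : Fin n) 1) = 0 := by
    rw [dotProduct_single, Pi.single_eq_of_ne h01.symm, zero_mul]
  obtain ⟨c, -, hc⟩ := Matrix.SpecialLinearGroup.mem_center_iff.1
    (h1 (mem_top (tr (Pi.single (⟨0, by omega⟩ : Fin n) (1 : F) : Fin n → F) (Pi.single (⟨1, by omega⟩ : Fin n) 1) h0)))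
  have h2 := congrFun (congrFun hc ⟨0, by omega⟩) ⟨1, by omega⟩
  rw [coe_tr] at h2
  simp [vecMulVec_apply, h01.symm] at h2

/-- **`n ≥ 6`.** -/
theorem psl_five_ge6 (F : Type*) [Field F] [Finite F] {n : ℕ} (hn : 6 ≤ n) :
    Sep 5 (Matrix.ProjectiveSpecialLinearGroup (Fin n) F) := by
  obtain ⟨p, hpc⟩ := CharP.exists F
  have : Fact p.Prime := ⟨CharP.char_is_prime F p⟩
  obtain ⟨m, rfl⟩ : ∃ m, n = m + 1 := ⟨n - 1, by omega⟩
  obtain ⟨S⟩ : Nonempty (Sylow p (Matrix.ProjectiveSpecialLinearGroup (Fin (m + 1)) F)) := inferInstance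
  have h := sep_typ_add (typ_PSL (F := F) m (p := p)) S (k := 0) (fun i => i.elim0) (fun i => i.elim0)
    (fun i => i.elim0) fun i => i.elim0
  exact h.mono (by omega)

/-- the image of the Singer element -/
theorem irr_comap_zpowers {ι F : Type*} [Fintype ι] [DecidableEq ι] [Field F]
    {y : Matrix.SpecialLinearGroup ι F} (hy : Irr (zpowers y)) : Irr ((zpowers (pr y)).comap pr) := by
  refine hy.mono ?_
  rw [zpowers_le, mem_comap]
  exact mem_zpowers _

/-- **`n = 5`.** -/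
theorem psl_five_5 (F : Type*) [Field F] [Finite F] :
    Sep 5 (Matrix.ProjectiveSpecialLinearGroup (Fin 5) F) := by
  obtain ⟨p, hpc⟩ := CharP.exists F
  have : Fact p.Prime := ⟨CharP.char_is_prime F p⟩
  obtain ⟨S, hS⟩ := exists_sylow (ι := Fin 5) (F := F) (p := p)
  obtain ⟨y, hy, -⟩ := exists_singer F (n := 5) (by norm_num)
  exact sep_typ_add (typ_PSL (F := F) 4 (p := p)) S (k := 1) (fun _ => zpowers (pr y))
    (fun _ => zpowers_ne_top (by norm_num) _) (fun i j hij => absurd hij (by omega))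
    fun _ => apart_of_irr hS (irr_comap_zpowers hy)

/-- the image of the similitude group is maximal -/
theorem coatom_map_sim (F : Type*) [Field F] :
    IsCoatom ((Sim F).map (pr : Matrix.SpecialLinearGroup (Fin 4) F →* _)) := by
  have hc : ((Sim F).map (pr : Matrix.SpecialLinearGroup (Fin 4) F →* _)).comap pr = Sim F :=
    comap_map_eq_self ker_le_sim
  refine ⟨fun h => sim_ne_top (F := F) (by rw [← hc, h, comap_top]), fun K hK => ?_⟩
  have h1 : K.comap (pr : Matrix.SpecialLinearGroup (Fin 4) F →* _) = ⊤ := by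
    refine sim_top (hc ▸ comap_mono hK.le) fun h2 => hK.not_ge ?_
    intro x hx
    obtain ⟨z, rfl⟩ := pr_surjective x
    exact mem_map_of_mem _ (h2 hx)
  rw [eq_top_iff]
  intro x _
  obtain ⟨z, rfl⟩ := pr_surjective x
  have : z ∈ K.comap pr := by rw [h1]; exact mem_top _
  exact this

/-- **`n = 4`.** -/
theorem psl_five_4 (F : Type*) [Field F] [Finite F] :
    Sep 5 (Matrix.ProjectiveSpecialLinearGroup (Fin 4) F) := by
  obtain ⟨p, hpc⟩ := CharP.exists F
  have : Fact p.Prime := ⟨CharP.char_is_prime F p⟩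
  obtain ⟨S, hS⟩ := exists_sylow (ι := Fin 4) (F := F) (p := p)
  obtain ⟨y, hy, hy'⟩ := exists_singer F (n := 4) (by norm_num)
  have hco := coatom_map_sim F
  have hc : ((Sim F).map (pr : Matrix.SpecialLinearGroup (Fin 4) F →* _)).comap pr = Sim F :=
    comap_map_eq_self ker_le_sim
  have hap : Apart ((Sim F).map (pr : Matrix.SpecialLinearGroup (Fin 4) F →* _)) (zpowers (pr y)) := by
    refine apart_of_coatom hco fun g => ⟨pr y, mem_zpowers _, fun hcon => ?_⟩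
    obtain ⟨h, rfl⟩ := pr_surjective g
    have h1 : h * y * h⁻¹ ∈ ((Sim F).map (pr : Matrix.SpecialLinearGroup (Fin 4) F →* _)).comap pr := by
      rw [mem_comap, map_mul, map_mul, map_inv]
      exact hcon
    rw [hc] at h1
    obtain ⟨c, -, h2⟩ := h1
    refine hy' rfl c (fun u v => sf ((h : Matrix (Fin 4) (Fin 4) F) *ᵥ u) ((h : Matrix (Fin 4) (Fin 4) F) *ᵥ v))
      (fun x y z => by rw [mulVec_add, sf_add_left]) (fun x y z => by rw [mulVec_add, sf_add_right])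
      (fun a x y => by rw [mulVec_smul, sf_smul_left]) (fun a x y => by rw [mulVec_smul, sf_smul_right])
      (fun x hx => ?_) fun u v => ?_
    · have h3 : (h : Matrix (Fin 4) (Fin 4) F) *ᵥ x = 0 := sf_nondeg fun w => by
        have := hx (((h⁻¹ : Matrix.SpecialLinearGroup (Fin 4) F) : Matrix (Fin 4) (Fin 4) F) *ᵥ w)
        rwa [mulVec_inv] at this
      have h4 := inv_mulVec h x
      rw [h3, mulVec_zero] at h4
      exact h4.symm
    · have h3 := h2 ((h : Matrix (Fin 4) (Fin 4) F) *ᵥ u) ((h : Matrix (Fin 4) (Fin 4) F) *ᵥ v)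
      rw [sl_mul_mulVec, sl_mul_mulVec, sl_mul_mulVec, sl_mul_mulVec, inv_mulVec, inv_mulVec] at h3
      exact h3
  refine sep_typ_add (typ_PSL (F := F) 3 (p := p)) S (k := 2)
    ![(Sim F).map (pr : Matrix.SpecialLinearGroup (Fin 4) F →* _), zpowers (pr y)] (fun i => ?_) (fun i j hij => ?_)
    fun i => ?_
  · fin_cases i
    · exact hco.1
    · exact zpowers_ne_top (by norm_num) _
  · have hi : i = 0 := by omega
    have hj : j = 1 := by omega
    subst hi hj
    exact hap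
  · fin_cases i
    · exact apart_of_irr hS (by
        change Irr (((Sim F).map (pr : Matrix.SpecialLinearGroup (Fin 4) F →* _)).comap pr)
        rw [hc]; exact sim_irr)
    · exact apart_of_irr hS (irr_comap_zpowers hy)

/-- **The rows of `PSL_n(q)`, `n ≥ 4`.** -/
theorem psl_five (F : Type*) [Field F] [Finite F] (n : ℕ) (hn : 4 ≤ n) :
    Sep 5 (Matrix.ProjectiveSpecialLinearGroup (Fin n) F) := by
  rcases lt_or_ge n 6 with h | h
  · interval_cases n
    · exact psl_five_4 F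
    · exact psl_five_5 F
  · exact psl_five_ge6 F h

end Cfsg.Agent.H507.Mc
end

private theorem dce_d6249f422c3c : _root_.True := by
  try have : _root_.True := by simp only [_root_.Cfsg.Agent.H507.Mc.vs.eq_1]
  try have : _root_.True := by simp only [_root_.Cfsg.Agent.H507.Mc.sf.eq_1]
  try have : _root_.True := by simp only [_root_.Cfsg.Agent.H507.Mc.sv.eq_1]
  exact _root_.True.intro
end

-- part: H950/SuFour_mg
section
prune_inst 0x315021044f8000000000059651201872960004900048000008e300c004880ce209022860b100011150a0080540350008100000900040000004000400011c058100800404b1480008000086000000000000000000000000000000000000000000200000000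
set_option linter.all false
open scoped Cfsg.Agent.FastGrp

-- part: H837/MCU
section
/-!
# Maximal subgroups of the unitary groups: stabilisers of non-degenerate subspaces (helper837, for S5906, S5907)

* `isCoatom_comap_of_maxIn` : transfer of `Geo.IsMaximalIn` along `φ : G →* GL` with `φ.range = K`.
* `stU W`, `stP W` : the stabiliser of `W` in `SU n F q` and its image in `PSU n F q`.
* `coatom_stU`, `coatom_stP`, `dvd_index_stP`, `not_conj_stP`.
* `psu_five_ge6` : `Sep 5 (PSU n F q)` for `6 ≤ n`.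
-/

set_option autoImplicit false

namespace Cfsg.Agent.H837.MCU

open Cfsg Cfsg.Agent.LieClassical.HermBasic Cfsg.Agent.LieClassical.HermSiegel
  Cfsg.Agent.ClassicalGeometry.PSUAutBasic Cfsg.Agent.H918 Cfsg.Agent.H876 Cfsg.Agent.H940 Cfsg.Agent.H940.MaxCls
  Cfsg.Agent.ClassicalGeometry.HermOrtho
open scoped Matrix MatrixGroups

/-! ### Transfer -/

theorem isCoatom_comap_of_maxIn {G L : Type*} [Group G] [Group L] (φ : G →* L) {K M : Subgroup L}
    (hr : φ.range = K) (h : Geo.IsMaximalIn K (M ⊓ K)) : IsCoatom (M.comap φ) := by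
  refine ⟨fun ht => ?_, fun N hN => ?_⟩
  · apply h.1.ne
    apply inf_eq_right.2
    rw [← hr]
    rintro _ ⟨g, rfl⟩
    have : g ∈ M.comap φ := by rw [ht]; exact Subgroup.mem_top g
    exact this
  · have h1 : M ⊓ K ≤ N.map φ := by
      rintro x ⟨hx, hxK⟩
      rw [← hr] at hxK
      obtain ⟨g, rfl⟩ := hxK
      exact Subgroup.mem_map_of_mem φ (hN.le hx)
    have h2 : N.map φ ≤ K := by
      rw [← hr]
      exact Subgroup.map_le_range φ N
    rcases h.2 _ h1 h2 with h3 | h3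
    · exfalso
      refine absurd hN (not_lt_of_ge fun g hg => ?_)
      have h4 : φ g ∈ N.map φ := Subgroup.mem_map_of_mem φ hg
      rw [h3] at h4
      exact h4.1
    · have hker : φ.ker ≤ N := fun g hg => hN.le (by
        rw [Subgroup.mem_comap, MonoidHom.mem_ker.1 hg]
        exact M.one_mem)
      refine top_le_iff.1 fun g _ => ?_
      have h4 : φ g ∈ N.map φ := by
        rw [h3, ← hr]
        exact ⟨g, rfl⟩
      obtain ⟨y, hy, hyg⟩ := h4
      have h5 : y⁻¹ * g ∈ φ.ker := by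
        rw [MonoidHom.mem_ker, map_mul, map_inv, hyg, inv_mul_cancel]
      have h6 := N.mul_mem hy (hker h5)
      rwa [mul_inv_cancel_left] at h6

theorem index_map_of_ker_le {G L : Type*} [Group G] [Group L] {f : G →* L} (hf : Function.Surjective f)
    {K : Subgroup G} (hK : f.ker ≤ K) : (K.map f).index = K.index := by
  rw [Subgroup.index_map, sup_eq_left.2 hK, MonoidHom.range_eq_top.2 hf, Subgroup.index_top, mul_one]

section U

variable {F : Type*} [Field F] [Fintype F] {n q : ℕ}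

/-- the stabiliser of `W` in `SU n F q` -/
def stU (q : ℕ) (W : Submodule F (Fin n → F)) : Subgroup (SU n F q) :=
  (Geo.subspaceStabilizer W).comap (suHom n F q)

theorem mem_stU {W : Submodule F (Fin n → F)} {g : SU n F q} : g ∈ stU q W ↔ ∀ v, v ∈ W ↔ act g v ∈ W := Iff.rfl

theorem mem_stU_of_le {W : Submodule F (Fin n → F)} {g : SU n F q} (h : ∀ v ∈ W, act g v ∈ W) : g ∈ stU q W :=
  mem_stab_of_le (g := suHom n F q g) h

/-- the image of the stabiliser of `W` in `PSU n F q` -/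
def stP (q : ℕ) (W : Submodule F (Fin n → F)) : Subgroup (PSU n F q) := (stU q W).map (pr n F q)

theorem ker_pr : (pr n F q).ker = Subgroup.center (SU n F q) := QuotientGroup.ker_mk' _

variable (hF : Fintype.card F = q ^ 2)

include hF

theorem ker_le_stU (hn : 3 ≤ n) (W : Submodule F (Fin n → F)) : (pr n F q).ker ≤ stU q W := by
  intro z hz
  rw [ker_pr] at hz
  obtain ⟨c, hc0, -, hc⟩ := exists_scalar_of_mem_center hF hn hz
  refine mem_stU_of_le fun v hv => ?_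
  rw [hc]
  exact W.smul_mem c hv

theorem coatom_stU (hn : 3 ≤ n) (h32 : ¬ (n = 3 ∧ q = 2)) {W : Submodule F (Fin n → F)} (hW0 : W ≠ ⊥)
    (hW : Geo.IsNondegenerateOn (hermForm n F q) W) (hdim : 2 * Module.finrank F W < n) : IsCoatom (stU q W) :=
  isCoatom_comap_of_maxIn (suHom n F q) range_suHom (nondeg_maximal n q hF hn h32 W hW0 hW hdim)

/-- stabilisers of non-degenerate subspaces of dimension less than `n / 2` are maximal in `PSU n F q` -/
theorem coatom_stP (hn : 3 ≤ n) (h32 : ¬ (n = 3 ∧ q = 2)) {W : Submodule F (Fin n → F)} (hW0 : W ≠ ⊥)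
    (hW : Geo.IsNondegenerateOn (hermForm n F q) W) (hdim : 2 * Module.finrank F W < n) : IsCoatom (stP q W) :=
  isCoatom_map pr_surjective (by rw [ker_pr]) (LieClassical.HermPerfect.commutator_SU_eq_top hF hn h32)
    (coatom_stU hF hn h32 hW0 hW hdim)

theorem index_stP (hn : 3 ≤ n) (W : Submodule F (Fin n → F)) : (stP q W).index = (stU q W).index :=
  index_map_of_ker_le pr_surjective (ker_le_stU hF hn W)

/-! ### Conjugates -/

omit [Fintype F] hF in
/-- the image of a subspace -/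
def im (g : SU n F q) (W : Submodule F (Fin n → F)) : Submodule F (Fin n → F) := W.map (Matrix.toLin' (mat g))

omit [Fintype F] hF in
theorem mem_im {g : SU n F q} {W : Submodule F (Fin n → F)} {v : Fin n → F} : v ∈ im g W ↔ act g⁻¹ v ∈ W := by
  rw [im, Submodule.mem_map]
  constructor
  · rintro ⟨w, hw, rfl⟩
    rw [Matrix.toLin'_apply]
    change act g⁻¹ (act g w) ∈ W
    rwa [act_inv_act]
  · intro h
    exact ⟨_, h, by rw [Matrix.toLin'_apply]; exact act_act_inv g v⟩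

omit [Fintype F] hF in
theorem finrank_im (g : SU n F q) (W : Submodule F (Fin n → F)) :
    Module.finrank F (im g W) = Module.finrank F W := by
  refine (LinearEquiv.finrank_eq (Submodule.equivMapOfInjective (Matrix.toLin' (mat g)) ?_ W)).symm
  intro x y h
  rw [Matrix.toLin'_apply, Matrix.toLin'_apply] at h
  exact act_injective g h

omit hF in
theorem mem_stU_im {g x : SU n F q} {W : Submodule F (Fin n → F)} : x ∈ stU q (im g W) ↔ g⁻¹ * x * g ∈ stU q W := by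
  rw [mem_stU, mem_stU]
  constructor
  · intro h v
    have h1 := h (act g v)
    rw [mem_im, mem_im, act_inv_act] at h1
    rw [h1, act_mul, act_mul]
  · intro h v
    have h1 := h (act g⁻¹ v)
    rw [mem_im, mem_im, h1, act_mul, act_mul, act_act_inv]

omit [Fintype F] hF in
theorem nondeg_im (g : SU n F q) {W : Submodule F (Fin n → F)} (hW : Geo.IsNondegenerateOn (hermForm n F q) W) :
    Geo.IsNondegenerateOn (hermForm n F q) (im g W) := by
  intro w hw hw0
  rw [mem_im] at hw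
  obtain ⟨⟨x, hx, h1⟩, ⟨y, hy, h2⟩⟩ := hW _ hw (fun h => hw0 ((act_eq_zero g⁻¹).1 h))
  refine ⟨⟨act g x, ?_, ?_⟩, ⟨act g y, ?_, ?_⟩⟩
  · rw [mem_im, act_inv_act]
    exact hx
  · rwa [herm_act_left]
  · rw [mem_im, act_inv_act]
    exact hy
  · rwa [← herm_act g⁻¹, act_inv_act]

omit [Fintype F] hF in
theorem im_ne_bot (g : SU n F q) {W : Submodule F (Fin n → F)} (hW : W ≠ ⊥) : im g W ≠ ⊥ := by
  obtain ⟨w, hw, hw0⟩ := (Submodule.ne_bot_iff W).1 hW
  refine (Submodule.ne_bot_iff _).2 ⟨act g w, ?_, fun h => hw0 ((act_eq_zero g).1 h)⟩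
  rw [mem_im, act_inv_act]
  exact hw

/-! ### Transvections -/

/-- an isotropic vector whose transvections stabilise a non-degenerate `W` is in `W` or in `W^⊥` -/
theorem mem_or_of_transv {W U : Submodule F (Fin n → F)} (hP : PerpPair q W U) {x : Fin n → F}
    (hx : hermForm n F q x x = 0) (h : transvG hF x hx ≤ stU q W) : x ∈ W ∨ x ∈ U := by
  by_contra hc
  push Not at hc
  obtain ⟨hxW, hxU⟩ := hc
  apply hxU
  apply hP.mem'
  intro w hw
  by_contra h0
  obtain ⟨μ, hμ0, hμ⟩ := exists_trace_zero_ne hF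
  have h1 : transv hF x hx μ hμ ∈ stU q W := h ⟨μ, hμ, rfl⟩
  have h2 := (mem_stU.1 h1 w).1 hw
  rw [act_transv] at h2
  have h3 := W.sub_mem h2 hw
  rw [add_sub_cancel_left] at h3
  have h4 : μ * hermForm n F q w x ≠ 0 := mul_ne_zero hμ0 (fun h => h0 (herm_eq_zero_swap hF h))
  have h5 := W.smul_mem (μ * hermForm n F q w x)⁻¹ h3
  rw [smul_smul, inv_mul_cancel₀ h4, one_smul] at h5
  exact hxW h5

omit hF in
theorem stU_perp {W U : Submodule F (Fin n → F)} (hP : PerpPair q W U) : stU q W ≤ stU q U := by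
  intro g hg
  refine mem_stU_of_le fun u hu => ?_
  apply hP.mem'
  intro w hw
  have h1 := (mem_stU.1 ((stU q W).inv_mem hg) w).1 hw
  rw [herm_act_left]
  exact hP.perp' u hu _ h1

/-! ### Siegel transformations and the index -/

/-- the Siegel transformations of an isotropic vector of `W` do not stabilise `U` -/
theorem not_siegG_le {W U : Submodule F (Fin n → F)} (hP : PerpPair q W U) (hU0 : U ≠ ⊥) {u : Fin n → F} (huW : u ∈ W)
    (hu : hermForm n F q u u = 0) (hu0 : u ≠ 0) : ¬ siegG hF u hu ≤ stU q U := by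
  intro h
  obtain ⟨v, hv, hv0⟩ := (Submodule.ne_bot_iff U).1 hU0
  obtain ⟨w, hw, hvw⟩ : ∃ w ∈ U, hermForm n F q v w ≠ 0 := by
    by_contra hc
    push Not at hc
    exact hv0 (hP.nd' v hv hc)
  obtain ⟨μ, hμ⟩ := exists_trace_eq hF (c := -hermForm n F q w w) (by rw [neg_pow_q hF, herm_self_pow hF])
  have hs : IsSiegel q u w μ := ⟨hu, hP.perp' w hw u huW, by rw [hμ]; ring⟩
  have h1 := (mem_stU.1 (h ⟨w, μ, hs, rfl⟩) v).1 hv
  rw [act_siegel, hP.perp' v hv u huW, zero_smul, add_zero, mul_zero, zero_sub] at h1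
  have h2 := U.sub_mem h1 hv
  rw [add_sub_cancel_left] at h2
  have h3 := U.smul_mem (-hermForm n F q v w)⁻¹ h2
  rw [smul_smul, inv_mul_cancel₀ (neg_ne_zero.2 hvw), one_smul] at h3
  exact hu0 (hP.disj huW h3)

/-- the index of the stabiliser of a proper non-degenerate subspace is divisible by `p` -/
theorem dvd_index_stU (hn : 2 ≤ n) {p : ℕ} [hp : Fact p.Prime] [CharP F p] {W : Submodule F (Fin n → F)} (hW0 : W ≠ ⊥)
    (hW1 : W ≠ ⊤) (hW : Geo.IsNondegenerateOn (hermForm n F q) W) : p ∣ (stU q W).index := by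
  by_contra hnd
  -- an isotropic vector
  obtain ⟨u, hu0, hu⟩ : ∃ u : Fin n → F, u ≠ 0 ∧ hermForm n F q u u = 0 := by
    by_contra hc
    push Not at hc
    have hnd' : Nd q (⊤ : Submodule F (Fin n → F)) := fun v _ hv => herm_nondeg hF fun w => hv w trivial
    have h1 := forall_of_iso hF (X := (⊥ : Submodule F (Fin n → F))) hnd'
      (by rw [finrank_top, Module.finrank_fin_fun]; exact hn) (1 : GL (Fin n) F)
      (fun v _ hvv => by
        rw [Units.val_one, Matrix.one_mulVec, Submodule.mem_bot]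
        by_contra h0
        exact hc v h0 hvv) (Pi.single (⟨0, by omega⟩ : Fin n) 1) trivial
    rw [Units.val_one, Matrix.one_mulVec, Submodule.mem_bot] at h1
    have h2 := congrFun h1 (⟨0, by omega⟩ : Fin n)
    rw [Pi.single_eq_same, Pi.zero_apply] at h2
    exact one_ne_zero h2
  have hpg : IsPGroup p (siegG hF u hu) := isPGroup_siegG hF p hu
  have hfin : Finite (SU n F q ⧸ stU q W) := inferInstance
  obtain ⟨c, hc⟩ := hpg.nonempty_fixed_point_of_prime_not_dvd_card (α := SU n F q ⧸ stU q W) (by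
    rw [← Subgroup.index_eq_card]
    exact hnd)
  obtain ⟨g, rfl⟩ := QuotientGroup.mk_surjective c
  have h1 : siegG hF u hu ≤ stU q (im g W) := by
    intro s hs
    rw [mem_stU_im]
    have h2 := hc ⟨s, hs⟩
    change (QuotientGroup.mk (s * g) : SU n F q ⧸ stU q W) = QuotientGroup.mk g at h2
    rw [eq_comm, QuotientGroup.eq] at h2
    rwa [mul_assoc]
  have hnd2 := nd_of_geo (nondeg_im g hW)
  have hP := perpPair_of_nd hF hnd2
  rcases mem_or_of_transv hF hP hu ((transvG_le_siegG hF hu).trans h1) with h2 | h2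
  · refine not_siegG_le hF hP ?_ h2 hu hu0 (h1.trans (stU_perp hP))
    intro h0
    have hd := finrank_hermPerp_of_nondeg hF _ hnd2
    rw [h0, finrank_bot, finrank_im, add_zero] at hd
    apply hW1
    apply Submodule.eq_top_of_finrank_eq
    rw [hd, Module.finrank_fin_fun]
  · exact not_siegG_le hF hP.symm (im_ne_bot g hW0) h2 hu hu0 h1

theorem dvd_index_stP (hn : 3 ≤ n) {p : ℕ} [hp : Fact p.Prime] [CharP F p] {W : Submodule F (Fin n → F)} (hW0 : W ≠ ⊥)
    (hW1 : W ≠ ⊤) (hW : Geo.IsNondegenerateOn (hermForm n F q) W) : p ∣ (stP q W).index := by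
  rw [index_stP hF hn]
  exact dvd_index_stU hF (by omega) hW0 hW1 hW

/-! ### Coordinate subspaces -/

omit [Fintype F] hF in
/-- the span of the first `k` basis vectors -/
def co (F : Type*) [Field F] {n k : ℕ} (hk : k ≤ n) : Submodule F (Fin n → F) :=
  Submodule.span F (Set.range fun i : Fin k => (Pi.single (Fin.castLE hk i) 1 : Fin n → F))

omit [Fintype F] hF in
theorem finrank_co {k : ℕ} (hk : k ≤ n) : Module.finrank F (co F hk) = k := by
  have h1 : LinearIndependent F (fun i : Fin k => (Pi.single (Fin.castLE hk i) 1 : Fin n → F)) := by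
    have := (Pi.basisFun F (Fin n)).linearIndependent.comp (Fin.castLE hk) (Fin.castLE_injective hk)
    convert this using 1
    funext i
    simp
  rw [co, finrank_span_eq_card h1, Fintype.card_fin]

omit [Fintype F] hF in
theorem apply_eq_zero_of_mem_co {k : ℕ} (hk : k ≤ n) {v : Fin n → F} (hv : v ∈ co F hk) {i : Fin n} (hi : k ≤ i.val) :
    v i = 0 := by
  refine Submodule.span_induction (p := fun v _ => v i = 0) ?_ ?_ ?_ ?_ hv
  · rintro _ ⟨j, rfl⟩
    have : i ≠ Fin.castLE hk j := by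
      rintro rfl
      have := j.2
      rw [Fin.val_castLE] at hi
      omega
    exact Pi.single_eq_of_ne this 1
  · rfl
  · intro x y _ _ hx hy
    rw [Pi.add_apply, hx, hy, add_zero]
  · intro a x _ hx
    rw [Pi.smul_apply, hx, smul_zero]

theorem nondeg_co {k : ℕ} (hk : k ≤ n) : Geo.IsNondegenerateOn (hermForm n F q) (co F hk) := by
  intro v hv hv0
  obtain ⟨i, hi⟩ := Function.ne_iff.1 hv0
  rw [Pi.zero_apply] at hi
  have hik : i.val < k := by
    by_contra hc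
    exact hi (apply_eq_zero_of_mem_co hk hv (not_lt.1 hc))
  have hmem : (Pi.single i 1 : Fin n → F) ∈ co F hk := Submodule.subset_span ⟨⟨i.val, hik⟩, rfl⟩
  refine ⟨⟨_, hmem, ?_⟩, ⟨_, hmem, ?_⟩⟩
  · rw [herm_single_left, one_mul]
    exact fun h => hi ((pow_q_eq_zero hF).1 h)
  · rw [herm_single_right hF, one_pow, mul_one]
    exact hi

omit [Fintype F] hF in
theorem co_ne_bot {k : ℕ} (hk : k ≤ n) (h0 : 0 < k) : co F hk ≠ ⊥ := by
  intro h
  have := finrank_co (F := F) hk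
  rw [h, finrank_bot] at this
  omega

omit [Fintype F] hF in
theorem co_ne_top {k : ℕ} (hk : k < n) : co F hk.le ≠ ⊤ := by
  intro h
  have := finrank_co (F := F) hk.le
  rw [h, finrank_top, Module.finrank_fin_fun] at this
  omega

/-! ### The rows -/

end U

end Cfsg.Agent.H837.MCU
end

-- part: H950/SuProj
section
/-!
# From subgroups of `SU n F q` to subgroups of `PSU n F q` (helper950)
-/

set_option autoImplicit false

namespace Cfsg.Agent.H950.Su

open Cfsg Cfsg.Agent.LieClassical.HermBasic Cfsg.Agent.LieClassical.HermSiegel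
  Cfsg.Agent.LieClassical.HermGen Cfsg.Agent.LieClassical.HermSimple Cfsg.Agent.LieClassical.HermPerfect
  Cfsg.Agent.H940.MaxCls

section General

variable {G : Type*} [Group G] {H : Type*} [Group H]

theorem map_ne_top {f : G →* H} {A : Subgroup G} (hk : f.ker ≤ A) (hA : A ≠ ⊤) (hf : Function.Surjective f) :
    A.map f ≠ ⊤ := by
  intro h
  apply hA
  have h1 : (A.map f).comap f = A := by
    rw [Subgroup.comap_map_eq, sup_eq_left.2 hk]
  rw [← h1, h, Subgroup.comap_top]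

theorem isCoatom_map {f : G →* H} (hf : Function.Surjective f) {A : Subgroup G} (hk : f.ker ≤ A) (hA : IsCoatom A) :
    IsCoatom (A.map f) := by
  refine ⟨map_ne_top hk hA.1 hf, fun K hK => ?_⟩
  have h1 : A ≤ K.comap f := Subgroup.map_le_iff_le_comap.1 hK.le
  have h2 : A < K.comap f := by
    refine lt_of_le_of_ne h1 fun h => ?_
    apply hK.ne
    rw [h, Subgroup.map_comap_eq_self_of_surjective hf]
  have h3 := hA.2 _ h2
  rw [← Subgroup.map_comap_eq_self_of_surjective hf K, h3, Subgroup.map_top_of_surjective f hf]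

theorem index_map_of_ker_le {f : G →* H} (hf : Function.Surjective f) {A : Subgroup G} (hk : f.ker ≤ A) :
    (A.map f).index = A.index := by
  have h1 : (A.map f).comap f = A := by
    rw [Subgroup.comap_map_eq, sup_eq_left.2 hk]
  rw [← Subgroup.index_comap_of_surjective (A.map f) hf, h1]

/-- `Apart` goes down if the first subgroup contains the kernel and ... -/
theorem exists_conj_not_mem_map {f : G →* H} (hf : Function.Surjective f) {A B : Subgroup G} (hkA : f.ker ≤ A)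
    (h : ∀ g : G, ∃ x ∈ B, g * x * g⁻¹ ∉ A) (g : H) : ∃ x ∈ B.map f, g * x * g⁻¹ ∉ A.map f := by
  obtain ⟨g, rfl⟩ := hf g
  obtain ⟨x, hx, hx'⟩ := h g
  refine ⟨f x, Subgroup.mem_map_of_mem f hx, fun h1 => hx' ?_⟩
  rw [← map_inv, ← map_mul, ← map_mul] at h1
  have h2 : g * x * g⁻¹ ∈ (A.map f).comap f := h1
  rwa [Subgroup.comap_map_eq, sup_eq_left.2 hkA] at h2

end General

section PSU

variable {F : Type*} [Field F] [Fintype F] {q n : ℕ}

/-- the projection `SU → PSU` -/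
abbrev pr (n : ℕ) (F : Type*) [Field F] (q : ℕ) : SU n F q →* PSU n F q :=
  QuotientGroup.mk' (Subgroup.center (SU n F q))

omit [Fintype F] in
theorem pr_surjective : Function.Surjective (pr n F q) := QuotientGroup.mk'_surjective _

omit [Fintype F] in
theorem ker_pr : (pr n F q).ker = Subgroup.center (SU n F q) := QuotientGroup.ker_mk' _

/-- **an irreducible subgroup is apart from a Borel subgroup** -/
theorem apart_borel_of_irr (hF : Fintype.card F = q ^ 2) (hn : 3 ≤ n) {p : ℕ} [Fact p.Prime] [CharP F p]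
    (S : Sylow p (PSU n F q)) {E : Subgroup (SU n F q)} (hE : Irr E) :
    Apart ((Subgroup.normalizer ((S : Subgroup (PSU n F q)) : Set (PSU n F q)) :)) (E.map (pr n F q)) := by
  intro g K h1 h2
  obtain ⟨g, rfl⟩ := pr_surjective g
  have h3 : ¬ p ∣ (K.comap (pr n F q)).index := by
    rw [Subgroup.index_comap_of_surjective K pr_surjective]
    intro h
    have h4 : (S : Subgroup (PSU n F q)) ≤ K := Subgroup.le_normalizer.trans h1
    exact S.not_dvd_index (h.trans (Subgroup.index_dvd_of_le h4))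
  have h4 : Irr (K.comap (pr n F q)) := by
    refine hE.conj g fun y hy => ?_
    have h5 := h2 _ (Subgroup.mem_map_of_mem (pr n F q) hy)
    rw [← map_inv, ← map_mul, ← map_mul] at h5
    exact h5
  have h5 := top_of_sylow_irr hF hn h3 h4
  rw [← Subgroup.map_comap_eq_self_of_surjective pr_surjective K, h5,
    Subgroup.map_top_of_surjective _ pr_surjective]

/-- the index of an irreducible proper subgroup is divisible by `p` -/
theorem dvd_index_of_irr (hF : Fintype.card F = q ^ 2) (hn : 3 ≤ n) {p : ℕ} [Fact p.Prime] [CharP F p]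
    {E : Subgroup (SU n F q)} (hE : Irr E) (hE1 : E ≠ ⊤) : p ∣ E.index := by
  by_contra h
  exact hE1 (top_of_sylow_irr hF hn h hE)

end PSU

end Cfsg.Agent.H950.Su
end

-- part: H950/SuSg
section
/-!
# The subgroup `Sp_n(q)` of `SU n F q` (helper950)

`Sg q σ` : `σ` is a semilinear involution with `h(u, σ u) = 0` (the fixed vectors of `σ` form an `F_q`-space on which
the hermitian form is a multiple of a symplectic form).  `NS σ` is the subgroup of `SU n F q` commuting with `σ` up to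
scalars.  `isCoatom_NS` : it is a maximal subgroup for `n ≥ 4`.
-/

set_option autoImplicit false

namespace Cfsg.Agent.H950.Su

open Cfsg Cfsg.Agent.LieClassical.HermBasic Cfsg.Agent.LieClassical.HermSiegel
  Cfsg.Agent.LieClassical.HermGen Cfsg.Agent.LieClassical.HermSimple Cfsg.Agent.LieClassical.HermPerfect

variable {F : Type*} [Field F] [Fintype F] {q n : ℕ}

/-- a semilinear involution with `h(u, σ u) = 0` -/
structure Sg (q : ℕ) (σ : (Fin n → F) → (Fin n → F)) : Prop where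
  add : ∀ u v, σ (u + v) = σ u + σ v
  smul : ∀ (c : F) u, σ (c • u) = c ^ q • σ u
  inv : ∀ u, σ (σ u) = u
  alt : ∀ u, hermForm n F q u (σ u) = 0

namespace Sg

variable {σ : (Fin n → F) → (Fin n → F)}

omit [Fintype F] in
theorem zero (hσ : Sg q σ) : σ 0 = 0 := by
  have h := hσ.add 0 0
  rw [add_zero] at h
  exact left_eq_add.1 h

omit [Fintype F] in
theorem neg (hσ : Sg q σ) (u : Fin n → F) : σ (-u) = -σ u := by
  have h := hσ.add u (-u)
  rw [add_neg_cancel, hσ.zero] at h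
  exact (neg_eq_of_add_eq_zero_right h.symm).symm

omit [Fintype F] in
theorem sub (hσ : Sg q σ) (u v : Fin n → F) : σ (u - v) = σ u - σ v := by
  rw [sub_eq_add_neg, hσ.add, hσ.neg, sub_eq_add_neg]

omit [Fintype F] in
theorem inj (hσ : Sg q σ) {u v : Fin n → F} (h : σ u = σ v) : u = v := by
  rw [← hσ.inv u, h, hσ.inv]

theorem herm (hF : Fintype.card F = q ^ 2) (hσ : Sg q σ) (u v : Fin n → F) :
    hermForm n F q (σ u) (σ v) = -hermForm n F q v u := by
  have h := hσ.alt (σ u + v)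
  rw [hσ.add, hσ.inv, herm_add_left, herm_add_right hF, herm_add_right hF] at h
  have h1 : hermForm n F q (σ u) u = 0 := herm_eq_zero_swap hF (hσ.alt u)
  rw [h1, hσ.alt v] at h
  linear_combination h

theorem herm_fix (hF : Fintype.card F = q ^ 2) (hσ : Sg q σ) {u v : Fin n → F} (hu : σ u = u) (hv : σ v = v) :
    hermForm n F q v u = -hermForm n F q u v := by
  have := hσ.herm hF u v
  rw [hu, hv] at this
  rw [this, neg_neg]

theorem herm_pow (hF : Fintype.card F = q ^ 2) (hσ : Sg q σ) {u v : Fin n → F} (hu : σ u = u) (hv : σ v = v) :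
    hermForm n F q u v ^ q = -hermForm n F q u v := by
  rw [← herm_swap hF, hσ.herm_fix hF hu hv]

omit [Fintype F] in
theorem iso_fix (hσ : Sg q σ) {u : Fin n → F} (hu : σ u = u) : hermForm n F q u u = 0 := by
  have := hσ.alt u
  rwa [hu] at this

/-- decomposition `v = a + w b` with `a`, `b` fixed -/
theorem decomp (hF : Fintype.card F = q ^ 2) (hσ : Sg q σ) {w : F} (hw : w ^ q ≠ w) (v : Fin n → F) :
    ∃ a b : Fin n → F, σ a = a ∧ σ b = b ∧ v = a + w • b := by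
  have hd : w - w ^ q ≠ 0 := sub_ne_zero.2 (Ne.symm hw)
  have hb : σ ((w - w ^ q)⁻¹ • (v - σ v)) = (w - w ^ q)⁻¹ • (v - σ v) := by
    rw [hσ.smul, hσ.sub, hσ.inv, inv_pow, sub_pow_q hF, pow_q_pow_q hF]
    have : (w ^ q - w)⁻¹ = -(w - w ^ q)⁻¹ := by
      rw [← inv_neg, neg_sub]
    rw [this, neg_smul, ← smul_neg, neg_sub]
  refine ⟨v - w • ((w - w ^ q)⁻¹ • (v - σ v)), (w - w ^ q)⁻¹ • (v - σ v), ?_, hb, by rw [sub_add_cancel]⟩
  rw [hσ.sub, hσ.smul, hb]
  have h1 : v - σ v = (w - w ^ q) • ((w - w ^ q)⁻¹ • (v - σ v)) := by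
    rw [smul_smul, mul_inv_cancel₀ hd, one_smul]
  have h2 : σ v = v - (w - w ^ q) • ((w - w ^ q)⁻¹ • (v - σ v)) := by rw [← h1, sub_sub_cancel]
  generalize (w - w ^ q)⁻¹ • (v - σ v) = b at h2 ⊢
  rw [h2, sub_smul]
  abel

/-- two products with a fixed vector: `w` is not in the subfield -/
theorem perp_decomp (hF : Fintype.card F = q ^ 2) (hσ : Sg q σ) {w : F} (hw : w ^ q ≠ w) {c a b : Fin n → F}
    (hc : σ c = c) (ha : σ a = a) (hb : σ b = b) (h : hermForm n F q c (a + w • b) = 0) :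
    hermForm n F q c a = 0 ∧ hermForm n F q c b = 0 := by
  rw [herm_add_right hF, herm_smul_right] at h
  have h1 := hσ.herm_pow hF hc ha
  have h2 := hσ.herm_pow hF hc hb
  have h3 : (hermForm n F q c a + w ^ q * hermForm n F q c b) ^ q = 0 ^ q := by rw [h]
  rw [add_pow_q hF, mul_pow, pow_q_pow_q hF, h1, h2, zero_pow_q hF] at h3
  -- `- x - w y = 0`, `x + w^q y = 0`
  have h4 : (w ^ q - w) * hermForm n F q c b = 0 := by linear_combination h + h3
  have h5 : hermForm n F q c b = 0 := (mul_eq_zero.1 h4).resolve_left (sub_ne_zero.2 hw)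
  refine ⟨?_, h5⟩
  rw [h5, mul_zero, add_zero] at h
  exact h

/-- nondegeneracy on the fixed vectors -/
theorem exists_herm_ne (hF : Fintype.card F = q ^ 2) (hσ : Sg q σ) {b : Fin n → F} (hb0 : b ≠ 0) :
    ∃ d, σ d = d ∧ hermForm n F q b d ≠ 0 := by
  obtain ⟨w, hw⟩ := exists_not_fixed hF
  by_contra hc
  push Not at hc
  apply hb0
  apply herm_nondeg hF
  intro v
  obtain ⟨x, y, hx, hy, rfl⟩ := hσ.decomp hF hw v
  rw [herm_add_right hF, herm_smul_right, hc x hx, hc y hy, mul_zero, add_zero]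

end Sg

/-- a vector `v` orthogonal to `c` and not to `b` -/
theorem exists_perp_ne (hF : Fintype.card F = q ^ 2) {c b : Fin n → F} (hc0 : c ≠ 0) (hb : ∀ μ : F, b ≠ μ • c) :
    ∃ v, hermForm n F q c v = 0 ∧ hermForm n F q b v ≠ 0 := by
  by_contra hcon
  push Not at hcon
  obtain ⟨e, he⟩ : ∃ e, hermForm n F q c e ≠ 0 := by
    by_contra h
    push Not at h
    exact hc0 (herm_nondeg hF h)
  refine hb (hermForm n F q b e / hermForm n F q c e) ?_
  rw [← sub_eq_zero]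
  apply herm_nondeg hF
  intro v
  have h1 := hcon (v - (hermForm n F q c v / hermForm n F q c e) ^ q • e) (by
    rw [herm_sub_right hF, herm_smul_right, pow_q_pow_q hF, div_mul_cancel₀ _ he, sub_self])
  rw [herm_sub_right hF, herm_smul_right, pow_q_pow_q hF] at h1
  rw [herm_sub_left, herm_smul_left]
  field_simp
  field_simp at h1
  linear_combination h1

namespace Sg

variable {σ : (Fin n → F) → (Fin n → F)}

theorem exists_perp_ne (hF : Fintype.card F = q ^ 2) (hσ : Sg q σ) {c b : Fin n → F} (hc : σ c = c) (hc0 : c ≠ 0)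
    (hb : ∀ μ : F, b ≠ μ • c) : ∃ d, σ d = d ∧ hermForm n F q c d = 0 ∧ hermForm n F q b d ≠ 0 := by
  obtain ⟨w, hw⟩ := exists_not_fixed hF
  obtain ⟨v, h1, h2⟩ := Su.exists_perp_ne hF hc0 hb
  obtain ⟨x, y, hx, hy, rfl⟩ := hσ.decomp hF hw v
  obtain ⟨h3, h4⟩ := hσ.perp_decomp hF hw hc hx hy h1
  by_cases h5 : hermForm n F q b x = 0
  · refine ⟨y, hy, h4, fun h6 => h2 ?_⟩
    rw [herm_add_right hF, herm_smul_right, h5, h6, mul_zero, add_zero]
  · exact ⟨x, hx, h3, h5⟩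

/-- two functionals at the same time -/
theorem exists_both (hF : Fintype.card F = q ^ 2) (hσ : Sg q σ) {c b b' : Fin n → F}
    (h1 : ∃ d, σ d = d ∧ hermForm n F q c d = 0 ∧ hermForm n F q b d ≠ 0)
    (h2 : ∃ d, σ d = d ∧ hermForm n F q c d = 0 ∧ hermForm n F q b' d ≠ 0) :
    ∃ d, σ d = d ∧ hermForm n F q c d = 0 ∧ hermForm n F q b d ≠ 0 ∧ hermForm n F q b' d ≠ 0 := by
  obtain ⟨d, hd, hd1, hd2⟩ := h1
  obtain ⟨e, he, he1, he2⟩ := h2
  by_cases h3 : hermForm n F q b' d = 0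
  · by_cases h4 : hermForm n F q b e = 0
    · refine ⟨d + e, by rw [hσ.add, hd, he], by rw [herm_add_right hF, hd1, he1, add_zero],
        by rwa [herm_add_right hF, h4, add_zero], by rwa [herm_add_right hF, h3, zero_add]⟩
    · exact ⟨e, he, he1, h4, he2⟩
  · exact ⟨d, hd, hd1, hd2, h3⟩

end Sg

/-! ### The subgroups -/

/-- the elements commuting with `σ` -/
def Sp0 (σ : (Fin n → F) → (Fin n → F)) : Subgroup (SU n F q) where
  carrier := {g | ∀ v, σ (act g v) = act g (σ v)}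
  one_mem' := fun v => by rw [act_one, act_one]
  mul_mem' := by
    intro a b ha hb v
    rw [act_mul, act_mul, ha, hb]
  inv_mem' := by
    intro a ha v
    apply act_injective a
    rw [← ha, act_act_inv, act_act_inv]

/-- the elements commuting with `σ` up to scalars -/
def NS (σ : (Fin n → F) → (Fin n → F)) : Subgroup (SU n F q) where
  carrier := {g | ∃ k : F, k ≠ 0 ∧ ∀ v, σ (act g v) = k • act g (σ v)}
  one_mem' := ⟨1, one_ne_zero, fun v => by rw [act_one, act_one, one_smul]⟩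
  mul_mem' := by
    rintro a b ⟨k, hk, ha⟩ ⟨l, hl, hb⟩
    refine ⟨k * l, mul_ne_zero hk hl, fun v => ?_⟩
    rw [act_mul, act_mul, ha, hb, act_smul, smul_smul]
  inv_mem' := by
    rintro a ⟨k, hk, ha⟩
    refine ⟨k⁻¹, inv_ne_zero hk, fun v => ?_⟩
    apply act_injective a
    have h1 := ha (act a⁻¹ v)
    rw [act_act_inv] at h1
    rw [act_smul, act_act_inv, h1, smul_smul, inv_mul_cancel₀ hk, one_smul]

omit [Fintype F] in
theorem Sp0_le_NS (σ : (Fin n → F) → (Fin n → F)) : (Sp0 σ : Subgroup (SU n F q)) ≤ NS σ :=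
  fun g hg => ⟨1, one_ne_zero, fun v => by rw [one_smul]; exact hg v⟩

/-- the multiples of fixed vectors -/
def FV (σ : (Fin n → F) → (Fin n → F)) (x : Fin n → F) : Prop := ∃ (c : F) (u : Fin n → F), σ u = u ∧ x = c • u

namespace Sg

variable {σ : (Fin n → F) → (Fin n → F)}

/-- transvections with a fixed vector commute with `σ` -/
theorem hasT_fix (hF : Fintype.card F = q ^ 2) (hσ : Sg q σ) {x : Fin n → F} (hx : σ x = x) :
    HasT hF (Sp0 σ) x := by
  intro μ h v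
  have hμ : μ ^ q = -μ := by
    have := h.tr
    rw [herm_zero_left, add_zero] at this
    exact (neg_eq_of_add_eq_zero_right this).symm
  rw [act_siegel, act_siegel, herm_zero_right hF, herm_zero_right hF, smul_zero, smul_zero, add_zero, add_zero,
    sub_zero, sub_zero, hσ.add, hσ.smul, hx, mul_pow, hμ]
  have h1 : hermForm n F q v x ^ q = -hermForm n F q (σ v) x := by
    have h2 := hσ.herm hF v x
    rw [hx] at h2
    rw [← herm_swap hF, h2, neg_neg]
  rw [h1, neg_mul_neg]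

theorem hasT_FV (hF : Fintype.card F = q ^ 2) (hσ : Sg q σ) {x : Fin n → F} (hx : FV σ x) :
    HasT hF (Sp0 σ) x := by
  obtain ⟨c, u, hu, rfl⟩ := hx
  exact (hσ.hasT_fix hF hu).smul c

/-- one step: `a ↦ a'` fixing all `c` with `h(c, a) = h(c, a')` -/
theorem step (hF : Fintype.card F = q ^ 2) (hσ : Sg q σ) {a a' : Fin n → F} (ha : σ a = a) (ha' : σ a' = a')
    (h : hermForm n F q a a' ≠ 0) : ∃ g ∈ (Sp0 σ : Subgroup (SU n F q)), act g a = a' ∧
      ∀ c, hermForm n F q c a = hermForm n F q c a' → act g c = c := by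
  have hd : σ (a' - a) = a' - a := by rw [hσ.sub, ha, ha']
  have hS : IsSiegel q (a' - a) 0 (hermForm n F q a a')⁻¹ := by
    refine ⟨hσ.iso_fix hd, herm_zero_left _, ?_⟩
    rw [herm_zero_left, inv_pow, hσ.herm_pow hF ha ha', inv_neg]
    ring
  refine ⟨siegel hF _ _ _ hS, hσ.hasT_fix hF hd _ hS, ?_, fun c hc => ?_⟩
  · rw [act_siegel, herm_zero_right hF, smul_zero, add_zero, sub_zero, herm_sub_right hF, hσ.iso_fix ha, sub_zero,
      inv_mul_cancel₀ h, one_smul, add_sub_cancel]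
  · rw [act_siegel, herm_zero_right hF, smul_zero, add_zero, sub_zero, herm_sub_right hF, hc, sub_self, mul_zero,
      zero_smul, add_zero]

/-- transitivity on the fixed vectors -/
theorem trans_one (hF : Fintype.card F = q ^ 2) (hσ : Sg q σ) {a a' : Fin n → F} (ha : σ a = a) (ha' : σ a' = a')
    (h0 : a ≠ 0) (h0' : a' ≠ 0) : ∃ g ∈ (Sp0 σ : Subgroup (SU n F q)), act g a = a' := by
  obtain ⟨d, hd, -, h1, h2⟩ := hσ.exists_both hF (c := 0) (b := a) (b' := a')
    (by obtain ⟨d, hd, h⟩ := hσ.exists_herm_ne hF h0; exact ⟨d, hd, herm_zero_left _, h⟩)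
    (by obtain ⟨d, hd, h⟩ := hσ.exists_herm_ne hF h0'; exact ⟨d, hd, herm_zero_left _, h⟩)
  obtain ⟨g, hg, hga, -⟩ := hσ.step hF ha hd h1
  obtain ⟨k, hk, hka, -⟩ := hσ.step hF hd ha' (herm_ne_swap hF h2)
  exact ⟨k * g, Subgroup.mul_mem _ hk hg, by rw [act_mul, hga, hka]⟩

/-- transitivity on the vectors orthogonal to a fixed vector -/
theorem trans_two (hF : Fintype.card F = q ^ 2) (hσ : Sg q σ) {c b b' : Fin n → F} (hc : σ c = c) (hb : σ b = b)
    (hb' : σ b' = b') (hc0 : c ≠ 0) (h1 : hermForm n F q c b = 0) (h1' : hermForm n F q c b' = 0)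
    (h2 : ∀ μ : F, b ≠ μ • c) (h2' : ∀ μ : F, b' ≠ μ • c) :
    ∃ g ∈ (Sp0 σ : Subgroup (SU n F q)), act g b = b' ∧ act g c = c := by
  obtain ⟨d, hd, hcd, h3, h4⟩ := hσ.exists_both hF (hσ.exists_perp_ne hF hc hc0 h2)
    (hσ.exists_perp_ne hF hc hc0 h2')
  obtain ⟨g, hg, hga, hgc⟩ := hσ.step hF hb hd h3
  obtain ⟨k, hk, hka, hkc⟩ := hσ.step hF hd hb' (herm_ne_swap hF h4)
  refine ⟨k * g, Subgroup.mul_mem _ hk hg, by rw [act_mul, hga, hka], ?_⟩
  rw [act_mul, hgc c (by rw [h1, hcd]), hkc c (by rw [hcd, h1'])]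

/-- the structure of the isotropic vectors which are not multiples of fixed vectors -/
theorem iso_decomp (hF : Fintype.card F = q ^ 2) (hσ : Sg q σ) {w : F} (hw : w ^ q ≠ w) {x : Fin n → F}
    (hx : hermForm n F q x x = 0) (hxV : ¬ FV σ x) :
    ∃ a b : Fin n → F, σ a = a ∧ σ b = b ∧ x = a + w • b ∧ a ≠ 0 ∧ (∀ μ : F, b ≠ μ • a) ∧
      hermForm n F q a b = 0 := by
  obtain ⟨a, b, ha, hb, rfl⟩ := hσ.decomp hF hw x
  have ha0 : a ≠ 0 := by
    rintro rfl
    exact hxV ⟨w, b, hb, by rw [zero_add]⟩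
  refine ⟨a, b, ha, hb, rfl, ha0, ?_, ?_⟩
  · rintro μ rfl
    exact hxV ⟨1 + w * μ, a, ha, by rw [add_smul, one_smul, mul_smul]⟩
  · rw [herm_add_left, herm_add_right hF, herm_add_right hF, herm_smul_left, herm_smul_left, herm_smul_right,
      herm_smul_right, hσ.iso_fix ha, hσ.iso_fix hb, hσ.herm_fix hF ha hb] at hx
    have h1 : (w ^ q - w) * hermForm n F q a b = 0 := by linear_combination hx
    exact (mul_eq_zero.1 h1).resolve_left (sub_ne_zero.2 hw)

/-- **transitivity on the isotropic vectors which are not multiples of fixed vectors** -/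
theorem trans_iso (hF : Fintype.card F = q ^ 2) (hσ : Sg q σ) {x y : Fin n → F}
    (hx : hermForm n F q x x = 0) (hxV : ¬ FV σ x) (hy : hermForm n F q y y = 0) (hyV : ¬ FV σ y) :
    ∃ g ∈ (Sp0 σ : Subgroup (SU n F q)), act g x = y := by
  obtain ⟨w, hw⟩ := exists_not_fixed hF
  obtain ⟨a, b, ha, hb, rfl, ha0, hab, h1⟩ := hσ.iso_decomp hF hw hx hxV
  obtain ⟨a', b', ha', hb', rfl, ha0', hab', h1'⟩ := hσ.iso_decomp hF hw hy hyV
  obtain ⟨g, hg, hga⟩ := hσ.trans_one hF ha ha' ha0 ha0'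
  obtain ⟨k, hk, hkb, hka⟩ := hσ.trans_two hF (c := a') (b := act g b) (b' := b') ha'
    (by rw [hg b, hb]) hb' ha0' (by rw [← hga, herm_act, h1]) h1' (by
      intro μ h
      apply hab μ
      apply act_injective g
      rw [h, act_smul, hga]) hab'
  refine ⟨k * g, Subgroup.mul_mem _ hk hg, ?_⟩
  rw [act_mul, act_add, act_add, act_smul, act_smul, hga, hka, hkb]

/-- an element mapping fixed vectors to multiples of fixed vectors is in `NS σ` -/
theorem mem_NS (hF : Fintype.card F = q ^ 2) (hσ : Sg q σ) (hn : 0 < n) {g : SU n F q}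
    (hg : ∀ v, σ v = v → FV σ (act g v)) : g ∈ (NS σ : Subgroup (SU n F q)) := by
  obtain ⟨w, hw⟩ := exists_not_fixed hF
  -- a fixed vector
  obtain ⟨v₀, hv₀, hv₀0⟩ : ∃ v₀ : Fin n → F, σ v₀ = v₀ ∧ v₀ ≠ 0 := by
    obtain ⟨a, b, ha, hb, h⟩ := hσ.decomp hF hw (Pi.single ⟨0, hn⟩ 1)
    by_cases ha0 : a = 0
    · refine ⟨b, hb, ?_⟩
      rintro rfl
      rw [ha0, smul_zero, add_zero] at h
      have := congrFun h ⟨0, hn⟩
      rw [Pi.single_eq_same] at this
      exact one_ne_zero this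
    · exact ⟨a, ha, ha0⟩
  have hk : ∀ v, σ v = v → v ≠ 0 → ∃ k : F, k ≠ 0 ∧ σ (act g v) = k • act g v := by
    intro v hv hv0
    obtain ⟨c, u, hu, he⟩ := hg v hv
    have hc : c ≠ 0 := by
      rintro rfl
      rw [zero_smul] at he
      exact hv0 ((act_eq_zero g).1 he)
    refine ⟨c ^ q * c⁻¹, mul_ne_zero (pow_ne_zero _ hc) (inv_ne_zero hc), ?_⟩
    rw [he, hσ.smul, hu, smul_smul, mul_assoc, inv_mul_cancel₀ hc, mul_one]
  obtain ⟨k, hk0, hkv⟩ := hk v₀ hv₀ hv₀0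
  have key : ∀ v, σ v = v → σ (act g v) = k • act g v := by
    intro v hv
    by_cases hm : ∃ μ : F, v = μ • v₀
    · obtain ⟨μ, rfl⟩ := hm
      have hμ : μ ^ q = μ := by
        rw [hσ.smul, hv₀] at hv
        exact smul_left_injective F hv₀0 hv
      rw [act_smul, hσ.smul, hμ, hkv, smul_comm]
    · push Not at hm
      have hv0 : v ≠ 0 := fun h => hm 0 (by rw [h, zero_smul])
      obtain ⟨l, hl0, hl⟩ := hk v hv hv0
      obtain ⟨m, hm0, hm'⟩ := hk (v + v₀) (by rw [hσ.add, hv, hv₀]) (by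
        intro h
        apply hm (-1)
        rw [neg_one_smul]
        exact eq_neg_of_add_eq_zero_left h)
      rw [act_add, hσ.add, hl, hkv, smul_add] at hm'
      -- `(l - m) g v = (m - k) g v₀`
      have h1 : (l - m) • act g v = (m - k) • act g v₀ := by
        rw [sub_smul, sub_smul]
        have := hm'
        rw [← sub_eq_zero] at this ⊢
        rw [← this]
        abel
      have h2 : l = m := by
        by_contra hlm
        have h3 : l - m ≠ 0 := sub_ne_zero.2 hlm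
        apply hm ((l - m)⁻¹ * (m - k))
        apply act_injective g
        rw [act_smul, mul_smul, ← h1, smul_smul, inv_mul_cancel₀ h3, one_smul]
      have h4 : m = k := by
        rw [h2, sub_self, zero_smul] at h1
        have h5 : act g v₀ ≠ 0 := fun h => hv₀0 ((act_eq_zero g).1 h)
        exact sub_eq_zero.1 ((smul_eq_zero.1 h1.symm).resolve_right h5)
      rw [hl, h2, h4]
  refine ⟨k, hk0, fun v => ?_⟩
  obtain ⟨a, b, ha, hb, rfl⟩ := hσ.decomp hF hw v
  rw [act_add, act_smul, hσ.add, hσ.smul, key a ha, key b hb, hσ.add, hσ.smul, ha, hb, act_add, act_smul, smul_add,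
    smul_comm]

/-- `x` is a multiple of a fixed vector iff `σ x` is a multiple of `x` -/
theorem FV_of_smul (hF : Fintype.card F = q ^ 2) (hσ : Sg q σ) {x : Fin n → F} {k : F} (h : σ x = k • x) : FV σ x := by
  obtain ⟨w, hw⟩ : ∃ w : F, w + w ^ q * k ≠ 0 := by
    by_contra hc
    push Not at hc
    obtain ⟨w, hw⟩ := exists_not_fixed hF
    have h1 := hc 1
    have h2 := hc w
    rw [one_pow, one_mul] at h1
    have h3 : k = -1 := by linear_combination h1
    rw [h3] at h2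
    apply hw
    linear_combination -h2
  refine ⟨(w + w ^ q * k)⁻¹, w • x + σ (w • x), by rw [hσ.add, hσ.inv, add_comm], ?_⟩
  rw [hσ.smul, h, smul_smul, ← add_smul, smul_smul, inv_mul_cancel₀ hw, one_smul]

theorem smul_of_FV (hσ : Sg q σ) {x : Fin n → F} (h : FV σ x) : ∃ k : F, σ x = k • x := by
  obtain ⟨c, u, hu, rfl⟩ := h
  by_cases hc : c = 0
  · exact ⟨0, by rw [hc, zero_smul, zero_smul, hσ.zero]⟩
  · exact ⟨c ^ q * c⁻¹, by rw [hσ.smul, hu, smul_smul, mul_assoc, inv_mul_cancel₀ hc, mul_one]⟩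

theorem FV_act (hF : Fintype.card F = q ^ 2) (hσ : Sg q σ) {g : SU n F q} (hg : g ∈ (NS σ : Subgroup (SU n F q)))
    {x : Fin n → F} (hx : FV σ x) : FV σ (act g x) := by
  obtain ⟨k, -, hk⟩ := hg
  obtain ⟨l, hl⟩ := hσ.smul_of_FV hx
  exact hσ.FV_of_smul hF (k := k * l) (by rw [hk, hl, act_smul, smul_smul])

/-- there are isotropic vectors which are not multiples of fixed vectors, and nonzero fixed vectors -/
theorem exists_fix_and_not (hF : Fintype.card F = q ^ 2) (hσ : Sg q σ) (hn : 3 ≤ n) :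
    ∃ a y : Fin n → F, σ a = a ∧ a ≠ 0 ∧ hermForm n F q y y = 0 ∧ ¬ FV σ y := by
  obtain ⟨w, hw⟩ := exists_not_fixed hF
  obtain ⟨a, ha, ha0⟩ : ∃ v₀ : Fin n → F, σ v₀ = v₀ ∧ v₀ ≠ 0 := by
    obtain ⟨a, b, ha, hb, h⟩ := hσ.decomp hF hw (Pi.single ⟨0, by omega⟩ 1)
    by_cases ha0 : a = 0
    · refine ⟨b, hb, ?_⟩
      rintro rfl
      rw [ha0, smul_zero, add_zero] at h
      have := congrFun h ⟨0, by omega⟩
      rw [Pi.single_eq_same] at this
      exact one_ne_zero this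
    · exact ⟨a, ha, ha0⟩
  -- a fixed vector `b` orthogonal to `a` and independent of it
  obtain ⟨b, hb, hab, hb2⟩ : ∃ b, σ b = b ∧ hermForm n F q a b = 0 ∧ ∀ μ : F, b ≠ μ • a := by
    obtain ⟨e, he, hae⟩ := hσ.exists_herm_ne hF ha0
    obtain ⟨x, -, hx0, hxa, hxe⟩ := exists_ne_zero_perp (q := q) hF hn le_rfl a e
    obtain ⟨c, d, hc, hd, rfl⟩ := hσ.decomp hF hw x
    obtain ⟨h1, h2⟩ := hσ.perp_decomp hF hw ha hc hd (herm_eq_zero_swap hF hxa)
    by_cases h3 : ∃ μ : F, c = μ • a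
    · by_cases h4 : ∃ μ : F, d = μ • a
      · exfalso
        obtain ⟨μ, rfl⟩ := h3
        obtain ⟨ν, rfl⟩ := h4
        apply hx0
        have h5 : (μ + w * ν) * hermForm n F q a e = 0 := by
          rw [← hxe, herm_add_left, herm_smul_left, herm_smul_left, herm_smul_left]
          ring
        have h6 := (mul_eq_zero.1 h5).resolve_right hae
        rw [smul_smul, ← add_smul, h6, zero_smul]
      · push Not at h4
        exact ⟨d, hd, h2, h4⟩
    · push Not at h3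
      exact ⟨c, hc, h1, h3⟩
  refine ⟨a, a + w • b, ha, ha0, ?_, ?_⟩
  · rw [herm_add_left, herm_add_right hF, herm_add_right hF, herm_smul_left, herm_smul_left, herm_smul_right,
      herm_smul_right, hσ.iso_fix ha, hσ.iso_fix hb, hσ.herm_fix hF ha hb, hab]
    ring
  · intro h
    obtain ⟨k, hk⟩ := hσ.smul_of_FV h
    rw [hσ.add, hσ.smul, ha, hb, smul_add, smul_smul] at hk
    -- `(1 - k) a = (k w - w^q) b`
    have h1 : (w ^ q - k * w) • b = (k - 1) • a := by
      rw [sub_smul, sub_smul, one_smul]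
      rw [← sub_eq_zero] at hk ⊢
      rw [← hk]
      abel
    by_cases h2 : w ^ q - k * w = 0
    · rw [h2, zero_smul] at h1
      have h3 : k = 1 := sub_eq_zero.1 ((smul_eq_zero.1 h1.symm).resolve_right ha0)
      rw [h3, one_mul, sub_eq_zero] at h2
      exact hw h2
    · apply hb2 ((w ^ q - k * w)⁻¹ * (k - 1))
      rw [mul_smul, ← h1, smul_smul, inv_mul_cancel₀ h2, one_smul]

theorem NS_ne_top (hF : Fintype.card F = q ^ 2) (hσ : Sg q σ) (hn : 3 ≤ n) :
    (NS σ : Subgroup (SU n F q)) ≠ ⊤ := by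
  intro htop
  obtain ⟨a, y, ha, ha0, hy, hyV⟩ := hσ.exists_fix_and_not hF hn
  have hy0 : y ≠ 0 := by
    rintro rfl
    exact hyV ⟨0, 0, hσ.zero, by rw [smul_zero]⟩
  obtain ⟨g, -, hg⟩ := exists_map_iso (q := q) hF hn le_rfl (mem_coordSub_self a) (mem_coordSub_self y) ha0 hy0
    (hσ.iso_fix ha) hy
  apply hyV
  rw [← hg]
  exact hσ.FV_act hF (by rw [htop]; trivial) ⟨1, a, ha, by rw [one_smul]⟩

/-- overgroups of `Sp0 σ` not in `NS σ` -/
theorem top_of_not_le (hF : Fintype.card F = q ^ 2) (hσ : Sg q σ) (hn : 3 ≤ n) (h32 : ¬ (n = 3 ∧ q = 2))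
    {K : Subgroup (SU n F q)} (hK : Sp0 σ ≤ K) (hK' : ¬ K ≤ NS σ) : K = ⊤ := by
  obtain ⟨g, hg, hg'⟩ := SetLike.not_le_iff_exists.1 hK'
  obtain ⟨v, hv, hgv⟩ : ∃ v, σ v = v ∧ ¬ FV σ (act g v) := by
    by_contra hc
    push Not at hc
    exact hg' (hσ.mem_NS hF (by omega) hc)
  apply top_of_hasT hF hn h32
  intro y hy
  by_cases hyV : FV σ y
  · exact (hσ.hasT_FV hF hyV).mono hK
  · obtain ⟨k, hk, he⟩ := hσ.trans_iso hF (x := act g v) (y := y) (by rw [herm_act, hσ.iso_fix hv]) hgv hy hyV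
    rw [← he]
    exact (((hσ.hasT_fix hF hv).mono hK).move hg).move (hK hk)

/-- **`NS σ` is maximal** -/
theorem isCoatom_NS (hF : Fintype.card F = q ^ 2) (hσ : Sg q σ) (hn : 3 ≤ n) (h32 : ¬ (n = 3 ∧ q = 2)) :
    IsCoatom (NS σ : Subgroup (SU n F q)) :=
  ⟨hσ.NS_ne_top hF hn, fun _ hK => hσ.top_of_not_le hF hn h32 ((Sp0_le_NS σ).trans hK.le) (not_le_of_gt hK)⟩

/-- `Sp0 σ` is irreducible -/
theorem irr_Sp0 (hF : Fintype.card F = q ^ 2) (hσ : Sg q σ) : Irr (Sp0 σ : Subgroup (SU n F q)) := by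
  intro W hW
  obtain ⟨w, hw⟩ := exists_not_fixed hF
  obtain ⟨μ, hμ0, hμ⟩ := exists_trace_zero_ne hF
  by_cases h : ∃ x ∈ W, ∃ u, σ u = u ∧ hermForm n F q x u ≠ 0
  · right
    obtain ⟨x, hx, u, hu, hxu⟩ := h
    have hS : IsSiegel q u 0 μ := ⟨hσ.iso_fix hu, herm_zero_left _, by rw [herm_zero_left, add_zero, hμ]⟩
    have h1 := W.sub_mem (hW _ (hσ.hasT_fix hF hu _ hS) _ hx) hx
    rw [act_siegel, herm_zero_right hF, smul_zero, add_zero, sub_zero, add_sub_cancel_left] at h1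
    have huW : u ∈ W := by
      have := W.smul_mem (μ * hermForm n F q x u)⁻¹ h1
      rwa [smul_smul, inv_mul_cancel₀ (mul_ne_zero hμ0 hxu), one_smul] at this
    have hu0 : u ≠ 0 := by
      rintro rfl
      exact hxu (herm_zero_right hF _)
    have h2 : ∀ v, σ v = v → v ∈ W := by
      intro v hv
      by_cases hv0 : v = 0
      · rw [hv0]; exact W.zero_mem
      · obtain ⟨g, hg, he⟩ := hσ.trans_one hF hu hv hu0 hv0
        rw [← he]
        exact hW g hg u huW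
    rw [eq_top_iff]
    intro v _
    obtain ⟨a, b, ha, hb, rfl⟩ := hσ.decomp hF hw v
    exact W.add_mem (h2 a ha) (W.smul_mem w (h2 b hb))
  · left
    push Not at h
    rw [eq_bot_iff]
    intro x hx
    rw [Submodule.mem_bot]
    by_contra hx0
    apply hx0
    apply herm_nondeg hF
    intro v
    obtain ⟨a, b, ha, hb, rfl⟩ := hσ.decomp hF hw v
    rw [herm_add_right hF, herm_smul_right, h x hx a ha, h x hx b hb, mul_zero, add_zero]

theorem irr_NS (hF : Fintype.card F = q ^ 2) (hσ : Sg q σ) : Irr (NS σ : Subgroup (SU n F q)) :=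
  (hσ.irr_Sp0 hF).mono (Sp0_le_NS σ)

omit [Fintype F] in
theorem center_le_NS (hσ : Sg q σ) {c : F} (hc : c ≠ 0) {g : SU n F q} (hg : ∀ v, act g v = c • v) :
    g ∈ (NS σ : Subgroup (SU n F q)) := by
  refine ⟨c ^ q * c⁻¹, mul_ne_zero (pow_ne_zero _ hc) (inv_ne_zero hc), fun v => ?_⟩
  rw [hg, hg, hσ.smul, smul_smul, mul_assoc, inv_mul_cancel₀ hc, mul_one]

end Sg

end Cfsg.Agent.H950.Su
end

-- part: H950/SuMono
section
/-!
# The monomial subgroup of `SU n F q` (helper950)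

`Mono` : the elements preserving the Hamming weight. It is irreducible (`n ≥ 3`), proper, and not contained in a
conjugate of `NS σ` (`n ≥ 4`).
-/

set_option autoImplicit false

namespace Cfsg.Agent.H950.Su

open Cfsg Cfsg.Agent.LieClassical.HermBasic Cfsg.Agent.LieClassical.HermSiegel
  Cfsg.Agent.LieClassical.HermGen Cfsg.Agent.LieClassical.HermSimple Cfsg.Agent.LieClassical.HermPerfect
  Cfsg.Agent.LieClassical.SUBasic

section Basic

variable {F : Type*} [Field F] {q n : ℕ}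

/-- the Hamming weight -/
noncomputable def wt (v : Fin n → F) : ℕ := Nat.card {i // v i ≠ 0}

/-- the monomial subgroup -/
def Mono (n : ℕ) (F : Type*) [Field F] (q : ℕ) : Subgroup (SU n F q) where
  carrier := {g | ∀ v, wt (act g v) = wt v}
  one_mem' := fun v => by rw [act_one]
  mul_mem' := by
    intro a b ha hb v
    rw [act_mul, ha, hb]
  inv_mem' := by
    intro a ha v
    have := ha (act a⁻¹ v)
    rw [act_act_inv] at this
    exact this.symm

theorem act_diag (a : Fin n → F) (hd : ∏ i, a i = 1) (ha : ∀ i, a i ^ (q + 1) = 1) (v : Fin n → F) :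
    act (suDiag q a hd ha) v = fun i => a i * v i := by
  funext i
  rw [act, show mat (suDiag q a hd ha) = Matrix.diagonal a from rfl, Matrix.mulVec_diagonal]

theorem act_perm (π : Equiv.Perm (Fin n)) (hπ : Equiv.Perm.sign π = 1) (v : Fin n → F) :
    act (suPerm q π hπ) v = v ∘ π := by
  rw [act, show mat (suPerm q π hπ : SU n F q) = π.permMatrix F from rfl, Matrix.permMatrix_mulVec]

theorem diag_mem (a : Fin n → F) (hd : ∏ i, a i = 1) (ha : ∀ i, a i ^ (q + 1) = 1) :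
    suDiag q a hd ha ∈ Mono n F q := by
  intro v
  rw [act_diag]
  unfold wt
  have hne : ∀ i, a i ≠ 0 := by
    intro i h
    have := ha i
    rw [h, zero_pow (Nat.succ_ne_zero q)] at this
    exact zero_ne_one this
  apply Nat.card_congr
  exact Equiv.subtypeEquivRight fun i => by simp [hne i]

theorem perm_mem (π : Equiv.Perm (Fin n)) (hπ : Equiv.Perm.sign π = 1) : suPerm q π hπ ∈ Mono n F q := by
  intro v
  rw [act_perm]
  unfold wt
  exact Nat.card_congr (π.subtypeEquiv fun i => by simp)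

/-- the diagonal element with `c` at `i`, `c⁻¹` at `j` -/
def dvec (i j : Fin n) (c : F) (m : Fin n) : F := (if m = i then c else 1) * (if m = j then c⁻¹ else 1)

theorem dvec_prod (i j : Fin n) {c : F} (hc : c ≠ 0) : ∏ m, dvec i j c m = 1 := by
  unfold dvec
  rw [Finset.prod_mul_distrib, Finset.prod_ite_eq', Finset.prod_ite_eq']
  simp only [hc, _root_.Finset.mem_univ, ↓ _root_.reduceIte, _root_.ne_eq, _root_.not_false_eq_true, _root_.mul_inv_cancel₀]

theorem dvec_pow (i j : Fin n) {c : F} (hc : c ^ (q + 1) = 1) (m : Fin n) : dvec i j c m ^ (q + 1) = 1 := by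
  unfold dvec
  rw [mul_pow]
  split_ifs <;> simp [hc]

theorem dvec_left {i j : Fin n} (hij : i ≠ j) (c : F) : dvec i j c i = c := by
  simp [dvec, hij]

theorem dvec_right {i j : Fin n} (hij : i ≠ j) (c : F) : dvec i j c j = c⁻¹ := by
  simp [dvec, hij.symm]

theorem dvec_other {i j m : Fin n} (hi : m ≠ i) (hj : m ≠ j) (c : F) : dvec i j c m = 1 := by
  simp [dvec, hi, hj]

theorem ne_zero_of_pow {c : F} (hc : c ^ (q + 1) = 1) : c ≠ 0 := by
  rintro rfl
  rw [zero_pow (Nat.succ_ne_zero q)] at hc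
  exact zero_ne_one hc

/-- the diagonal element -/
def dg (q : ℕ) (i j : Fin n) {c : F} (hc : c ^ (q + 1) = 1) : SU n F q :=
  suDiag q (dvec i j c) (dvec_prod i j (ne_zero_of_pow hc)) (dvec_pow i j hc)

theorem act_dg (i j : Fin n) {c : F} (hc : c ^ (q + 1) = 1) (v : Fin n → F) :
    act (dg q i j hc) v = fun m => dvec i j c m * v m := act_diag _ _ _ v

theorem dg_mem (i j : Fin n) {c : F} (hc : c ^ (q + 1) = 1) : dg q i j hc ∈ Mono n F q := diag_mem _ _ _

end Basic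

variable {F : Type*} [Field F] [Fintype F] {q n : ℕ}

/-- an element of norm one and order at least three -/
theorem exists_norm_one_sq (hF : Fintype.card F = q ^ 2) : ∃ c : F, c ^ (q + 1) = 1 ∧ c ≠ 1 ∧ c ^ 2 ≠ 1 := by
  classical
  by_contra hcon
  push Not at hcon
  have h1 : ∀ c : F, c * c ^ q = 1 → c ≠ 1 → c = -1 := by
    intro c hc h
    have h2 := hcon c (by rw [pow_succ', hc]) h
    have h3 : (c - 1) * (c + 1) = 0 := by linear_combination h2
    exact eq_neg_of_add_eq_zero_left ((mul_eq_zero.1 h3).resolve_left (sub_ne_zero.2 h))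
  have h2 : Nat.card {x : F // x * x ^ q = 1} ≤ Nat.card Bool := by
    apply Nat.card_le_card_of_injective (fun x => decide (x.1 = 1))
    intro x y hxy
    apply Subtype.ext
    by_cases hx : x.1 = 1
    · by_cases hy : y.1 = 1
      · rw [hx, hy]
      · simp [hx, hy] at hxy
    · by_cases hy : y.1 = 1
      · simp [hx, hy] at hxy
      · rw [h1 _ x.2 hx, h1 _ y.2 hy]
  rw [card_norm_eq_one hF, Nat.card_eq_fintype_card, Fintype.card_bool] at h2
  have := two_le hF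
  omega

/-- **`Mono` is irreducible** -/
theorem irr_Mono (hF : Fintype.card F = q ^ 2) (hn : 3 ≤ n) : Irr (Mono n F q) := by
  intro W hW
  obtain ⟨c, hc, hc1⟩ := exists_norm_one (q := q) hF
  by_cases h : ∃ w ∈ W, ∃ i, w i ≠ 0
  · right
    obtain ⟨w, hw, i, hwi⟩ := h
    obtain ⟨j, hj⟩ : ∃ j : Fin n, j ≠ i := by
      by_contra hcon
      push Not at hcon
      have h1 := hcon ⟨0, by omega⟩
      have h2 := hcon ⟨1, by omega⟩
      rw [← h2, Fin.mk.injEq] at h1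
      omega
    have hthird : ∀ a b : Fin n, ∃ k : Fin n, k ≠ a ∧ k ≠ b := by
      intro a b
      by_contra hcon
      push Not at hcon
      have h0 := hcon ⟨0, by omega⟩
      have h1 := hcon ⟨1, by omega⟩
      have h2 := hcon ⟨2, by omega⟩
      rw [Ne, Fin.ext_iff, Fin.ext_iff] at h0 h1 h2
      simp only at h0 h1 h2
      omega
    obtain ⟨k, hki, hkj⟩ := hthird i j
    have h1 := W.sub_mem (hW _ (dg_mem i j hc) _ hw) hw
    have h2 := W.sub_mem (hW _ (dg_mem i k hc) _ h1) h1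
    have h3 : (act (dg q i k hc) (act (dg q i j hc) w - w) - (act (dg q i j hc) w - w)) =
        ((c - 1) * (c - 1) * w i) • (Pi.single i 1 : Fin n → F) := by
      rw [act_dg, act_dg]
      funext m
      simp only [Pi.sub_apply, Pi.smul_apply, smul_eq_mul]
      by_cases hmi : m = i
      · subst hmi
        rw [dvec_left hki.symm, dvec_left hj.symm, Pi.single_eq_same]
        ring
      · rw [Pi.single_eq_of_ne hmi]
        by_cases hmj : m = j
        · subst hmj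
          rw [dvec_other hmi (Ne.symm hkj)]
          ring
        · rw [dvec_other hmi hmj]
          ring
    rw [h3] at h2
    have hei : (Pi.single i 1 : Fin n → F) ∈ W := by
      have h4 : (c - 1) * (c - 1) * w i ≠ 0 := mul_ne_zero (mul_ne_zero (sub_ne_zero.2 hc1) (sub_ne_zero.2 hc1)) hwi
      have := W.smul_mem ((c - 1) * (c - 1) * w i)⁻¹ h2
      rwa [smul_smul, inv_mul_cancel₀ h4, one_smul] at this
    have hall : ∀ m, (Pi.single m 1 : Fin n → F) ∈ W := by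
      intro m
      by_cases hmi : m = i
      · rw [hmi]; exact hei
      obtain ⟨l, hlm, hli⟩ := hthird m i
      have hsg : Equiv.Perm.sign (Equiv.swap i l * Equiv.swap l m) = 1 := by
        rw [Equiv.Perm.sign_mul, Equiv.Perm.sign_swap (Ne.symm hli), Equiv.Perm.sign_swap hlm]
        rfl
      have h5 := hW _ (perm_mem (q := q) _ hsg) _ hei
      rw [act_perm] at h5
      have h6 : (Equiv.swap i l * Equiv.swap l m) m = i := by
        rw [Equiv.Perm.mul_apply, Equiv.swap_apply_right, Equiv.swap_apply_right]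
      have h7 : ((Pi.single i 1 : Fin n → F) ∘ (Equiv.swap i l * Equiv.swap l m)) = Pi.single m 1 := by
        funext t
        rw [Function.comp_apply]
        by_cases htm : t = m
        · rw [htm, h6, Pi.single_eq_same, Pi.single_eq_same]
        · rw [Pi.single_eq_of_ne htm, Pi.single_eq_of_ne]
          intro h8
          exact htm ((Equiv.swap i l * Equiv.swap l m).injective (h8.trans h6.symm))
      rwa [h7] at h5
    rw [eq_top_iff]
    intro v _
    have : v = ∑ m, v m • (Pi.single m 1 : Fin n → F) := by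
      funext j
      simp only [Finset.sum_apply, Pi.single_apply, _root_.Pi.smul_apply, _root_.smul_eq_mul, _root_.mul_ite, _root_.mul_one, _root_.MulZeroClass.mul_zero, _root_.Finset.sum_ite_eq, _root_.Finset.mem_univ, ↓ _root_.reduceIte]
    rw [this]
    exact W.sum_mem fun m _ => W.smul_mem _ (hall m)
  · left
    push Not at h
    rw [eq_bot_iff]
    intro x hx
    rw [Submodule.mem_bot]
    funext i
    exact h x hx i

/-- **`Mono` is not contained in `NS σ`**, `n ≥ 4` -/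
theorem Mono_not_le (hF : Fintype.card F = q ^ 2) (hn : 4 ≤ n) {τ : (Fin n → F) → (Fin n → F)} (hτ : Sg q τ) :
    ¬ Mono n F q ≤ NS τ := by
  intro hle
  obtain ⟨c, hc, hc1, hc2⟩ := exists_norm_one_sq (q := q) hF
  have hc0 := ne_zero_of_pow hc
  have hcq : c ^ q = c⁻¹ := by
    rw [← mul_left_inj' hc0, inv_mul_cancel₀ hc0, ← pow_succ, hc]
  let i0 : Fin n := ⟨0, by omega⟩
  have hs0 : τ (Pi.single i0 1) i0 = 0 := by
    have := hτ.alt (Pi.single i0 1)
    rw [herm_single_left, one_mul, pow_q_eq_zero hF] at this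
    exact this
  have hsne : τ (Pi.single i0 1) ≠ 0 := by
    intro h
    have h1 := hτ.inv (Pi.single i0 1)
    rw [h, hτ.zero] at h1
    have := congrFun h1 i0
    rw [Pi.single_eq_same] at this
    exact zero_ne_one this
  obtain ⟨j, hj⟩ := Function.ne_iff.1 hsne
  rw [Pi.zero_apply] at hj
  have hji : j ≠ i0 := by
    rintro rfl
    exact hj hs0
  obtain ⟨k, hk0, hkj⟩ : ∃ k : Fin n, k ≠ i0 ∧ k ≠ j := by
    by_contra hcon
    push Not at hcon
    have h1 := hcon ⟨1, by omega⟩ (by simp [i0])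
    have h2 := hcon ⟨2, by omega⟩ (by simp [i0])
    rw [← h2, Fin.mk.injEq] at h1
    omega
  obtain ⟨l, hl0, hlj, hlk⟩ : ∃ l : Fin n, l ≠ i0 ∧ l ≠ j ∧ l ≠ k := by
    by_contra hcon
    push Not at hcon
    have h1 := hcon ⟨1, by omega⟩ (by simp [i0])
    have h2 := hcon ⟨2, by omega⟩ (by simp [i0])
    have h3 := hcon ⟨3, by omega⟩ (by simp [i0])
    rw [Ne, Fin.ext_iff, Fin.ext_iff] at h1 h2 h3
    simp only at h1 h2 h3
    omega
  obtain ⟨κ, hκ0, hκ⟩ := hle (dg_mem (q := q) i0 k hc)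
  have hκc : κ = c⁻¹ := by
    have h1 := hκ (Pi.single i0 1)
    have h2 : act (dg q i0 k hc) (Pi.single i0 1) = c • (Pi.single i0 1 : Fin n → F) := by
      rw [act_dg]
      funext m
      rw [Pi.smul_apply, smul_eq_mul]
      by_cases hm : m = i0
      · rw [hm, dvec_left hk0.symm]
      · rw [Pi.single_eq_of_ne hm, mul_zero, mul_zero]
    rw [h2, hτ.smul, hcq, act_dg] at h1
    have h3 := congrFun h1 j
    simp only [Pi.smul_apply, smul_eq_mul] at h3
    rw [dvec_other hji (Ne.symm hkj), one_mul] at h3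
    exact (mul_right_cancel₀ hj h3).symm
  have key : ∀ m : Fin n, m ≠ i0 → m ≠ k → ∀ t, t ≠ i0 → τ (Pi.single m 1) t = 0 := by
    intro m hm0 hmk t ht0
    have h1 := hκ (Pi.single m 1)
    have h2 : act (dg q i0 k hc) (Pi.single m 1) = (Pi.single m 1 : Fin n → F) := by
      rw [act_dg]
      funext t
      by_cases ht : t = m
      · rw [ht, dvec_other hm0 hmk, one_mul]
      · rw [Pi.single_eq_of_ne ht, mul_zero]
    rw [h2, act_dg, hκc] at h1
    have h3 := congrFun h1 t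
    simp only [Pi.smul_apply, smul_eq_mul] at h3
    by_cases htk : t = k
    · rw [htk, dvec_right hk0.symm] at h3
      rw [htk]
      have h4 : (c⁻¹ * c⁻¹ - 1) * τ (Pi.single m 1) k = 0 := by linear_combination -h3
      refine (mul_eq_zero.1 h4).resolve_left fun h5 => hc2 ?_
      have h6 : c⁻¹ * c⁻¹ = 1 := sub_eq_zero.1 h5
      rw [← mul_inv, inv_eq_one] at h6
      rw [pow_two, h6]
    · rw [dvec_other ht0 htk, one_mul] at h3
      have h4 : (c⁻¹ - 1) * τ (Pi.single m 1) t = 0 := by linear_combination -h3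
      refine (mul_eq_zero.1 h4).resolve_left fun h5 => hc1 ?_
      exact inv_eq_one.1 (sub_eq_zero.1 h5)
  have hform : ∀ m : Fin n, m ≠ i0 → m ≠ k →
      (Pi.single m 1 : Fin n → F) = (τ (Pi.single m 1) i0) ^ q • τ (Pi.single i0 1) := by
    intro m hm0 hmk
    have h1 : τ (Pi.single m 1) = (τ (Pi.single m 1) i0) • (Pi.single i0 1 : Fin n → F) := by
      funext t
      rw [Pi.smul_apply, smul_eq_mul]
      by_cases ht : t = i0
      · rw [ht, Pi.single_eq_same, mul_one]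
      · rw [Pi.single_eq_of_ne ht, mul_zero, key m hm0 hmk t ht]
    conv_lhs => rw [← hτ.inv (Pi.single m 1), h1, hτ.smul]
  have hj1 := hform j hji hkj.symm
  have hl1 := hform l hl0 hlk
  have h1 := congrFun hj1 l
  have h2 := congrFun hl1 l
  have h3 := congrFun hl1 j
  rw [Pi.single_eq_of_ne hlj, Pi.smul_apply, smul_eq_mul] at h1
  rw [Pi.single_eq_same, Pi.smul_apply, smul_eq_mul] at h2
  rw [Pi.single_eq_of_ne hlj.symm, Pi.smul_apply, smul_eq_mul] at h3
  have h4 : τ (Pi.single l 1) i0 ^ q = 0 := (mul_eq_zero.1 h3.symm).resolve_right hj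
  rw [h4, zero_mul] at h2
  exact one_ne_zero h2

/-- conjugates -/
theorem Sg.conj {σ : (Fin n → F) → (Fin n → F)} (hσ : Sg q σ) (g : SU n F q) :
    Sg q (fun v => act g⁻¹ (σ (act g v))) where
  add := fun u v => by rw [act_add, hσ.add, act_add]
  smul := fun c v => by rw [act_smul, hσ.smul, act_smul]
  inv := fun u => by rw [act_act_inv, hσ.inv, act_inv_act]
  alt := fun u => by
    rw [← herm_act_left, hσ.alt]

theorem mem_NS_conj {σ : (Fin n → F) → (Fin n → F)} {g x : SU n F q}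
    (h : g * x * g⁻¹ ∈ (NS σ : Subgroup (SU n F q))) : x ∈ NS (fun v => act g⁻¹ (σ (act g v))) := by
  obtain ⟨k, hk, hkv⟩ := h
  refine ⟨k, hk, fun v => ?_⟩
  have h1 := hkv (act g v)
  rw [act_mul, act_inv_act, act_mul, act_mul, act_mul] at h1
  show act g⁻¹ (σ (act g (act x v))) = k • act x (act g⁻¹ (σ (act g v)))
  rw [h1, act_smul, act_inv_act]

/-- **`Mono` is not contained in a conjugate of `NS σ`** -/
theorem Mono_not_le_conj (hF : Fintype.card F = q ^ 2) (hn : 4 ≤ n) {σ : (Fin n → F) → (Fin n → F)} (hσ : Sg q σ)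
    (g : SU n F q) : ∃ x ∈ Mono n F q, g * x * g⁻¹ ∉ (NS σ : Subgroup (SU n F q)) := by
  by_contra hcon
  push Not at hcon
  exact Mono_not_le hF hn (hσ.conj g) fun x hx => mem_NS_conj (hcon x hx)

/-- **`Mono` is proper**, `n ≥ 4` -/
theorem Mono_ne_top (hF : Fintype.card F = q ^ 2) (hn : 4 ≤ n) : Mono n F q ≠ ⊤ := by
  intro htop
  obtain ⟨a, ha0, ha⟩ := exists_norm_eq_ne hF (c := (-1 : F)) (by rw [neg_pow_q hF, one_pow])
    (neg_ne_zero.2 one_ne_zero)
  let i : Fin 4 → Fin n := fun j => ⟨j.val, by omega⟩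
  have hi : Function.Injective i := by
    intro x y h
    rw [Fin.mk.injEq] at h
    exact Fin.ext h
  let x : Fin n → F := Pi.single (i 0) 1 + a • Pi.single (i 1) 1
  let y : Fin n → F := (Pi.single (i 0) 1 + a • Pi.single (i 1) 1) + (Pi.single (i 2) 1 + a • Pi.single (i 3) 1)
  have h01 : i 0 ≠ i 1 := hi.ne (by decide)
  have h02 : i 0 ≠ i 2 := hi.ne (by decide)
  have h03 : i 0 ≠ i 3 := hi.ne (by decide)
  have h12 : i 1 ≠ i 2 := hi.ne (by decide)
  have h13 : i 1 ≠ i 3 := hi.ne (by decide)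
  have h23 : i 2 ≠ i 3 := hi.ne (by decide)
  have hss : ∀ s t : Fin n, s ≠ t → hermForm n F q (Pi.single s 1) (Pi.single t 1) = 0 := by
    intro s t hst
    rw [herm_single_right hF, Pi.single_eq_of_ne hst.symm, zero_mul]
  have hs1 : ∀ s : Fin n, hermForm n F q (Pi.single s 1) (Pi.single s 1) = 1 := by
    intro s
    rw [herm_single_right hF, Pi.single_eq_same, one_pow, mul_one]
  have hx : hermForm n F q x x = 0 := by
    simp only [x, herm_add_left, herm_add_right hF, herm_smul_left, herm_smul_right, hs1, hss _ _ h01,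
      hss _ _ h01.symm]
    linear_combination ha
  have hy : hermForm n F q y y = 0 := by
    simp only [y, herm_add_left, herm_add_right hF, herm_smul_left, herm_smul_right, hs1, hss _ _ h01,
      hss _ _ h01.symm, hss _ _ h02, hss _ _ h02.symm, hss _ _ h03, hss _ _ h03.symm, hss _ _ h12, hss _ _ h12.symm,
      hss _ _ h13, hss _ _ h13.symm, hss _ _ h23, hss _ _ h23.symm]
    linear_combination 2 * ha
  have hyi : ∀ j : Fin 4, y (i j) ≠ 0 := by
    intro j
    fin_cases j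
    · simp [y, h01, h02, h03]
    · simp [y, h01.symm, h12, h13, ha0]
    · simp [y, h02.symm, h12.symm, h23]
    · simp [y, h03.symm, h13.symm, h23.symm, ha0]
  have hx0 : x ≠ 0 := by
    intro h
    have := congrFun h (i 0)
    simp [x, h01] at this
  have hy0 : y ≠ 0 := fun h => hyi 0 (by rw [h]; rfl)
  obtain ⟨g, -, hg⟩ := exists_map_iso (q := q) hF (by omega : 3 ≤ n) le_rfl (mem_coordSub_self x)
    (mem_coordSub_self y) hx0 hy0 hx hy
  have h1 : g ∈ Mono n F q := by rw [htop]; trivial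
  have h2 := h1 x
  rw [hg] at h2
  have h3 : 4 ≤ wt y := by
    unfold wt
    have := Nat.card_le_card_of_injective (fun j : Fin 4 => (⟨i j, hyi j⟩ : {m // y m ≠ 0})) (by
      intro s t h
      exact hi (congrArg Subtype.val h))
    rwa [Nat.card_eq_fintype_card, Fintype.card_fin] at this
  have h4 : wt x ≤ 2 := by
    unfold wt
    have h5 : ∀ m, x m ≠ 0 → m = i 0 ∨ m = i 1 := by
      intro m hm
      by_contra hc
      push Not at hc
      apply hm
      simp [x, hc.1, hc.2]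
    have := Nat.card_le_card_of_injective (β := Bool) (fun m : {m // x m ≠ 0} => decide (m.1 = i 0)) (by
      intro s t h
      apply Subtype.ext
      rcases h5 s.1 s.2 with h6 | h6 <;> rcases h5 t.1 t.2 with h7 | h7
      · rw [h6, h7]
      · simp [h6, h7, h01.symm] at h
      · simp [h6, h7, h01.symm] at h
      · rw [h6, h7])
    rwa [Nat.card_eq_fintype_card (α := Bool), Fintype.card_bool] at this
  omega

end Cfsg.Agent.H950.Su
end

-- part: H950/SuFour
section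
/-!
# `PSU₄(q)` has at least five classes of maximal subgroups (helper950, for S5906, S5907)

Two classes of parabolics, the stabiliser of a nonisotropic point, `NS σ` (the normaliser of `Sp₄(q)`) and an overgroup
of the monomial group.
-/

set_option autoImplicit false

namespace Cfsg.Agent.H950.Su

open Cfsg Cfsg.Agent.LieClassical.HermBasic Cfsg.Agent.LieClassical.HermSiegel
  Cfsg.Agent.H940.MaxCls Cfsg.Agent.H837.MCU Cfsg.Agent.H940.SepTyp

variable {F : Type*} [Field F] [Fintype F] {q n : ℕ}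

/-- a symplectic structure for `n = 4` -/
theorem exists_Sg_four (hF : Fintype.card F = q ^ 2) : ∃ σ : (Fin 4 → F) → (Fin 4 → F), Sg q σ := by
  obtain ⟨c, hc0, hc⟩ := exists_norm_eq_ne hF (c := (-1 : F)) (by rw [neg_pow_q hF, one_pow])
    (neg_ne_zero.2 one_ne_zero)
  refine ⟨fun v => ![-(c * v 1 ^ q), c * v 0 ^ q, -(c * v 3 ^ q), c * v 2 ^ q], ?_, ?_, ?_, ?_⟩
  · intro u v
    funext i
    (revert i; simp only [add_pow_q hF, _root_.Fin.forall_fin_succ, _root_.Nat.succ_eq_add_one, Nat.reduceAdd, Fin.isValue, _root_.Pi.add_apply, _root_.Matrix.cons_val_zero, _root_.Matrix.cons_val_succ, _root_.Matrix.cons_val_fin_one, _root_.forall_const]) <;> (repeat' with_reducible apply And.intro) <;> ring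
  · intro a v
    funext i
    (revert i; simp only [mul_pow, _root_.Fin.forall_fin_succ, _root_.Nat.succ_eq_add_one, Nat.reduceAdd, Fin.isValue, _root_.Pi.smul_apply, _root_.smul_eq_mul, _root_.Matrix.cons_val_zero, _root_.mul_neg, _root_.neg_inj, _root_.Matrix.cons_val_succ, _root_.Matrix.cons_val_fin_one, _root_.forall_const]) <;> (repeat' with_reducible apply And.intro) <;> ring
  · intro v
    have h : ∀ x : F, c * (c * x ^ q) ^ q = -x := by
      intro x
      rw [mul_pow, pow_q_pow_q hF]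
      linear_combination x * hc
    funext i
    (revert i; simp only [neg_pow_q hF, h, _root_.Fin.forall_fin_succ, _root_.Nat.succ_eq_add_one, Nat.reduceAdd, Fin.isValue, _root_.Matrix.cons_val_one, _root_.Matrix.cons_val_zero, _root_.neg_neg, _root_.mul_neg, _root_.Matrix.cons_val, _root_.Matrix.cons_val_succ, _root_.Fin.succ_zero_eq_one, _root_.Fin.succ_one_eq_two, _root_.Matrix.cons_val_fin_one, Fin.reduceSucc, _root_.IsEmpty.forall_iff, _root_.and_self])
  · intro v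
    rw [herm_def, Fin.sum_univ_four]
    simp only [Matrix.cons_val_zero, Matrix.cons_val_one, Matrix.cons_val, neg_pow_q hF, mul_pow, pow_q_pow_q hF]
    ring

/-- an irreducible subgroup is in no stabiliser -/
theorem not_irr_stU {W : Submodule F (Fin n → F)} (h0 : W ≠ ⊥) (h1 : W ≠ ⊤) : ¬ Irr (stU q W) := by
  intro h
  rcases h W (fun g hg w hw => ((mem_stU.1 hg) w).1 hw) with h | h
  · exact h0 h
  · exact h1 h

theorem psu_five_four (hF : Fintype.card F = q ^ 2) : Sep 5 (PSU 4 F q) := by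
  obtain ⟨p, hpc⟩ := CharP.exists F
  have hp : Fact p.Prime := ⟨CharP.char_is_prime F p⟩
  obtain ⟨m, hm, hK⟩ := Cfsg.Agent.Omega.ML.Ex.Typ.typ_PSU hF (by norm_num : 3 ≤ 4) (p := p)
  obtain rfl : m = 2 := by omega
  obtain ⟨σ, hσ⟩ := exists_Sg_four (q := q) hF
  have h32 : ¬ (4 = 3 ∧ q = 2) := by omega
  have h14 : 1 ≤ 4 := by norm_num
  have hW0 := co_ne_bot (F := F) h14 one_pos
  have hW1 := co_ne_top (F := F) (n := 4) (k := 1) (by norm_num)
  have hWn := nondeg_co (q := q) hF (F := F) h14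
  have hdim : 2 * Module.finrank F (co F h14) < 4 := by rw [finrank_co]; norm_num
  have hker : (pr 4 F q).ker = Subgroup.center (SU 4 F q) := Su.ker_pr
  have hscal : ∀ z ∈ (pr 4 F q).ker, ∃ c : F, c ≠ 0 ∧ ∀ v, act z v = c • v := by
    intro z hz
    rw [hker] at hz
    obtain ⟨c, hc0, -, hc⟩ := ClassicalGeometry.PSUAutBasic.exists_scalar_of_mem_center hF (by norm_num) hz
    exact ⟨c, hc0, hc⟩
  have hkN : (pr 4 F q).ker ≤ NS σ := by
    intro z hz
    obtain ⟨c, hc0, hc⟩ := hscal z hz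
    exact hσ.center_le_NS hc0 hc
  have hkM : (pr 4 F q).ker ≤ Mono 4 F q := by
    intro z hz v
    obtain ⟨c, hc0, hc⟩ := hscal z hz
    rw [hc]
    unfold wt
    exact Nat.card_congr (Equiv.subtypeEquivRight fun i => by simp [hc0])
  have hkS := ker_le_stU (n := 4) hF (by norm_num) (co F h14)
  obtain ⟨S⟩ : Nonempty (Sylow p (PSU 4 F q)) := inferInstance
  have hnotconj : ∀ E : Subgroup (SU 4 F q), Irr E → ∀ g : PSU 4 F q,
      ∃ x ∈ E.map (pr 4 F q), g * x * g⁻¹ ∉ (stU q (co F h14)).map (pr 4 F q) := by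
    intro E hE g
    refine exists_conj_not_mem_map pr_surjective hkS (fun g => ?_) g
    by_contra hcon
    push Not at hcon
    exact not_irr_stU hW0 hW1 (hE.conj g hcon)
  refine sep_typ_coatoms_succ (k := 2) hK S ![stP q (co F h14), (NS σ).map (pr 4 F q)] ?_ ?_ ?_
    (E := (Mono 4 F q).map (pr 4 F q)) ?_ ?_ ?_
  · intro i
    fin_cases i
    · exact coatom_stP hF (by norm_num) h32 hW0 hWn hdim
    · exact isCoatom_map pr_surjective hkN (hσ.isCoatom_NS hF (by norm_num) h32)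
  · intro i j hij g
    have hi : i = 0 := by omega
    have hj : j = 1 := by omega
    subst hi hj
    show Subgroup.map (MulAut.conj g).toMonoidHom ((stU q (co F h14)).map (pr 4 F q)) ≠ (NS σ).map (pr 4 F q)
    intro he
    obtain ⟨x, hx, hx'⟩ := hnotconj (NS σ) (hσ.irr_NS hF) g⁻¹
    rw [← he, mem_map_conj] at hx
    exact hx' (by rwa [inv_inv])
  · intro i
    fin_cases i
    · exact dvd_index_stP hF (by norm_num) hW0 hW1 hWn
    · show p ∣ ((NS σ).map (pr 4 F q)).index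
      rw [Su.index_map_of_ker_le pr_surjective hkN]
      exact dvd_index_of_irr hF (by norm_num) (hσ.irr_NS hF) (hσ.NS_ne_top hF (by norm_num))
  · exact map_ne_top hkM (Mono_ne_top hF le_rfl) pr_surjective
  · intro i g
    fin_cases i
    · exact hnotconj _ (irr_Mono hF (by norm_num)) g
    · exact exists_conj_not_mem_map pr_surjective hkN (fun g => Mono_not_le_conj hF le_rfl hσ g) g
  · exact apart_borel_of_irr hF (by norm_num) S (irr_Mono hF (by norm_num))

end Cfsg.Agent.H950.Su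
end

-- part: H865/Sep/Sets
section
/-!
# Stabilizers of sets in `M12`: maximality and apartness by orbits on points and sets
-/

set_option autoImplicit false

open scoped Pointwise

namespace Cfsg.Agent.H865.Sep

open Subgroup Cfsg Cfsg.Agent.H940.MaxCls
open Cfsg.Agent.SporadicA.GolayBase Cfsg.Agent.SporadicA.GolayPerm

variable {G : Subgroup (Equiv.Perm GolayPt)} {okG : ℕ → Bool} (M : Mod G okG)

/-- several trees of points -/
def chkTs (okG : ℕ → Bool) (T : ℕ) (gens : List ℕ) (l : List (List ℕ × List (ℕ × ℕ))) : Bool :=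
  l.all fun x => chkT okG T gens x.1 x.2

/-- several trees of sets -/
def chkMs (okG : ℕ → Bool) (T : ℕ) (gens : List ℕ) (l : List (List ℕ × List (ℕ × ℕ))) : Bool :=
  l.all fun x => chkM okG T gens x.1 x.2

include M in
theorem trs_of_chk {T : ℕ} {gens : List ℕ} {l : List (List ℕ × List (ℕ × ℕ))} (h : chkTs okG T gens l = true) :
    ∀ L ∈ l.map Prod.fst, Tr (MulAction.stabilizer G (fin T)) (PS L) := by
  intro L hL
  obtain ⟨x, hx, rfl⟩ := List.mem_map.1 hL
  exact tr_of_chk M (List.all_eq_true.1 h x hx)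

include M in
theorem trs_of_chkM {T : ℕ} {gens : List ℕ} {l : List (List ℕ × List (ℕ × ℕ))} (h : chkMs okG T gens l = true) :
    ∀ L ∈ l.map Prod.fst, Tr (MulAction.stabilizer G (fin T)) {x | ∃ m ∈ L, fin m = x} := by
  intro L hL
  obtain ⟨x, hx, rfl⟩ := List.mem_map.1 hL
  exact tr_of_chkM M (List.all_eq_true.1 h x hx)

/-- a subgroup fixes no set of the wrong size -/
theorem moves {B : Subgroup G} {Ls : List (List ℕ)} (h : ∀ L ∈ Ls, Tr B (PS L)) (hnd : Ls.flatten.Nodup)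
    (hlt : ∀ m ∈ Ls.flatten, m < 24) {X : Finset GolayPt} (hX : ∀ x ∈ X, idx x ∈ Ls.flatten)
    (hs : X.card ∉ sums (Ls.map List.length)) : ∃ b ∈ B, b • X ≠ X := by
  classical
  by_contra hc
  push Not at hc
  apply hs
  have h1 : ∀ L ∈ Ls, (L.filter fun m => decide (pt m ∈ X)).length = 0 ∨
      (L.filter fun m => decide (pt m ∈ X)).length = L.length := by
    intro L hL
    have hlt' : ∀ m ∈ L, m < 24 := fun m hm => hlt m (List.mem_flatten.2 ⟨L, hL, hm⟩)
    by_cases h1 : ∃ m ∈ L, pt m ∈ X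
    · right
      obtain ⟨m, hm, hmX⟩ := h1
      rw [List.filter_eq_self.2]
      intro n hn
      rw [decide_eq_true_eq]
      obtain ⟨b, hb, h2⟩ := h L hL (pt m) (by show idx (pt m) ∈ L; rw [idx_pt (hlt' m hm)]; exact hm) (pt n)
        (by show idx (pt n) ∈ L; rw [idx_pt (hlt' n hn)]; exact hn)
      rw [← h2, ← hc b hb]
      exact Finset.smul_mem_smul_finset hmX
    · left
      rw [List.length_eq_zero_iff, List.filter_eq_nil_iff]
      intro m hm h2
      exact h1 ⟨m, hm, of_decide_eq_true h2⟩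
  have h2 := mem_sums (f := List.length) h1
  have h3 : X.card = (Ls.map fun L => (L.filter fun m => decide (pt m ∈ X)).length).sum := by
    have h4 : (Ls.flatten.filter fun m => decide (pt m ∈ X)).length =
        (Ls.map fun L => (L.filter fun m => decide (pt m ∈ X)).length).sum := by
      rw [List.filter_flatten, List.length_flatten, List.map_map]
      rfl
    rw [← h4]
    have h5 : X = (Ls.flatten.filter fun m => decide (pt m ∈ X)).toFinset.image pt := by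
      ext x
      rw [Finset.mem_image]
      constructor
      · intro hx
        exact ⟨idx x, by rw [List.mem_toFinset, List.mem_filter, decide_eq_true_eq, pt_idx]; exact ⟨hX x hx, hx⟩, pt_idx x⟩
      · rintro ⟨m, hm, rfl⟩
        rw [List.mem_toFinset, List.mem_filter, decide_eq_true_eq] at hm
        exact hm.2
    conv_lhs => rw [h5]
    rw [Finset.card_image_of_injOn, List.toFinset_card_of_nodup (hnd.filter _)]
    intro i hi j hj hij
    have hi' := (List.mem_filter.1 (List.mem_toFinset.1 hi)).1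
    have hj' := (List.mem_filter.1 (List.mem_toFinset.1 hj)).1
    have h6 := congrArg idx hij
    rwa [idx_pt (hlt i hi'), idx_pt (hlt j hj')] at h6
  rw [h3]
  exact h2

/-- the `k`-subsets of `fin D` -/
def SK (k D : ℕ) : Set (Finset GolayPt) := {X | X ⊆ fin D ∧ X.card = k}

/-- the check that `L` lists the `k`-subsets of `fin D` -/
def chkL (k D : ℕ) (L : List ℕ) : Bool :=
  Nat.beq L.length (Nat.choose (popcount D) k) && L.all fun m =>
    Nat.blt m 16777216 && Nat.beq (m &&& D) m && Nat.beq (popcount m) k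

theorem SK_inj {k D : ℕ} {L : List ℕ} (h : chkL k D L = true) :
    ∀ i ∈ L, ∀ j ∈ L, fin i = fin j → i = j := by
  unfold chkL at h
  rw [Bool.and_eq_true, List.all_eq_true] at h
  have h1 : ∀ i ∈ L, i < 2 ^ 24 := by
    intro i hi
    have h2 := h.2 i hi
    rw [Bool.and_eq_true, Bool.and_eq_true] at h2
    exact Nat.blt_eq.mp h2.1.1
  intro i hi j hj hij
  exact _root_.Cfsg.Agent.SporadicA.GolayBase.fin_injective (h1 i hi) (h1 j hj) hij

theorem SK_eq {k D : ℕ} {L : List ℕ} (h : chkL k D L = true) (hnd : L.Nodup) :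
    SK k D = {y | ∃ m ∈ L, fin m = y} := by
  classical
  have hinj := SK_inj h
  unfold chkL at h
  rw [Bool.and_eq_true, List.all_eq_true] at h
  obtain ⟨h1, h2⟩ := h
  have h3 : L.toFinset.image fin = Finset.powersetCard k (fin D) := by
    apply Finset.eq_of_subset_of_card_le
    · intro y hy
      obtain ⟨m, hm, rfl⟩ := Finset.mem_image.1 hy
      have h4 := h2 m (List.mem_toFinset.1 hm)
      rw [Bool.and_eq_true, Bool.and_eq_true] at h4
      obtain ⟨⟨-, h5⟩, h6⟩ := h4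
      rw [Finset.mem_powersetCard, card_fin, Nat.eq_of_beq_eq_true h6]
      refine ⟨?_, rfl⟩
      rw [← Nat.eq_of_beq_eq_true h5, fin_and]
      exact Finset.inter_subset_right
    · rw [Finset.card_powersetCard, card_fin, Finset.card_image_of_injOn, List.toFinset_card_of_nodup hnd,
        Nat.eq_of_beq_eq_true h1]
      intro i hi j hj hij
      exact hinj i (List.mem_toFinset.1 hi) j (List.mem_toFinset.1 hj) hij
  ext y
  have h4 : y ∈ SK k D ↔ y ∈ L.toFinset.image fin := by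
    rw [h3, Finset.mem_powersetCard]
    rfl
  rw [h4, Finset.mem_image]
  simp only [List.mem_toFinset]
  exact Iff.rfl

/-- `fin D` is invariant -/
def InvD (G : Subgroup (Equiv.Perm GolayPt)) (D : ℕ) : Prop := ∀ (g : G) (x : GolayPt), x ∈ fin D → g • x ∈ fin D

theorem InvD.sk {D k : ℕ} (h : InvD G D) (g : G) (X : Finset GolayPt) (hX : X ∈ SK k D) : g • X ∈ SK k D := by
  refine ⟨fun y hy => ?_, ?_⟩
  · obtain ⟨x, hx, rfl⟩ := Finset.mem_smul_finset.1 hy
    exact h g x (hX.1 hx)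
  · rw [Finset.card_smul_finset]
    exact hX.2

include M in
/-- maximality of a set stabilizer -/
theorem coatom_of_chk (hfin : Finite G) {D k T : ℕ} (hD : InvD G D) {g0 gens L0 : List ℕ} {tr0 : List (ℕ × ℕ)}
    {l : List (List ℕ × List (ℕ × ℕ))} (h0 : chkM okG 0 g0 L0 tr0 = true) (hL0 : chkL k D L0 = true)
    (hnd0 : L0.Nodup) (h1 : chkMs okG T gens l = true) (hL : chkL k D (T :: (l.map Prod.fst).flatten) = true)
    (hnd : (T :: (l.map Prod.fst).flatten).Nodup)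
    (hsum : chkS (1 + ((l.map Prod.fst).map List.length).sum) ((l.map Prod.fst).map List.length) = true)
    (hone : Nat.beq ((l.map Prod.fst).map List.length).sum 0 = false) :
    IsCoatom (MulAction.stabilizer G (fin T)) := by
  refine coatom_of_suborbits (S := SK k D) (emb := fin) (fun g X hX => hD.sk g X hX) ?_ (SK_eq hL hnd) hnd (SK_inj hL)
    (trs_of_chkM M h1) hsum (fun h => ?_)
  · rw [SK_eq hL0 hnd0]
    exact (tr_of_chkM M h0).mono le_top
  · rw [h, Nat.beq_refl] at hone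
    exact absurd hone (by decide)

include M in
/-- apartness from a maximal set stabilizer -/
theorem apart_of_moves {D k T T' : ℕ} (hD : InvD G D) (hA : IsCoatom (MulAction.stabilizer G (fin T)))
    (hT : fin T ∈ SK k D) {gens : List ℕ} {l : List (List ℕ × List (ℕ × ℕ))} (h : chkTs okG T' gens l = true)
    (hnd : (l.map Prod.fst).flatten.Nodup) (hlt : (l.map Prod.fst).flatten.all (fun m => Nat.blt m 24) = true)
    (hcov : (List.range 24).all (fun i => !(D.testBit i) || (l.map Prod.fst).flatten.elem i) = true)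
    (hs : (sums ((l.map Prod.fst).map List.length)).all (fun s => !(Nat.beq s k)) = true) :
    Apart (MulAction.stabilizer G (fin T)) (MulAction.stabilizer G (fin T')) := by
  apply apart_of_coatom hA
  intro g
  have hX := hD.sk g⁻¹ _ hT
  have hk : (g⁻¹ • fin T).card ∉ sums ((l.map Prod.fst).map List.length) := by
    intro h1
    have h2 := List.all_eq_true.1 hs _ h1
    rw [hX.2, Nat.beq_refl] at h2
    exact absurd h2 (by decide)
  have hsub : ∀ x ∈ g⁻¹ • fin T, idx x ∈ (l.map Prod.fst).flatten := by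
    intro x hx
    have h3 := mem_fin.1 (hX.1 hx)
    have h4 := List.all_eq_true.1 hcov (idx x) (List.mem_range.2 (idx_lt x))
    rw [h3] at h4
    exact List.elem_iff.1 (by simpa only [_root_.List.elem_eq_contains, _root_.List.contains_eq_mem, _root_.List.mem_flatten, _root_.List.mem_map, _root_.Prod.exists, _root_.exists_and_right, _root_.exists_eq_right, _root_.decide_eq_true_eq, _root_.Bool.not_true, _root_.Bool.false_or] using h4)
  obtain ⟨b, hb, h1⟩ := moves (trs_of_chk M h) hnd (fun m hm => Nat.blt_eq.mp (List.all_eq_true.1 hlt m hm))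
    (X := g⁻¹ • fin T) hsub hk
  refine ⟨b, hb, fun h2 => h1 ?_⟩
  rw [MulAction.mem_stabilizer_iff, mul_smul, mul_smul] at h2
  rw [eq_inv_smul_iff]
  exact h2

end Cfsg.Agent.H865.Sep
end

-- part: H865/Sep/MEleven
section
/-!
# Row `M11` of S5906/S5907: five classes of maximal subgroups (helper865)
-/

set_option autoImplicit false

open scoped Pointwise

namespace Cfsg.Agent.H865.Sep.M11

open Subgroup Cfsg Cfsg.Agent.H940.MaxCls
open Cfsg.Agent.SporadicA.GolayBase Cfsg.Agent.SporadicA.GolayPerm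
open Cfsg.Agent.SporadicStructure.M24El

theorem card : Nat.card Spor.M11 = 7920 := Cfsg.Agent.FooteOdd.SporMEleven.card

theorem simple : IsSimpleGroup Spor.M11 := Cfsg.Agent.FooteOdd.SporMEleven.simple

theorem fin' : Finite Spor.M11 := Nat.finite_of_card_ne_zero (by rw [card]; decide)

/-- the mask of the dodecad -/
def ddm : ℕ := 340831

theorem sq_eq : Spor.squareDodecad = fin ddm := by
  rw [Cfsg.Agent.MTwelveType.SylowModel.squareDodecad_eq]
  ext p
  revert p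
  decide +kernel

/-- membership in `M12` -/
def okD (P : ℕ) : Bool := ok P && Nat.beq (pimg P ddm) ddm

/-- membership in `M11` -/
def okE (P : ℕ) : Bool := okD P && Nat.beq (papp P 0) 0

theorem modD : Mod Spor.M12 okD where
  ok := by
    intro P h
    unfold okD at h
    rw [Bool.and_eq_true] at h
    exact h.1
  mem := by
    intro P h
    unfold okD at h
    rw [Bool.and_eq_true] at h
    obtain ⟨h1, h2⟩ := h
    refine Subgroup.mem_inf.2 ⟨(el P).2, ?_⟩
    rw [MulAction.mem_stabilizer_iff, sq_eq, ← coe_smul_finset, el_smul_fin h1, Nat.eq_of_beq_eq_true h2]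

theorem modE : Mod Spor.M11 okE where
  ok := by
    intro P h
    unfold okE at h
    rw [Bool.and_eq_true] at h
    exact modD.ok h.1
  mem := by
    intro P h
    unfold okE at h
    rw [Bool.and_eq_true] at h
    obtain ⟨h1, h3⟩ := h
    refine Subgroup.mem_inf.2 ⟨modD.mem h1, ?_⟩
    rw [MulAction.mem_stabilizer_iff]
    have h4 := el_smul_pt (modD.ok h1) (some 0 : GolayPt)
    have h5 : idx (some 0 : GolayPt) = 0 := by decide
    rw [h5, Nat.eq_of_beq_eq_true h3] at h4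
    exact h4

/-- the eleven points -/
def LO : List ℕ := [1, 2, 3, 4, 6, 8, 9, 12, 13, 16, 18]

theorem mem_LO (x : GolayPt) : x ∈ PS LO ↔ x ∈ fin ddm ∧ x ≠ some 0 := by
  rw [mem_PS]
  revert x
  decide +kernel

theorem inv (g : Spor.M11) (x : GolayPt) (hx : x ∈ PS LO) : g • x ∈ PS LO := by
  rw [mem_LO] at hx ⊢
  obtain ⟨g, hg⟩ := g
  obtain ⟨hg1, hg2⟩ := Subgroup.mem_inf.1 hg
  obtain ⟨hg0, hg1⟩ := Subgroup.mem_inf.1 hg1
  rw [MulAction.mem_stabilizer_iff, sq_eq] at hg1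
  rw [MulAction.mem_stabilizer_iff] at hg2
  refine ⟨?_, fun h => hx.2 ?_⟩
  · show g • x ∈ _
    rw [← hg1]
    exact Finset.smul_mem_smul_finset hx.1
  · have h1 : g • x = g • (some 0 : GolayPt) := by rw [hg2]; exact h
    exact MulAction.injective g h1

theorem nc : (PS LO).ncard = 11 := ncard_PS (by decide) (by decide)

theorem finO : (PS LO).Finite := Set.toFinite _

/-- data -/
def d1 : Dat := ⟨2, [850536115568642406908435487288037408, 234595916867257899668651066224348192],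
  [1], [2, 4, 3, 16, 12, 18, 8, 6, 9, 13], [], [(0, 0), (1, 0), (0, 1), (1, 1), (1, 2), (1, 3), (0, 4), (0, 7), (0, 8)]⟩

/-- data -/
def d2 : Dat := ⟨6, [849162669473593511788040638398071872, 228001363311221454468151101670655040],
  [1, 2], [3, 12, 18, 4, 13, 8, 6, 9, 16], [(0, 0)], [(0, 0), (0, 1), (1, 1), (0, 2), (0, 3), (0, 4), (1, 5), (0, 6)]⟩

/-- data -/
def d3 : Dat := ⟨14, [601885875835129268478585557547549792, 982939420336662894431691245045713984],
  [1, 3, 2], [4, 9, 16, 18, 8, 12, 6, 13], [(0, 0), (1, 0)], [(0, 0), (0, 1), (1, 1), (1, 2), (1, 3), (0, 5), (1, 6)]⟩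

/-- data -/
def d4 : Dat := ⟨4126, [610567132226883707190967285251705216, 808017424765127922428093681722525056],
  [1, 12, 4, 3, 2], [6, 9, 18, 16, 13, 8], [(0, 0), (1, 1), (0, 2), (1, 3)], [(1, 0), (0, 1), (1, 1), (1, 2), (0, 3)]⟩

def Pu : ℕ := 858614861664229181014237315002926176
def Pv : ℕ := 735500604421669808992593446508235808
def Px : ℕ := 735670016051807874675846101006061664
def Py : ℕ := 320124209087643149655013546747408416

private noncomputable def _root_.Cfsg.Agent.GolayF.f0 : {f // @Cfsg.Agent.H865.Sep.M11.okE = f} :=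
  ⟨_, by delta Cfsg.Agent.H865.Sep.M11.okD Cfsg.Agent.H865.Sep.M11.okE Cfsg.Agent.SporadicStructure.M24El.ok; rewrite [Cfsg.Agent.GolayF.papp_eq, Cfsg.Agent.GolayF.pimg_eq, Cfsg.Agent.GolayF.isPerm_eq, Cfsg.Agent.GolayF.isAut_eq]; exact rfl⟩

private noncomputable def _root_.Cfsg.Agent.GolayF.f1 : {f // @Cfsg.Agent.H865.Sep.chkP = f} :=
  ⟨_, by delta Cfsg.Agent.H865.Sep.chkP Cfsg.Agent.H865.Sep.chkT; rewrite [Cfsg.Agent.GolayF.papp_eq, Cfsg.Agent.GolayF.pimg_eq]; exact rfl⟩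

theorem c1 : chkP okE LO d1 = true := by (rewrite [Cfsg.Agent.GolayF.f0.2, Cfsg.Agent.GolayF.f1.2]; decide +kernel)
theorem c2 : chkP okE LO d2 = true := by (rewrite [Cfsg.Agent.GolayF.f0.2, Cfsg.Agent.GolayF.f1.2]; decide +kernel)
theorem c3 : chkP okE LO d3 = true := by (rewrite [Cfsg.Agent.GolayF.f0.2, Cfsg.Agent.GolayF.f1.2]; decide +kernel)
theorem c4 : chkP okE LO d4 = true := by (rewrite [Cfsg.Agent.GolayF.f0.2, Cfsg.Agent.GolayF.f1.2]; decide +kernel)

/-- the stabilizer of a set -/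
abbrev A (T : ℕ) : Subgroup Spor.M11 := MulAction.stabilizer Spor.M11 (fin T)

/-- the pattern of the data `d` -/
def PatD (d : Dat) : Prop := Pat (PS LO) (A d.T) (PS d.LS) ∧ PS LO \ PS d.LS = PS d.LC ∧
  (∀ a ∈ A d.T, ∀ x ∈ PS d.LS, a • x ∈ PS d.LS)

theorem p1 : PatD d1 := pat_of_chk modE c1 (by decide) (by decide)
theorem p2 : PatD d2 := pat_of_chk modE c2 (by decide) (by decide)
theorem p3 : PatD d3 := pat_of_chk modE c3 (by decide) (by decide)
theorem p4 : PatD d4 := pat_of_chk modE c4 (by decide) (by decide)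

theorem n1 : (PS d1.LS).ncard = 1 := ncard_PS (by decide) (by decide)
theorem n2 : (PS d2.LS).ncard = 2 := ncard_PS (by decide) (by decide)
theorem n3 : (PS d3.LS).ncard = 3 := ncard_PS (by decide) (by decide)
theorem n4 : (PS d4.LS).ncard = 5 := ncard_PS (by decide) (by decide)

theorem m1 : (PS d1.LC).ncard = 10 := ncard_PS (by decide) (by decide)
theorem m2 : (PS d2.LC).ncard = 9 := ncard_PS (by decide) (by decide)
theorem m3 : (PS d3.LC).ncard = 8 := ncard_PS (by decide) (by decide)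
theorem m4 : (PS d4.LC).ncard = 6 := ncard_PS (by decide) (by decide)

theorem dvd_of {d : Dat} {s c : ℕ} (h : PatD d) (hs : (PS d.LS).ncard = s) (hc : (PS d.LC).ncard = c) :
    Nat.lcm s c ∣ Nat.card (A d.T) := by
  have := fin'
  obtain ⟨h1, h2⟩ := h.1.dvd inv h.2.2
  rw [h.2.1, hc] at h2
  rw [hs] at h1
  exact Nat.lcm_dvd h1 h2

/-- `M11` is transitive -/
theorem tr : Tr (⊤ : Subgroup Spor.M11) (PS LO) :=
  trans_of_pat (g := 1) finO inv p1.1 p2.1 le_top (fun _ _ => mem_top _) (by rw [n1, n2]; decide)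
    (by rw [n1, n2, nc]; decide)

theorem ne_top_of {d : Dat} (h : PatD d) : A d.T ≠ ⊤ := by
  intro hA
  obtain ⟨x, hx⟩ := h.1.ne
  obtain ⟨y, hy, hyS⟩ := h.1.ne'
  obtain ⟨a, ha, h1⟩ := tr x (h.1.sub hx) y hy
  have h2 := h.2.2 a (by rw [hA]; trivial) x hx
  rw [h1] at h2
  exact hyS h2

theorem d1_pt : A d1.T = MulAction.stabilizer Spor.M11 (pt 1) := by
  have h1 : fin d1.T = {pt 1} := by
    ext x
    revert x
    decide +kernel
  ext g
  rw [MulAction.mem_stabilizer_iff, MulAction.mem_stabilizer_iff, h1, Finset.smul_finset_singleton,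
    Finset.singleton_inj]

theorem a1 : 720 ∣ Nat.card (A d1.T) := by
  have := fin'
  have h1 : (A d1.T).index = 11 := by
    rw [d1_pt, index_of_tr inv tr (by show idx (pt 1) ∈ LO; decide), nc]
  have h2 := card_mul_index (A d1.T)
  rw [h1, card] at h2
  have h3 : Nat.card (A d1.T) = 720 := by omega
  rw [h3]

theorem a2 : 18 ∣ Nat.card (A d2.T) := dvd_of p2 n2 m2

theorem a3 : 24 ∣ Nat.card (A d3.T) := dvd_of p3 n3 m3

theorem a4' : 30 ∣ Nat.card (A d4.T) := dvd_of p4 n4 m4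

theorem okU : okE Pu = true := by (rewrite [Cfsg.Agent.GolayF.f0.2]; decide +kernel)
theorem okV : okE Pv = true := by (rewrite [Cfsg.Agent.GolayF.f0.2]; decide +kernel)
theorem okX : okE Px = true := by (rewrite [Cfsg.Agent.GolayF.f0.2]; decide +kernel)
theorem okY : okE Py = true := by (rewrite [Cfsg.Agent.GolayF.f0.2]; decide +kernel)

private noncomputable def _root_.Cfsg.Agent.GolayF.f2 : {f // @Cfsg.Agent.H865.Sep.ppow = f} :=
  ⟨_, by delta Cfsg.Agent.H865.Sep.ppow Cfsg.Agent.H865.Sep.ppow._f; rewrite [Cfsg.Agent.GolayF.pcomp_eq]; exact rfl⟩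

theorem a4 : 120 ∣ Nat.card (A d4.T) := by
  have := fin'
  have h8 : 8 ∣ Nat.card (A d4.T) := by
    have hu2 : ¬ (E modE okU) ^ 2 = 1 := by
      intro h
      have okQ : okE (ppow Pu 2) = true := by (rewrite [Cfsg.Agent.GolayF.f0.2, Cfsg.Agent.GolayF.f2.2]; decide +kernel)
      rw [E_pow' modE okU okQ (Nat.beq_refl _)] at h
      exact E_ne modE okQ 2 (by decide) (by (rewrite [Cfsg.Agent.GolayF.f2.2, Cfsg.Agent.GolayF.papp_eq]; decide +kernel)) (by (rewrite [Cfsg.Agent.GolayF.f2.2, Cfsg.Agent.GolayF.papp_eq]; decide +kernel)) h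
    have hu4 : (E modE okU) ^ 4 = 1 := E_pow modE okU (by (rewrite [Cfsg.Agent.GolayF.f2.2]; decide +kernel))
    have hv2 : E modE okV * E modE okV = 1 := by
      rw [← sq]
      exact E_pow modE okV (by (rewrite [Cfsg.Agent.GolayF.f2.2]; decide +kernel))
    have huvu : E modE okU * E modE okV * E modE okU = E modE okV := by
      have okR : okE (pcomp Pu Pv) = true := by (rewrite [Cfsg.Agent.GolayF.f0.2, Cfsg.Agent.GolayF.pcomp_eq]; decide +kernel)
      rw [E_mul modE okU okV okR (Nat.beq_refl _), E_mul modE okR okU okV (by (rewrite [Cfsg.Agent.GolayF.pcomp_eq]; decide +kernel))]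
    have ho : orderOf (E modE okU) = 4 := by
      have := orderOf_eq_prime_pow (p := 2) (n := 1) (x := E modE okU) (by simpa only [_root_.pow_one] using hu2) (by simpa only [_root_.Nat.reduceAdd, _root_.Nat.reducePow] using hu4)
      simpa using this
    refine eight_dvd (u := E modE okU) (v := E modE okV) ?_ ?_ ho ?_ hv2 ?_
    · rw [MulAction.mem_stabilizer_iff, E_fin]
      exact congrArg fin (Nat.eq_of_beq_eq_true (by (rewrite [Cfsg.Agent.GolayF.pimg_eq]; decide +kernel)))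
    · rw [MulAction.mem_stabilizer_iff, E_fin]
      exact congrArg fin (Nat.eq_of_beq_eq_true (by (rewrite [Cfsg.Agent.GolayF.pimg_eq]; decide +kernel)))
    · rw [eq_inv_mul_iff_mul_eq, ← mul_assoc]
      exact huvu
    · intro h
      -- `v` would commute with `u`
      obtain ⟨k, hk⟩ := h
      have h1 : E modE okU * E modE okV = E modE okV * E modE okU := by
        show E modE okU * _ = _
        rw [← hk]
        show _ * (E modE okU) ^ k = (E modE okU) ^ k * _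
        rw [← zpow_one_add, ← zpow_add_one, add_comm]
      rw [mul_assoc, ← h1, ← mul_assoc] at huvu
      exact hu2 (by rw [sq]; exact mul_eq_right.1 huvu)
  exact Nat.lcm_dvd h8 a4'

/-- the fifth subgroup: the normalizer of a cyclic group of order 11 -/
noncomputable def A5 : Subgroup Spor.M11 := normalizer ((zpowers (E modE okX) : Subgroup Spor.M11) : Set Spor.M11)

theorem ordX : orderOf (E modE okX) = 11 := by
  have : Fact (Nat.Prime 11) := ⟨by norm_num⟩
  exact orderOf_eq_prime (E_pow modE okX (by (rewrite [Cfsg.Agent.GolayF.f2.2]; decide +kernel)))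
    (E_ne modE okX 1 (by decide) (by (rewrite [Cfsg.Agent.GolayF.papp_eq]; decide +kernel)) (by (rewrite [Cfsg.Agent.GolayF.papp_eq]; decide +kernel)))

theorem ordY : orderOf (E modE okY) = 5 := by
  have : Fact (Nat.Prime 5) := ⟨by norm_num⟩
  exact orderOf_eq_prime (E_pow modE okY (by (rewrite [Cfsg.Agent.GolayF.f2.2]; decide +kernel)))
    (E_ne modE okY 2 (by decide) (by (rewrite [Cfsg.Agent.GolayF.papp_eq]; decide +kernel)) (by (rewrite [Cfsg.Agent.GolayF.papp_eq]; decide +kernel)))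

theorem a5 : 55 ∣ Nat.card A5 := by
  have := fin'
  have h1 : 11 ∣ Nat.card A5 := by
    rw [← ordX, ← Nat.card_zpowers]
    exact card_dvd_of_le le_normalizer
  have h2 : E modE okY ∈ A5 := by
    have h3 : E modE okY * E modE okX * (E modE okY)⁻¹ = E modE okX ^ 4 := by
      have okR : okE (ppow Px 4) = true := by (rewrite [Cfsg.Agent.GolayF.f0.2, Cfsg.Agent.GolayF.f2.2]; decide +kernel)
      rw [mul_inv_eq_iff_eq_mul, E_pow' modE okX okR (Nat.beq_refl _)]
      exact E_rel modE okY okX okR okY (by (rewrite [Cfsg.Agent.GolayF.f2.2, Cfsg.Agent.GolayF.pcomp_eq]; decide +kernel))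
    refine mem_normalizer_fintype ?_
    rintro _ ⟨k, rfl⟩
    show E modE okY * (E modE okX) ^ k * (E modE okY)⁻¹ ∈ zpowers (E modE okX)
    rw [← conj_zpow, h3]
    exact zpow_mem (pow_mem (mem_zpowers _) 4) k
  have h3 : 5 ∣ Nat.card A5 := by
    rw [← ordY, ← Nat.card_zpowers]
    exact card_dvd_of_le (zpowers_le.2 h2)
  exact Nat.lcm_dvd h3 h1

theorem a5_ne : A5 ≠ ⊤ := by
  intro h
  have := simple
  have := fin'
  have hn : (zpowers (E modE okX)).Normal := normalizer_eq_top_iff.1 h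
  rcases hn.eq_bot_or_eq_top with h1 | h1
  · have := ordX
    rw [zpowers_eq_bot.1 h1, orderOf_one] at this
    exact absurd this (by decide)
  · have h2 := Nat.card_zpowers (E modE okX)
    rw [h1, ordX, card_top, card] at h2
    exact absurd h2 (by decide)

/-- the row `M11` -/
theorem five' : Sep 5 Spor.M11 := by
  have := simple
  have := fin'
  have hp : Nat.Prime 11 := by norm_num
  have hd : 11 ∣ 7920 := ⟨720, rfl⟩
  exact sep_five (ne_top_of p1) (ne_top_of p2) (ne_top_of p3) (ne_top_of p4) a5_ne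
    (apart_of_pat hp card hd finO inv p1.1 p2.1 nc n1 n2 (by decide) (by decide) a1 a2 (by decide +kernel))
    (apart_of_pat hp card hd finO inv p1.1 p3.1 nc n1 n3 (by decide) (by decide) a1 a3 (by decide +kernel))
    (apart_of_pat hp card hd finO inv p1.1 p4.1 nc n1 n4 (by decide) (by decide) a1 a4 (by decide +kernel))
    (apart_of_lcm hp card hd a1 a5 (by decide +kernel))
    (apart_of_pat hp card hd finO inv p2.1 p3.1 nc n2 n3 (by decide) (by decide) a2 a3 (by decide +kernel))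
    (apart_of_pat hp card hd finO inv p2.1 p4.1 nc n2 n4 (by decide) (by decide) a2 a4 (by decide +kernel))
    (apart_of_lcm hp card hd a2 a5 (by decide +kernel))
    (apart_of_pat hp card hd finO inv p3.1 p4.1 nc n3 n4 (by decide) (by decide) a3 a4 (by decide +kernel))
    (apart_of_lcm hp card hd a3 a5 (by decide +kernel))
    (apart_of_lcm hp card hd a4 a5 (by decide +kernel))

/-- the row `M11` -/
theorem five (_B : Cfsg.Agent.H940.Eng.Base) : Sep 5 Spor.M11 := five'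

end Cfsg.Agent.H865.Sep.M11
end

-- part: H865/Sep/MTwelveData
section
/-!
# Data for the row `M12` of S5906/S5907
-/

set_option autoImplicit false

namespace Cfsg.Agent.H865.Sep.M12

/-- data -/
def g0 : List Nat := [297880992789760191631310929552083200, 726056647044473362504566051771255820]

/-- data -/
def LmD : List Nat := [1, 4096, 2, 256, 512, 8192, 65536, 16, 262144, 8, 4, 64]

/-- data -/
def RmD : List (Nat × Nat) := [(1, 0), (0, 1), (0, 2), (0, 3), (1, 3), (0, 4), (1, 4), (0, 5), (0, 6), (1, 6), (0, 7)]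

/-- data -/
def LmE : List Nat := [32, 2048, 524288, 131072, 2097152, 4194304, 8388608, 32768, 1024, 128, 16384, 1048576]

/-- data -/
def RmE : List (Nat × Nat) := [(0, 0), (1, 0), (0, 1), (0, 2), (1, 2), (1, 3), (0, 4), (1, 4), (0, 6), (1, 7), (1, 8)]

/-- data -/
def LtD : List Nat := [7, 261, 4105, 517, 12296, 19, 4354, 65541, 4120, 262162, 262402, 321, 4609, 770, 8195, 13, 4108, 82, 8512, 66049,
  8960, 73729, 12352, 65539, 4114, 66304, 8209, 262401, 266241, 21, 4360, 22, 266, 4416, 577, 266752, 270400, 65545,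
  4116, 328192, 270352, 262153, 266244, 266242, 262210, 265, 4101, 322, 515, 66056, 8212, 262209, 8705, 77824, 69634,
  69, 4616, 530, 8450, 324, 521, 784, 8449, 4610, 8258, 69633, 4176, 73730, 65554, 274432, 327744, 25, 4356, 70, 522,
  73736, 65556, 69888, 8198, 65546, 12544, 65601, 529, 4106, 4864, 8257, 65793, 4113, 65560, 276, 262212, 262664,
  12289, 69696, 327681, 266256, 262154, 262150, 4168, 274, 65856, 262912, 270337, 4612, 8264, 65553, 4368, 66112,
  8720, 262657, 65794, 266496, 11, 4102, 4162, 578, 262408, 262149, 328, 270338, 327682, 65604, 81, 518, 8202, 73,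
  65808, 273, 262168, 262404, 76, 524, 280, 262658, 4164, 4624, 259, 66050, 8210, 266304, 12292, 67, 88, 772, 580,
  8712, 65608, 73744, 262147, 8201, 69636, 8464, 8452, 832, 8260, 74240, 331776, 65542, 26, 262464, 8706, 69640, 84,
  262672, 69648, 776, 8197, 4353, 262, 73984, 270592, 8456, 4161, 4672, 65796, 262416, 584, 8708, 12800, 8272, 592,
  74, 65602, 769, 65800, 12290, 66052, 8216, 327696, 262216, 262660, 262161, 14, 262720, 270848, 270344, 70144,
  327688, 262164, 268, 336, 73792, 327936, 66064, 266248, 270340, 335872, 4099, 8204, 8768, 327684, 12304, 536,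
  65548, 28, 262224, 73732, 65616, 532, 262156]

/-- data -/
def RtD : List (Nat × Nat) := [(0, 0), (1, 0), (0, 1), (1, 1), (0, 2), (1, 2), (0, 3), (1, 3), (0, 4), (1, 4), (0, 5), (1, 5), (0, 6), (1, 6),
  (0, 7), (1, 7), (0, 8), (0, 9), (1, 9), (0, 10), (1, 10), (1, 11), (0, 12), (1, 12), (0, 13), (1, 13), (0, 14), (1,
  14), (0, 15), (1, 15), (0, 16), (1, 16), (0, 17), (1, 17), (0, 18), (1, 18), (0, 19), (1, 19), (0, 20), (1, 20),
  (0, 21), (1, 21), (0, 22), (1, 22), (0, 23), (1, 23), (0, 24), (1, 24), (0, 25), (1, 25), (0, 26), (0, 27), (1,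
  27), (1, 28), (0, 29), (1, 29), (0, 30), (1, 30), (0, 31), (1, 31), (0, 32), (1, 32), (0, 33), (1, 33), (0, 34),
  (1, 34), (0, 35), (1, 35), (0, 36), (1, 36), (0, 37), (1, 37), (0, 38), (1, 38), (0, 39), (1, 39), (1, 41), (0,
  42), (1, 42), (0, 44), (1, 44), (0, 45), (1, 46), (0, 47), (1, 47), (0, 48), (1, 48), (0, 49), (1, 49), (0, 50),
  (1, 50), (0, 51), (1, 51), (0, 52), (1, 52), (0, 53), (1, 53), (1, 55), (1, 56), (0, 57), (0, 58), (1, 58), (0,
  59), (1, 59), (0, 60), (1, 60), (0, 61), (1, 61), (0, 62), (0, 63), (0, 64), (0, 65), (1, 65), (0, 66), (1, 66),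
  (0, 67), (1, 67), (0, 68), (0, 69), (1, 69), (1, 70), (0, 71), (0, 72), (1, 72), (1, 73), (0, 74), (1, 74), (0,
  75), (1, 75), (0, 76), (1, 76), (0, 79), (0, 80), (1, 81), (1, 82), (1, 83), (0, 84), (1, 84), (1, 85), (1, 86),
  (0, 87), (0, 88), (1, 88), (0, 89), (1, 89), (1, 90), (0, 91), (0, 92), (0, 94), (1, 94), (0, 96), (0, 97), (0,
  99), (1, 100), (0, 101), (1, 102), (0, 103), (1, 103), (1, 104), (1, 106), (0, 107), (1, 107), (1, 108), (1, 109),
  (0, 110), (1, 110), (1, 112), (0, 113), (1, 116), (0, 119), (0, 120), (0, 122), (1, 122), (0, 123), (0, 124), (0,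
  126), (1, 126), (1, 127), (0, 128), (0, 132), (1, 134), (0, 135), (0, 136), (0, 137), (0, 139), (0, 143), (1, 143),
  (0, 145), (0, 147), (1, 147), (0, 149), (0, 150), (0, 151), (1, 151), (1, 152), (0, 153), (0, 155), (1, 155), (0,
  157), (0, 158), (1, 159), (0, 160), (1, 163), (1, 166), (1, 169), (1, 170), (0, 172), (1, 174), (0, 175), (0, 177),
  (1, 183), (0, 184), (0, 186), (1, 186), (0, 187), (0, 190), (1, 193), (0, 199), (0, 216)]

/-- data -/
def LtE : List Nat := [1184, 1067008, 1572896, 656384, 2099328, 2100224, 6815744, 6307840, 13631488, 1212416, 3104, 180224, 1051648,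
  2129952, 4228096, 557088, 33920, 2260992, 12583936, 10502144, 149504, 1574912, 13107200, 8405120, 148480, 3147776,
  8423424, 541696, 8405024, 1097728, 10487808, 4734976, 9453568, 1064992, 12615680, 8406016, 16544, 557184, 132224,
  4849664, 8390784, 2229248, 6293504, 2097312, 4358144, 1572992, 131232, 9437312, 164864, 8519808, 2637824, 5243008,
  526464, 655488, 8913920, 2113664, 163968, 134144, 2621472, 4227200, 525440, 2228352, 527360, 2621568, 8388768,
  540800, 1179776, 524448, 11534336, 4210720, 5259264, 9437216, 6291488, 133152, 4243456, 9438208, 163872, 35840,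
  1083392, 525344, 12582944, 8437760, 3146752, 5244928, 8912928, 1049728, 2228256, 12599296, 8519712, 2654208,
  4195456, 1049632, 3276800, 4196384, 7340032, 5373952, 1605632, 4341760, 9439232, 2131968, 4719616, 49184, 3162112,
  5242912, 5275648, 8389664, 2244608, 3178496, 4195360, 1050752, 655392, 3670016, 4194464, 5243904, 10485792,
  4718624, 526368, 2130048, 3200, 2752512, 34848, 558080, 4327424, 8914944, 49280, 17536, 12584960, 8929280, 8536064,
  8520704, 2115584, 5767168, 2208, 688128, 8913024, 147584, 50176, 132128, 1065984, 3145760, 4229120, 4196480,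
  9043968, 10518528, 4211712, 1081376, 19456, 10486784, 559104, 33824, 2130944, 8421504, 2230272, 8552448, 2113568,
  2098304, 2146304, 18560, 1703936, 4751360, 8389760, 8422400, 2114560, 18464, 1180672, 2099232, 6292480, 1050656,
  17440, 34944, 4720640, 9469952, 1196032, 6324224, 8521728, 542720, 4325408, 9961472, 1589248, 1048736, 165888,
  4325504, 4718720, 4210816, 9568256, 2098208, 1181696, 14680064, 3145856, 1065088, 4212736, 2622464, 51200, 1179680,
  6291584, 12713984, 540704, 1081472, 8391680, 671744, 10616832, 8407040, 147488, 12583040, 8945664, 573440, 657408,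
  1082368, 2623488, 10485888, 8421408, 6422528, 4227104, 32928, 1573888, 4326400, 4197376, 11010048, 133248, 8390688]

/-- data -/
def RtE : List (Nat × Nat) := [(0, 0), (1, 0), (0, 1), (1, 1), (0, 2), (1, 2), (0, 3), (1, 3), (0, 4), (1, 4), (0, 5), (1, 5), (0, 6), (1, 6),
  (0, 7), (1, 7), (1, 8), (0, 9), (1, 9), (0, 10), (1, 10), (0, 11), (1, 11), (0, 12), (1, 12), (0, 13), (1, 13), (0,
  14), (1, 14), (0, 15), (1, 15), (0, 16), (1, 16), (0, 17), (1, 17), (0, 18), (0, 19), (1, 19), (0, 20), (1, 20),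
  (0, 21), (1, 21), (0, 22), (1, 22), (0, 23), (1, 23), (1, 24), (0, 25), (0, 26), (0, 27), (1, 27), (0, 28), (1,
  28), (0, 29), (1, 29), (0, 30), (1, 30), (0, 31), (1, 31), (0, 32), (1, 32), (0, 33), (1, 33), (0, 34), (0, 35),
  (1, 35), (1, 36), (0, 37), (1, 37), (0, 38), (1, 38), (0, 39), (1, 40), (0, 41), (1, 41), (0, 42), (1, 42), (0,
  43), (1, 43), (0, 44), (1, 44), (0, 45), (0, 46), (1, 46), (0, 47), (1, 47), (0, 48), (1, 49), (0, 50), (1, 50),
  (0, 51), (0, 52), (1, 52), (0, 53), (1, 54), (0, 55), (0, 57), (1, 57), (0, 58), (1, 58), (1, 59), (0, 60), (1,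
  60), (0, 61), (1, 61), (0, 62), (0, 63), (1, 63), (0, 64), (1, 64), (0, 65), (1, 65), (0, 66), (1, 66), (1, 67),
  (0, 69), (1, 70), (0, 71), (1, 71), (0, 72), (1, 72), (0, 73), (1, 73), (1, 74), (0, 75), (0, 76), (1, 76), (0,
  77), (0, 78), (1, 78), (1, 79), (0, 80), (1, 80), (0, 81), (1, 81), (0, 82), (0, 83), (0, 85), (1, 85), (0, 86),
  (0, 88), (1, 88), (0, 89), (1, 89), (1, 90), (0, 91), (1, 92), (1, 93), (0, 94), (1, 94), (1, 97), (1, 98), (0,
  99), (0, 100), (1, 102), (1, 104), (0, 105), (1, 105), (0, 106), (1, 106), (0, 107), (1, 107), (0, 108), (0, 109),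
  (1, 109), (1, 111), (0, 112), (0, 113), (0, 114), (1, 116), (0, 117), (0, 118), (0, 119), (0, 120), (1, 120), (0,
  122), (0, 124), (0, 125), (1, 125), (1, 126), (1, 127), (0, 128), (0, 129), (1, 129), (0, 131), (0, 132), (0, 133),
  (0, 134), (1, 136), (0, 137), (1, 139), (1, 140), (0, 141), (0, 142), (1, 142), (0, 144), (1, 144), (0, 145), (0,
  146), (0, 148), (0, 149), (1, 151), (0, 153), (0, 156), (0, 162), (0, 163), (1, 166), (1, 167), (1, 172), (0, 173),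
  (1, 177), (1, 182), (1, 183), (1, 185), (0, 186), (0, 193), (1, 193), (1, 201), (0, 212)]

/-- data -/
def g1 : List Nat := [440877921071757440345811912173293618, 484485578625377503904580765100552227]

/-- data -/
def s1 : List (List Nat × List (Nat × Nat)) := [([1, 262144, 8, 4096, 8192, 256, 65536, 64, 16, 4, 512],
   [(0, 0), (1, 0), (0, 1), (1, 1), (1, 2), (0, 4), (0, 5), (1, 6), (0, 7), (1, 8)])]

/-- data -/
def g2 : List Nat := [445711315637034514636840979037950345, 470723607227425776489239219765624840]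

/-- data -/
def pD2 : List (List Nat × List (Nat × Nat)) := [([0, 9, 8, 1, 18, 6, 12, 13, 3, 2, 4, 16],
   [(0, 0), (1, 0), (0, 1), (1, 1), (1, 2), (0, 3), (0, 4), (0, 6), (1, 6), (1, 7), (1, 9)])]

/-- data -/
def s2 : List (List Nat × List (Nat × Nat)) := [([128, 4194304, 524288, 8388608, 1024, 16384, 2048, 32768, 2097152, 131072, 1048576],
   [(0, 0), (1, 0), (0, 1), (1, 1), (1, 2), (1, 3), (1, 4), (0, 5), (0, 6), (1, 8)])]

/-- data -/
def g3 : List Nat := [984730288765199910941993611765580802, 809403329613850271858080737228161058]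

/-- data -/
def pD3 : List (List Nat × List (Nat × Nat)) := [([0, 2, 1],
   [(0, 0), (0, 1)]),
  ([3, 6, 12, 18, 9, 8, 13, 4, 16],
   [(1, 0), (1, 1), (0, 2), (1, 2), (0, 3), (1, 4), (1, 5), (0, 6)])]

/-- data -/
def pE3 : List (List Nat × List (Nat × Nat)) := [([5, 17, 21, 14, 23, 19, 7, 20, 22, 15, 10, 11],
   [(0, 0), (1, 0), (0, 1), (1, 1), (0, 2), (1, 3), (1, 5), (1, 6), (0, 7), (1, 7), (1, 10)])]

/-- data -/
def s3 : List (List Nat × List (Nat × Nat)) := [([336, 12352, 4120, 327744, 70144, 270344, 584, 266496, 262672, 8960, 65800, 73744],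
   [(0, 0), (1, 0), (0, 1), (1, 1), (0, 2), (1, 2), (1, 3), (0, 4), (1, 4), (0, 5), (1, 9)]),
  ([11, 13, 70, 14, 69, 67, 4099, 4101, 4102, 262149, 518, 262150, 517, 262147, 515, 262, 8195, 259, 8197, 261, 8198,
   19, 65541, 65542, 22, 21, 65539],
   [(0, 0), (1, 0), (0, 1), (1, 1), (0, 2), (1, 2), (1, 4), (1, 5), (0, 6), (1, 6), (0, 7), (1, 7), (0, 8), (1, 8),
   (0, 9), (1, 10), (0, 11), (1, 12), (0, 13), (1, 14), (1, 15), (0, 16), (1, 16), (1, 17), (1, 19), (0, 20)]),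
  ([88, 8264, 4168, 65608, 69696, 262216, 4672, 4416, 262224, 4864, 328, 266304, 262720, 12800, 4624, 8512, 266248,
   266752, 8720, 4176, 262464, 832, 274432, 328192, 74240, 270848, 8712, 69648, 262408, 262912, 73736, 270400, 4616,
   266256, 12304, 327936, 784, 270592, 66064, 73984, 66304, 335872, 66056, 73792, 270352, 776, 4360, 65560, 65856,
   331776, 262664, 8768, 4368, 262416, 8216, 69888, 327696, 8456, 65808, 8464, 536, 65616, 327688, 8272, 592, 66112,
   77824, 12544, 262168, 69640, 280, 12296],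
   [(0, 0), (1, 0), (0, 1), (1, 1), (0, 2), (1, 2), (1, 3), (0, 4), (1, 4), (0, 5), (1, 5), (0, 6), (1, 6), (1, 7),
   (0, 8), (1, 8), (0, 9), (1, 9), (1, 10), (0, 11), (0, 12), (1, 12), (0, 13), (1, 13), (0, 14), (1, 14), (1, 15),
   (0, 16), (0, 17), (1, 18), (0, 19), (1, 19), (1, 20), (1, 21), (0, 22), (0, 23), (1, 23), (0, 24), (1, 24), (0,
   25), (1, 25), (0, 26), (1, 26), (0, 27), (1, 27), (0, 28), (0, 30), (1, 30), (1, 31), (0, 32), (1, 32), (0, 35),
   (1, 35), (1, 36), (0, 37), (1, 37), (1, 38), (1, 39), (1, 40), (0, 42), (0, 43), (1, 44), (1, 45), (1, 46), (0,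
   51), (1, 51), (0, 53), (1, 53), (0, 57), (1, 58), (1, 64)]),
  ([25, 8204, 76, 65546, 65601, 74, 4161, 322, 84, 4356, 73, 4162, 262212, 4612, 4114, 8258, 4105, 266242, 529, 4164,
   262209, 4610, 266241, 262658, 8705, 270337, 522, 69634, 262156, 580, 262401, 8708, 262210, 4609, 324, 266244,
   262657, 8706, 262404, 262660, 769, 270338, 66052, 73732, 65796, 327684, 521, 262161, 770, 266, 578, 12289, 262164,
   66050, 73729, 321, 4113, 262402, 772, 270340, 66049, 73730, 4354, 8212, 65793, 327682, 530, 8449, 65554, 273, 274,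
   524, 8260, 8452, 8210, 82, 577, 12290, 8450, 262153, 65556, 4116, 4353, 262162, 8209, 65794, 327681, 532, 65553,
   65545, 276, 8202, 69636, 12292, 28, 26, 8257, 65602, 69633, 4106, 268, 265, 262154, 65548, 8201, 65604, 81, 4108],
   [(0, 0), (1, 0), (0, 1), (1, 1), (0, 2), (1, 2), (1, 3), (0, 4), (1, 4), (0, 5), (1, 5), (0, 6), (1, 6), (1, 7),
   (0, 8), (1, 8), (0, 9), (1, 9), (1, 10), (0, 11), (1, 11), (1, 12), (0, 13), (1, 13), (0, 14), (1, 14), (1, 15),
   (0, 16), (1, 16), (0, 17), (0, 18), (0, 19), (1, 19), (0, 20), (1, 20), (0, 21), (1, 21), (0, 22), (1, 22), (0,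
   23), (1, 23), (0, 24), (1, 24), (0, 25), (1, 25), (0, 26), (0, 27), (1, 27), (0, 28), (0, 29), (1, 29), (1, 30),
   (0, 31), (1, 31), (0, 32), (1, 34), (0, 35), (0, 36), (1, 36), (0, 37), (1, 37), (0, 38), (1, 40), (0, 41), (1,
   41), (0, 42), (1, 42), (0, 43), (1, 44), (0, 45), (0, 46), (1, 46), (0, 47), (1, 48), (1, 49), (0, 50), (1, 50),
   (0, 52), (1, 52), (0, 54), (1, 55), (0, 57), (1, 57), (1, 58), (0, 59), (1, 59), (0, 60), (0, 61), (1, 63), (1,
   64), (1, 66), (0, 67), (0, 69), (1, 69), (1, 70), (1, 71), (0, 72), (1, 72), (1, 75), (0, 79), (1, 80), (1, 83),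
   (1, 84), (1, 87), (0, 96), (0, 97), (0, 101)])]

/-- data -/
def g4 : List Nat := [812218564889754907405599147476339080, 815821195733241973659469695087021634]

/-- data -/
def pD4 : List (List Nat × List (Nat × Nat)) := [([0, 8, 2, 16, 18, 3, 4, 9, 6, 1, 13, 12],
   [(0, 0), (1, 0), (1, 1), (0, 2), (1, 2), (1, 3), (1, 4), (0, 5), (0, 6), (0, 7), (0, 9)])]

/-- data -/
def pE4 : List (List Nat × List (Nat × Nat)) := [([5, 7, 10],
   [(0, 0), (1, 0)]),
  ([11, 20, 21, 23, 17, 22, 15, 19, 14],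
   [(0, 0), (1, 0), (0, 1), (1, 1), (0, 2), (1, 2), (0, 3), (0, 6)])]

/-- data -/
def s4 : List (List Nat × List (Nat × Nat)) := [([688128, 2146304, 4212736, 8423424, 1181696, 11534336, 1589248, 2623488, 6422528, 13107200, 8536064, 5275648],
   [(0, 0), (1, 0), (1, 1), (0, 2), (1, 2), (0, 3), (1, 3), (1, 4), (0, 5), (1, 6), (0, 7)]),
  ([2208, 1048736, 2098208, 8388768, 132128, 4195456, 33920, 524448, 525344, 2098304, 17440, 32928, 17536, 4195360,
   3200, 8389760, 16544, 3104, 132224, 1049728, 1049632, 2097312, 8389664, 4194464, 131232, 33824, 525440],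
   [(0, 0), (1, 0), (0, 1), (1, 1), (0, 2), (1, 2), (0, 3), (1, 3), (0, 4), (0, 6), (0, 7), (1, 8), (0, 9), (0, 10),
   (1, 10), (0, 11), (1, 11), (0, 13), (1, 13), (0, 14), (1, 14), (1, 16), (1, 18), (1, 19), (1, 21), (0, 22)]),
  ([51200, 1067008, 10487808, 9439232, 10616832, 5767168, 2654208, 9961472, 2752512, 6815744, 4751360, 8552448,
   1196032, 4243456, 8945664, 671744, 6324224, 4358144, 1097728, 180224, 2637824, 4720640, 12713984, 149504, 573440,
   542720, 2131968, 12599296, 4341760, 1083392, 2244608, 5244928, 8407040, 8521728, 2115584, 12584960, 4229120,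
   8437760, 1212416, 3162112, 3147776, 14680064, 10502144, 5259264, 657408, 2230272, 13631488, 9453568, 6293504,
   12615680, 9568256, 3276800, 1574912, 11010048, 3670016, 10518528, 1703936, 8914944, 4327424, 2260992, 4849664,
   1605632, 3178496, 6307840, 7340032, 9043968, 5373952, 9469952, 4734976, 559104, 165888, 8929280],
   [(0, 0), (1, 0), (0, 1), (1, 1), (0, 2), (1, 2), (0, 3), (1, 3), (0, 4), (1, 4), (0, 5), (1, 5), (0, 6), (0, 7),
   (1, 7), (0, 8), (0, 9), (1, 9), (0, 10), (0, 11), (1, 11), (1, 12), (0, 13), (0, 14), (1, 14), (0, 15), (1, 15),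
   (0, 16), (1, 16), (0, 17), (1, 17), (0, 18), (1, 18), (0, 19), (1, 19), (0, 20), (1, 20), (0, 21), (1, 21), (0,
   23), (1, 23), (1, 25), (0, 26), (0, 27), (0, 28), (1, 28), (0, 29), (0, 30), (1, 30), (0, 31), (1, 31), (0, 32),
   (1, 32), (0, 33), (1, 34), (0, 35), (1, 37), (1, 38), (1, 40), (0, 41), (1, 41), (0, 44), (1, 44), (0, 45), (0,
   46), (0, 48), (0, 52), (0, 55), (1, 55), (1, 62), (0, 67)]),
  ([18464, 1050752, 10486784, 9437216, 2228256, 4719616, 557184, 8913024, 656384, 6291584, 4228096, 164864, 1065088,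
   49184, 557088, 540704, 2130944, 4210816, 4325408, 1081376, 148480, 2114560, 4196480, 8390688, 8519712, 18560,
   8391680, 49280, 19456, 34944, 8406016, 4211712, 133152, 2228352, 5243904, 8405120, 134144, 2100224, 12583040,
   4197376, 8421504, 1179680, 3145760, 1572992, 2622464, 2621568, 1050656, 10485792, 1573888, 1051648, 10485888,
   1064992, 2099232, 527360, 9437312, 3145856, 6292480, 6291488, 4227104, 8520704, 1179776, 526368, 8912928, 3146752,
   2130048, 655392, 1572896, 1180672, 4326400, 8421408, 147488, 2229248, 4718720, 558080, 8422400, 147584, 9438208,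
   4718624, 8390784, 5243008, 1082368, 2113664, 12582944, 163872, 1081472, 4325504, 541696, 12583936, 163968,
   4210720, 34848, 540800, 2099328, 4227200, 50176, 526464, 8913920, 655488, 1065984, 2621472, 133248, 4196384,
   8405024, 5242912, 35840, 2113568, 2129952, 8519808],
   [(0, 0), (1, 0), (0, 1), (1, 1), (0, 2), (1, 2), (0, 3), (1, 3), (0, 4), (1, 4), (0, 5), (1, 5), (0, 6), (0, 7),
   (1, 7), (0, 8), (1, 8), (0, 9), (1, 9), (0, 10), (0, 11), (1, 11), (0, 12), (1, 12), (0, 13), (1, 13), (0, 14),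
   (1, 14), (0, 15), (1, 15), (0, 16), (0, 17), (0, 18), (1, 18), (0, 19), (1, 19), (0, 20), (1, 20), (0, 21), (1,
   21), (0, 22), (1, 22), (0, 23), (1, 23), (0, 24), (0, 25), (1, 25), (0, 26), (0, 28), (1, 28), (0, 29), (1, 29),
   (0, 30), (1, 31), (0, 32), (1, 32), (0, 33), (1, 33), (0, 34), (1, 34), (0, 35), (1, 35), (0, 36), (1, 37), (0,
   38), (1, 38), (0, 39), (1, 41), (0, 43), (1, 43), (1, 46), (0, 47), (1, 47), (0, 48), (1, 48), (0, 49), (0, 50),
   (0, 51), (0, 52), (0, 53), (1, 53), (0, 55), (1, 55), (1, 56), (0, 57), (1, 62), (0, 63), (1, 63), (0, 64), (1,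
   64), (0, 69), (0, 70), (1, 71), (0, 73), (1, 74), (0, 76), (1, 76), (1, 77), (1, 78), (1, 80), (0, 81), (0, 84),
   (1, 85), (0, 86), (0, 88), (1, 92), (1, 98)])]

/-- data -/
def g5 : List Nat := [444556749466900581221126424522600449, 849355747156923311640015795359158304]

/-- data -/
def pD5 : List (List Nat × List (Nat × Nat)) := [([0, 1],
   [(0, 0)]),
  ([2, 12, 4, 16, 9, 6, 18, 8, 13, 3],
   [(0, 0), (1, 0), (1, 1), (0, 2), (1, 2), (0, 3), (1, 3), (1, 5), (0, 7)])]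

/-- data -/
def pE5 : List (List Nat × List (Nat × Nat)) := [([5, 21, 23, 15, 10, 20, 19, 22, 7, 14, 17, 11],
   [(0, 0), (1, 0), (0, 1), (1, 1), (1, 2), (0, 3), (1, 3), (1, 5), (0, 6), (1, 6), (1, 9)])]

end Cfsg.Agent.H865.Sep.M12
end

-- part: H865/Sep/MTwelve
section
/-!
# Row `M12` of S5906/S5907: five classes of maximal subgroups (helper865)

The stabilizers of a point and of a 3-set in both orbits of length 12 are maximal; the fifth subgroup is the
stabilizer of a pair.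
-/

set_option autoImplicit false
set_option maxRecDepth 100000

open scoped Pointwise

namespace Cfsg.Agent.H865.Sep.M12

open Subgroup Cfsg Cfsg.Agent.H940.MaxCls
open Cfsg.Agent.SporadicA.GolayBase Cfsg.Agent.SporadicA.GolayPerm
open Cfsg.Agent.H865.Sep.M11 (ddm sq_eq okD modD)

theorem card : Nat.card Spor.M12 = 95040 := Cfsg.Agent.MTwelveType.SylowModel.card_M12

theorem simple : IsSimpleGroup Spor.M12 := Cfsg.Agent.FooteOdd.SporMTwelve.simple

theorem fin' : Finite Spor.M12 := Nat.finite_of_card_ne_zero (by rw [card]; decide)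

/-- the complement of the dodecad -/
def ddc : ℕ := 16436384

theorem mem_ddc (x : GolayPt) : x ∈ fin ddc ↔ x ∉ fin ddm := by
  revert x
  decide +kernel

theorem invD : InvD Spor.M12 ddm := by
  rintro ⟨g, hg⟩ x hx
  obtain ⟨hg0, hg1⟩ := Subgroup.mem_inf.1 hg
  rw [MulAction.mem_stabilizer_iff, sq_eq] at hg1
  show g • x ∈ _
  rw [← hg1]
  exact Finset.smul_mem_smul_finset hx

theorem invE : InvD Spor.M12 ddc := by
  intro g x hx
  rw [mem_ddc] at hx ⊢
  intro h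
  apply hx
  have := invD g⁻¹ _ h
  rwa [inv_smul_smul] at this

private noncomputable def _root_.Cfsg.Agent.GolayF.f3 : {f // @Cfsg.Agent.H865.Sep.M11.okD = f} :=
  ⟨_, by delta Cfsg.Agent.H865.Sep.M11.okD Cfsg.Agent.SporadicStructure.M24El.ok; rewrite [Cfsg.Agent.GolayF.pimg_eq, Cfsg.Agent.GolayF.isPerm_eq, Cfsg.Agent.GolayF.isAut_eq]; exact rfl⟩

private noncomputable def _root_.Cfsg.Agent.GolayF.f4 : {f // @Cfsg.Agent.H865.Sep.chkM = f} :=
  ⟨_, by delta Cfsg.Agent.H865.Sep.chkM; rewrite [Cfsg.Agent.GolayF.pimg_eq]; exact rfl⟩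

private noncomputable def _root_.Cfsg.Agent.GolayF.f5 : {f // @Cfsg.Agent.H865.Sep.chkL = f} :=
  ⟨_, by delta Cfsg.Agent.H865.Sep.chkL; rewrite [Cfsg.Agent.GolayF.popcount_eq]; exact rfl⟩

private noncomputable def _root_.Cfsg.Agent.GolayF.f6 : {f // @Cfsg.Agent.H865.Sep.chkMs = f} :=
  ⟨_, by delta Cfsg.Agent.H865.Sep.chkM Cfsg.Agent.H865.Sep.chkMs; rewrite [Cfsg.Agent.GolayF.pimg_eq]; exact rfl⟩

theorem c1 : IsCoatom (MulAction.stabilizer Spor.M12 (fin 2)) :=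
  coatom_of_chk modD fin' (k := 1) invD (g0 := g0) (L0 := LmD) (tr0 := RmD) (gens := g1) (l := s1) (by (rewrite [Cfsg.Agent.GolayF.f3.2, Cfsg.Agent.GolayF.f4.2]; decide +kernel))
    (by (rewrite [Cfsg.Agent.GolayF.f5.2]; decide +kernel)) (by decide +kernel) (by (rewrite [Cfsg.Agent.GolayF.f3.2, Cfsg.Agent.GolayF.f6.2]; decide +kernel)) (by (rewrite [Cfsg.Agent.GolayF.f5.2]; decide +kernel)) (by decide +kernel)
    (by decide +kernel) (by decide +kernel)

theorem c2 : IsCoatom (MulAction.stabilizer Spor.M12 (fin 32)) :=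
  coatom_of_chk modD fin' (k := 1) invE (g0 := g0) (L0 := LmE) (tr0 := RmE) (gens := g2) (l := s2) (by (rewrite [Cfsg.Agent.GolayF.f3.2, Cfsg.Agent.GolayF.f4.2]; decide +kernel))
    (by (rewrite [Cfsg.Agent.GolayF.f5.2]; decide +kernel)) (by decide +kernel) (by (rewrite [Cfsg.Agent.GolayF.f3.2, Cfsg.Agent.GolayF.f6.2]; decide +kernel)) (by (rewrite [Cfsg.Agent.GolayF.f5.2]; decide +kernel)) (by decide +kernel)
    (by decide +kernel) (by decide +kernel)

theorem c3 : IsCoatom (MulAction.stabilizer Spor.M12 (fin 7)) :=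
  coatom_of_chk modD fin' (k := 3) invD (g0 := g0) (L0 := LtD) (tr0 := RtD) (gens := g3) (l := s3) (by (rewrite [Cfsg.Agent.GolayF.f3.2, Cfsg.Agent.GolayF.f4.2]; decide +kernel))
    (by (rewrite [Cfsg.Agent.GolayF.f5.2]; decide +kernel)) (by exact Cfsg.Agent.NodupNat.of_go (by decide +kernel)) (by (rewrite [Cfsg.Agent.GolayF.f3.2, Cfsg.Agent.GolayF.f6.2]; decide +kernel)) (by (rewrite [Cfsg.Agent.GolayF.f5.2]; decide +kernel)) (by exact Cfsg.Agent.NodupNat.of_go (by decide +kernel))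
    (by decide +kernel) (by decide +kernel)

theorem c4 : IsCoatom (MulAction.stabilizer Spor.M12 (fin 1184)) :=
  coatom_of_chk modD fin' (k := 3) invE (g0 := g0) (L0 := LtE) (tr0 := RtE) (gens := g4) (l := s4) (by (rewrite [Cfsg.Agent.GolayF.f3.2, Cfsg.Agent.GolayF.f4.2]; decide +kernel))
    (by (rewrite [Cfsg.Agent.GolayF.f5.2]; decide +kernel)) (by exact Cfsg.Agent.NodupNat.of_go (by decide +kernel)) (by (rewrite [Cfsg.Agent.GolayF.f3.2, Cfsg.Agent.GolayF.f6.2]; decide +kernel)) (by (rewrite [Cfsg.Agent.GolayF.f5.2]; decide +kernel)) (by exact Cfsg.Agent.NodupNat.of_go (by decide +kernel))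
    (by decide +kernel) (by decide +kernel)

theorem m1 : fin 2 ∈ SK 1 ddm := ⟨by decide +kernel, by decide +kernel⟩
theorem m2 : fin 32 ∈ SK 1 ddc := ⟨by decide +kernel, by decide +kernel⟩
theorem m3 : fin 7 ∈ SK 3 ddm := ⟨by decide +kernel, by decide +kernel⟩
theorem m4 : fin 1184 ∈ SK 3 ddc := ⟨by decide +kernel, by decide +kernel⟩

private noncomputable def _root_.Cfsg.Agent.GolayF.f7 : {f // @Cfsg.Agent.H865.Sep.chkTs = f} :=
  ⟨_, by delta Cfsg.Agent.H865.Sep.chkT Cfsg.Agent.H865.Sep.chkTs; rewrite [Cfsg.Agent.GolayF.papp_eq, Cfsg.Agent.GolayF.pimg_eq]; exact rfl⟩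

theorem c5 : MulAction.stabilizer Spor.M12 (fin 3) ≠ ⊤ := by
  intro h
  have h1 : ∀ L ∈ pD2.map Prod.fst, Tr (MulAction.stabilizer Spor.M12 (fin 32)) (PS L) :=
    trs_of_chk modD (gens := g2) (by (rewrite [Cfsg.Agent.GolayF.f3.2, Cfsg.Agent.GolayF.f7.2]; decide +kernel))
  obtain ⟨b, -, h2⟩ := moves h1 (by decide +kernel) (by decide +kernel) (X := fin 3) (by decide +kernel)
    (by decide +kernel)
  have h3 : b ∈ MulAction.stabilizer Spor.M12 (fin 3) := by rw [h]; trivial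
  exact h2 h3

/-- the row `M12` -/
theorem five' : Sep 5 Spor.M12 :=
  sep_five c1.1 c2.1 c3.1 c4.1 c5
    (apart_of_moves modD invD c1 m1 (gens := g2) (l := pD2) (by (rewrite [Cfsg.Agent.GolayF.f3.2, Cfsg.Agent.GolayF.f7.2]; decide +kernel)) (by decide +kernel) (by decide +kernel)
      (by decide +kernel) (by decide +kernel))
    (apart_of_moves modD invD c1 m1 (gens := g3) (l := pD3) (by (rewrite [Cfsg.Agent.GolayF.f3.2, Cfsg.Agent.GolayF.f7.2]; decide +kernel)) (by decide +kernel) (by decide +kernel)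
      (by decide +kernel) (by decide +kernel))
    (apart_of_moves modD invD c1 m1 (gens := g4) (l := pD4) (by (rewrite [Cfsg.Agent.GolayF.f3.2, Cfsg.Agent.GolayF.f7.2]; decide +kernel)) (by decide +kernel) (by decide +kernel)
      (by decide +kernel) (by decide +kernel))
    (apart_of_moves modD invD c1 m1 (gens := g5) (l := pD5) (by (rewrite [Cfsg.Agent.GolayF.f3.2, Cfsg.Agent.GolayF.f7.2]; decide +kernel)) (by decide +kernel) (by decide +kernel)
      (by decide +kernel) (by decide +kernel))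
    (apart_of_moves modD invE c2 m2 (gens := g3) (l := pE3) (by (rewrite [Cfsg.Agent.GolayF.f3.2, Cfsg.Agent.GolayF.f7.2]; decide +kernel)) (by decide +kernel) (by decide +kernel)
      (by decide +kernel) (by decide +kernel))
    (apart_of_moves modD invE c2 m2 (gens := g4) (l := pE4) (by (rewrite [Cfsg.Agent.GolayF.f3.2, Cfsg.Agent.GolayF.f7.2]; decide +kernel)) (by decide +kernel) (by decide +kernel)
      (by decide +kernel) (by decide +kernel))
    (apart_of_moves modD invE c2 m2 (gens := g5) (l := pE5) (by (rewrite [Cfsg.Agent.GolayF.f3.2, Cfsg.Agent.GolayF.f7.2]; decide +kernel)) (by decide +kernel) (by decide +kernel)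
      (by decide +kernel) (by decide +kernel))
    (apart_of_moves modD invD c3 m3 (gens := g4) (l := pD4) (by (rewrite [Cfsg.Agent.GolayF.f3.2, Cfsg.Agent.GolayF.f7.2]; decide +kernel)) (by decide +kernel) (by decide +kernel)
      (by decide +kernel) (by decide +kernel))
    (apart_of_moves modD invD c3 m3 (gens := g5) (l := pD5) (by (rewrite [Cfsg.Agent.GolayF.f3.2, Cfsg.Agent.GolayF.f7.2]; decide +kernel)) (by decide +kernel) (by decide +kernel)
      (by decide +kernel) (by decide +kernel))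
    (apart_of_moves modD invE c4 m4 (gens := g5) (l := pE5) (by (rewrite [Cfsg.Agent.GolayF.f3.2, Cfsg.Agent.GolayF.f7.2]; decide +kernel)) (by decide +kernel) (by decide +kernel)
      (by decide +kernel) (by decide +kernel))

/-- the row `M12` -/
theorem five (_B : Cfsg.Agent.H940.Eng.Base) : Sep 5 Spor.M12 := five'

end Cfsg.Agent.H865.Sep.M12
end

private theorem dce_1b6505578fe7 : _root_.True := by
  try have : _root_.True := by simp only [_root_.Cfsg.Agent.H837.MCU.co.congr_simp]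
  try have : _root_.True := by simp only [_root_.Cfsg.Agent.H950.Su.dvec.eq_1]
  try have : _root_.True := by simp only [_root_.Cfsg.Agent.H837.MCU.im.eq_1]
  try have : _root_.True := by simp only [_root_.Cfsg.Agent.H837.MCU.co.eq_1]
  try have : _root_.True := by simp only [_root_.Cfsg.Agent.H865.Sep.E.congr_simp]
  exact _root_.True.intro
end
end
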